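import Mathlib
import Cfsg.Prelude.Def_Characters
import Cfsg.Prelude.Def_OddOrderChar

/-!
# Peterfalvi section 9, character part: definitions (helper58)

Abstract setting for Peterfalvi (9.8)-(9.11).  `L` is a finite group (think `L = ↥M` for a maximal
subgroup `M` with type-P data), `K = M'`, `H = M_F`, `K = H ⋊ U`, `L = K ⋊ W₁`, `|W₁| = q` prime,
`W₂ = C_K(x)` for every `x ∈ W₁ \ 1`, `H₀ ⊲ L` with `H/H₀` elementary abelian of order `p ^ q`
(the chief factor of (9.4)/(9.5)), `C = C_U(H/H₀) = coreC U H H₀`.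

* `coreC U H H₀` : the kernel of the action of `U` on `H/H₀` (a subgroup, unconditionally).
* `Xset K H N`   : the book's `X(N)`: irreducible characters `θ` of `K` with `N ∩ K ≤ ker θ`, `H ≰ ker θ`.
* `Sbook K H N`  : the book's `S(N)` = `{Ind_K^L θ : θ ∈ X(N)}` (a set of functions on `L`).
* `IsW1Inv K W₁ θ` : `θ` is invariant under conjugation by `W₁` (the formulation of S1513).
* `IsIndLinear A φ` : `φ` is induced from a linear character of the subgroup `A`.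
* `Ctx K H U W₁ W₂ H₀ p q` : the standing hypotheses.
-/

set_option autoImplicit false

namespace Cfsg.Agent.Lib.Helper58.PF9

open Cfsg

universe u

variable {L : Type u} [Group L]

/-- `C_U(H/H₀)`: the elements of `U` normalizing `H` and `H₀` and centralizing `H` modulo `H₀`. -/
def coreC (U H H₀ : Subgroup L) : Subgroup L where
  carrier := {x | x ∈ U ∧ x ∈ Subgroup.normalizer (H : Set L) ∧
    x ∈ Subgroup.normalizer (H₀ : Set L) ∧ ∀ h ∈ H, x * h * x⁻¹ * h⁻¹ ∈ H₀}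
  one_mem' := by
    refine ⟨U.one_mem, Subgroup.one_mem _, Subgroup.one_mem _, ?_⟩
    intro h _
    simp
  mul_mem' := by
    rintro a b ⟨haU, haH, haH₀, ha⟩ ⟨hbU, hbH, hbH₀, hb⟩
    refine ⟨U.mul_mem haU hbU, Subgroup.mul_mem _ haH hbH, Subgroup.mul_mem _ haH₀ hbH₀, ?_⟩
    intro h hh
    have h1 : b * h * b⁻¹ * h⁻¹ ∈ H₀ := hb h hh
    have h2 : a * (b * h * b⁻¹ * h⁻¹) * a⁻¹ ∈ H₀ :=
      (Subgroup.mem_normalizer_iff.mp haH₀ _).mp h1
    have h3 : a * h * a⁻¹ * h⁻¹ ∈ H₀ := ha h hh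
    have : a * b * h * (a * b)⁻¹ * h⁻¹ = a * (b * h * b⁻¹ * h⁻¹) * a⁻¹ * (a * h * a⁻¹ * h⁻¹) := by
      group
    rw [this]
    exact H₀.mul_mem h2 h3
  inv_mem' := by
    rintro a ⟨haU, haH, haH₀, ha⟩
    refine ⟨U.inv_mem haU, Subgroup.inv_mem _ haH, Subgroup.inv_mem _ haH₀, ?_⟩
    intro h hh
    have hh' : a⁻¹ * h * a ∈ H := by
      have := (Subgroup.mem_normalizer_iff.mp (Subgroup.inv_mem _ haH) h).mp hh
      simpa using this
    have h1 : a * (a⁻¹ * h * a) * a⁻¹ * (a⁻¹ * h * a)⁻¹ ∈ H₀ := ha _ hh'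
    have h2 : (a * (a⁻¹ * h * a) * a⁻¹ * (a⁻¹ * h * a)⁻¹)⁻¹ ∈ H₀ := H₀.inv_mem h1
    have : a⁻¹ * h * a⁻¹⁻¹ * h⁻¹ = (a * (a⁻¹ * h * a) * a⁻¹ * (a⁻¹ * h * a)⁻¹)⁻¹ := by
      group
    rw [this]
    exact h2

theorem coreC_le (U H H₀ : Subgroup L) : coreC U H H₀ ≤ U := fun _ hx => hx.1

theorem mem_coreC {U H H₀ : Subgroup L} {x : L} :
    x ∈ coreC U H H₀ ↔ x ∈ U ∧ x ∈ Subgroup.normalizer (H : Set L) ∧
      x ∈ Subgroup.normalizer (H₀ : Set L) ∧ ∀ h ∈ H, x * h * x⁻¹ * h⁻¹ ∈ H₀ := Iff.rfl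

/-- when `H` and `H₀` are normal the normalizer conditions are void -/
theorem mem_coreC_of_normal {U H H₀ : Subgroup L} [H.Normal] [H₀.Normal] {x : L} :
    x ∈ coreC U H H₀ ↔ x ∈ U ∧ ∀ h ∈ H, x * h * x⁻¹ * h⁻¹ ∈ H₀ := by
  rw [mem_coreC]
  constructor
  · rintro ⟨h1, _, _, h4⟩
    exact ⟨h1, h4⟩
  · rintro ⟨h1, h4⟩
    refine ⟨h1, ?_, ?_, h4⟩
    · rw [Subgroup.normalizer_eq_top_iff.mpr inferInstance]; exact Subgroup.mem_top x
    · rw [Subgroup.normalizer_eq_top_iff.mpr inferInstance]; exact Subgroup.mem_top x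

variable [Fintype L]

/-- The book's `X(N)`: the irreducible characters of `K` having `N ∩ K` in the kernel but not `H`. -/
def Xset (K H N : Subgroup L) : Set (↥K → ℂ) :=
  {θ | IsIrrCharacter ↥K θ ∧ (∀ a : ↥K, (a : L) ∈ N → θ a = θ 1) ∧
    ∃ h : ↥K, (h : L) ∈ H ∧ θ h ≠ θ 1}

/-- The book's `S(N)` of section 9: the characters of `L` induced from the members of `X(N)`. -/
def Sbook (K H N : Subgroup L) : Set (L → ℂ) := indFun K '' Xset K H N

/-- `θ` (a function on the normal subgroup `K`) is invariant under conjugation by `W₁`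
(the formulation used in the frozen S1513). -/
def IsW1Inv (K W₁ : Subgroup L) (hK : K.Normal) (θ : ↥K → ℂ) : Prop :=
  ∀ x ∈ W₁, (fun k : K => θ ⟨x * k * x⁻¹, hK.conj_mem (k : L) k.2 x⟩) = θ

/-- `φ` is induced from a linear character of the subgroup `A`. -/
def IsIndLinear (A : Subgroup L) (φ : L → ℂ) : Prop :=
  ∃ ξ : ↥A → ℂ, IsIrrCharacter ↥A ξ ∧ ξ 1 = 1 ∧ φ = indFun A ξ

/-- Standing hypotheses of Peterfalvi (9.2)-(9.6), abstractly in a finite group `L`. -/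
structure Ctx (K H U W₁ W₂ H₀ : Subgroup L) (p q : ℕ) : Prop where
  K_normal : K.Normal
  H_normal : H.Normal
  H₀_normal : H₀.Normal
  H₀_le : H₀ ≤ H
  HU_inf : H ⊓ U = ⊥
  HU_sup : H ⊔ U = K
  KW_inf : K ⊓ W₁ = ⊥
  KW_sup : K ⊔ W₁ = ⊤
  W₁_norm_U : W₁ ≤ Subgroup.normalizer (U : Set L)
  p_prime : p.Prime
  q_prime : q.Prime
  card_W₁ : Nat.card W₁ = q
  odd : Odd (Nat.card L)
  coprime_HU : (Nat.card H).Coprime (Nat.card U)
  coprime_q : (Nat.card K).Coprime q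
  W₂_le : W₂ ≤ H
  W₂_cyclic : IsCyclic W₂
  cent : ∀ x ∈ W₁, x ≠ 1 → K ⊓ Subgroup.centralizer ({x} : Set L) = W₂
  U_nilpotent : Group.IsNilpotent U
  comm_le : ⁅H, H⁆ ≤ H₀
  pow_mem : ∀ h ∈ H, h ^ p ∈ H₀
  relIndex_H₀ : H₀.relIndex H = p ^ q
  relIndex_W₂ : (H₀ ⊓ W₂).relIndex W₂ = p
  not_cent : ¬ ⁅U, H⁆ ≤ H₀

/-- Galois case, in the only form the character theory uses: `U/C` acts semiregularly on
`(H/H₀) \ 1`. -/
def IsGaloisLike (H U H₀ : Subgroup L) : Prop :=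
  ∀ x ∈ U, x ∉ coreC U H H₀ → ∀ h ∈ H, x * h * x⁻¹ * h⁻¹ ∈ H₀ → h ∈ H₀

/-- Non-Galois case: an `U`-invariant axis `H₁/H₀` of order `p` whose `W₁`-conjugates generate
`H` (hence `H/H₀` is their direct product, by orders). -/
structure IsAxis (H U W₁ H₀ H₁ : Subgroup L) (p : ℕ) : Prop where
  H₀_le : H₀ ≤ H₁
  le_H : H₁ ≤ H
  relIndex : H₀.relIndex H₁ = p
  U_norm : U ≤ Subgroup.normalizer (H₁ : Set L)
  iSup_eq : (⨆ w : W₁, H₁.map (MulAut.conj (w : L)).toMonoidHom) = H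

end Cfsg.Agent.Lib.Helper58.PF9
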