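import Mathlib
import Cfsg.Agent.S1516
import Cfsg.Agent.S1517
import Cfsg.Agent.Lib.Helper58.PFNineDefs
import Cfsg.Agent.Lib.Helper78.CharOrtho

/-!
# Peterfalvi section 9: the coherence bookkeeping (helper58)

* `coherenceSystem_subset` : a coherence system restricts to a nonempty conjugation-closed subset.
* `coherent_of_uniform`       : S1517 restated.
* `coherent_of_extend`        : iterated S1516: a coherent conjugation-closed finite subset `S₁` of a finite
  coherence system `S` such that every other member passes the (5.6) test against `S₁` forces `S` coherent.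
-/

set_option autoImplicit false

namespace Cfsg.Agent.Lib.Helper58.PF9

open Cfsg

universe u v

variable {L : Type u} [Group L] [Fintype L] {G : Type v} [Group G] [Fintype G]

omit [Group L] [Fintype L] in
theorem conjFun_conjFun (χ : L → ℂ) : conjFun (conjFun χ) = χ := by
  funext x
  simp [conjFun]

theorem zspan_mono {X : Type u} {S S' : Set (X → ℂ)} (h : S' ⊆ S) : zspan S' ⊆ zspan S := by
  intro α hα
  exact Submodule.span_mono h hα

theorem zspanOn_mono {X : Type u} {S S' : Set (X → ℂ)} (h : S' ⊆ S) (A : Set X) :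
    zspanOn S' A ⊆ zspanOn S A := by
  intro α hα
  exact ⟨zspan_mono h hα.1, hα.2⟩

theorem IsLinearIsometryOn.mono {E E' : Set (L → ℂ)} {τ : (L → ℂ) → (G → ℂ)}
    (h : IsLinearIsometryOn E τ) (hE : E' ⊆ E) : IsLinearIsometryOn E' τ :=
  ⟨fun α hα β hβ => h.1 α (hE hα) β (hE hβ), fun α hα n => h.2.1 α (hE hα) n,
    fun α hα β hβ => h.2.2.1 α (hE hα) β (hE hβ), fun α hα => h.2.2.2 α (hE hα)⟩

/-- a coherence system restricts to a nonempty conjugation-closed subset -/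
theorem coherenceSystem_subset {S S' : Set (L → ℂ)} {τ : (L → ℂ) → (G → ℂ)}
    {R : (L → ℂ) → Finset (G → ℂ)} (hS : IsCoherenceSystem S τ R) (hsub : S' ⊆ S)
    (hne : S'.Nonempty) (hconj : ∀ χ ∈ S', conjFun χ ∈ S') : IsCoherenceSystem S' τ R where
  nonempty := hne
  isCharacter := fun χ hχ => hS.isCharacter χ (hsub hχ)
  conj_mem := hconj
  conj_ne := fun χ hχ => hS.conj_ne χ (hsub hχ)
  isometry := IsLinearIsometryOn.mono hS.isometry (zspanOn_mono hsub _)
  map_one := fun α hα => hS.map_one α (zspanOn_mono hsub _ hα)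
  orthogonal := fun χ hχ φ hφ hne => hS.orthogonal χ (hsub hχ) φ (hsub hφ) hne
  orthonormal := fun χ hχ => hS.orthonormal χ (hsub hχ)
  virtual := fun χ hχ => hS.virtual χ (hsub hχ)
  sum_eq := fun χ hχ => hS.sum_eq χ (hsub hχ)
  disjoint := fun χ hχ φ hφ => hS.disjoint χ (hsub hχ) φ (hsub hφ)

/-- S1517 restated: a coherence system of uniform degree is coherent -/
theorem coherent_of_uniform {S : Set (L → ℂ)} {τ : (L → ℂ) → (G → ℂ)}
    {R : (L → ℂ) → Finset (G → ℂ)} (hS : IsCoherenceSystem S τ R) (d : ℂ)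
    (hdeg : ∀ φ ∈ S, φ 1 = d) : IsCoherent S {1}ᶜ τ :=
  Cfsg.Agent.S1517.result S τ R hS (fun φ hφ ψ hψ => by rw [hdeg φ hφ, hdeg ψ hψ])

open Classical in
/-- iterated S1516 -/
theorem coherent_of_extend {S : Set (L → ℂ)} (hfin : S.Finite) {τ : (L → ℂ) → (G → ℂ)}
    {R : (L → ℂ) → Finset (G → ℂ)} (hS : IsCoherenceSystem S τ R)
    (d n : (L → ℂ) → ℕ) (hd : ∀ φ ∈ S, φ 1 = (d φ : ℂ))
    (hn : ∀ φ ∈ S, classInner φ φ = (n φ : ℂ))
    (S₁ : Finset (L → ℂ)) (hS₁ : (↑S₁ : Set (L → ℂ)) ⊆ S) (hS₁c : ∀ φ ∈ S₁, conjFun φ ∈ S₁)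
    (hcoh : IsCoherent (↑S₁ : Set (L → ℂ)) {1}ᶜ τ)
    (hstep : ∀ χ ∈ S, χ ∉ S₁ → ∃ χ₁ ∈ S₁, d χ₁ ∣ d χ ∧
      (2 * d χ * d χ₁ : ℝ) < ∑ φ ∈ S₁, ((d φ : ℝ) ^ 2 / (n φ : ℝ))) :
    IsCoherent S {1}ᶜ τ := by
  -- generalize over intermediate coherent sets T
  suffices H : ∀ k : ℕ, ∀ T : Finset (L → ℂ), S₁ ⊆ T → (↑T : Set (L → ℂ)) ⊆ S →
      (∀ φ ∈ T, conjFun φ ∈ T) → IsCoherent (↑T : Set (L → ℂ)) {1}ᶜ τ →
      (hfin.toFinset \ T).card = k → IsCoherent S {1}ᶜ τ from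
    H _ S₁ (Finset.Subset.refl _) hS₁ hS₁c hcoh rfl
  intro k
  induction k using Nat.strong_induction_on with
  | _ k ih =>
    intro T hST hTS hTc hTcoh hk
    by_cases hempty : hfin.toFinset \ T = ∅
    · -- T = S
      have hSeq : (↑T : Set (L → ℂ)) = S := by
        apply Set.Subset.antisymm hTS
        intro χ hχ
        by_contra hχT
        have : χ ∈ hfin.toFinset \ T := by
          rw [Finset.mem_sdiff]
          exact ⟨hfin.mem_toFinset.mpr hχ, fun h => hχT (Finset.mem_coe.mpr h)⟩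
        rw [hempty] at this
        exact absurd this (Finset.notMem_empty _)
      rw [← hSeq]
      exact hTcoh
    · obtain ⟨χ, hχ⟩ := Finset.nonempty_iff_ne_empty.mpr hempty
      rw [Finset.mem_sdiff] at hχ
      have hχS : χ ∈ S := hfin.mem_toFinset.mp hχ.1
      have hχT : χ ∉ T := hχ.2
      have hχcT : conjFun χ ∉ T := by
        intro h
        have := hTc _ h
        rw [conjFun_conjFun] at this
        exact hχT this
      have hχS₁ : χ ∉ S₁ := fun h => hχT (hST h)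
      obtain ⟨χ₁, hχ₁, hdvd, hineq⟩ := hstep χ hχS hχS₁
      have hsum : ∑ φ ∈ S₁, ((d φ : ℝ) ^ 2 / (n φ : ℝ)) ≤ ∑ φ ∈ T, ((d φ : ℝ) ^ 2 / (n φ : ℝ)) := by
        apply Finset.sum_le_sum_of_subset_of_nonneg hST
        intro φ _ _
        positivity
      have hnew := Cfsg.Agent.S1516.result S τ R hS d n hd hn T hTS hTc hTcoh χ hχS hχT hχcT χ₁
        (hST hχ₁) hdvd (lt_of_lt_of_le hineq hsum)
      set T' : Finset (L → ℂ) := insert χ (insert (conjFun χ) T) with hT'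
      have hT'coe : (↑T' : Set (L → ℂ)) = ↑T ∪ {χ, conjFun χ} := by
        ext ψ
        simp only [hT', Finset.coe_insert, Set.mem_insert_iff, Finset.mem_coe, Set.mem_union,
          Set.mem_singleton_iff]
        tauto
      have hχcS : conjFun χ ∈ S := hS.conj_mem χ hχS
      have hlt : (hfin.toFinset \ T').card < k := by
        rw [← hk]
        apply Finset.card_lt_card
        rw [Finset.ssubset_iff_of_subset]
        · refine ⟨χ, ?_, ?_⟩
          · rw [Finset.mem_sdiff]; exact ⟨hχ.1, hχT⟩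
          · rw [Finset.mem_sdiff]
            intro h
            exact h.2 (Finset.mem_insert_self _ _)
        · intro ψ hψ
          rw [Finset.mem_sdiff] at hψ ⊢
          refine ⟨hψ.1, fun h => hψ.2 ?_⟩
          exact Finset.mem_insert_of_mem (Finset.mem_insert_of_mem h)
      refine ih _ hlt T' ?_ ?_ ?_ ?_ rfl
      · intro ψ hψ
        exact Finset.mem_insert_of_mem (Finset.mem_insert_of_mem (hST hψ))
      · rw [hT'coe]
        intro ψ hψ
        rcases hψ with hψ | hψ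
        · exact hTS hψ
        · rcases hψ with rfl | hψ
          · exact hχS
          · rw [Set.mem_singleton_iff] at hψ
            rw [hψ]; exact hχcS
      · intro φ hφ
        rw [hT', Finset.mem_insert, Finset.mem_insert] at hφ
        rcases hφ with rfl | rfl | hφ
        · exact Finset.mem_insert_of_mem (Finset.mem_insert_self _ _)
        · rw [conjFun_conjFun]; exact Finset.mem_insert_self _ _
        · exact Finset.mem_insert_of_mem (Finset.mem_insert_of_mem (hTc φ hφ))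
      · rw [hT'coe]; exact hnew

open Classical in
/-- The numerical core of Peterfalvi (9.11), non-Galois case: if every member of the finite coherence
system `S` has degree `e * k ≤ b`, all norms are natural numbers, at least `N` irreducible members have
degree exactly `e`, and `2 b e < N e²`, then `S` is coherent. -/
theorem coherent_of_small_degree {S : Set (L → ℂ)} (hfin : S.Finite) {τ : (L → ℂ) → (G → ℂ)}
    {R : (L → ℂ) → Finset (G → ℂ)} (hS : IsCoherenceSystem S τ R) (e b N : ℕ)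
    (hdeg : ∀ φ ∈ S, ∃ k : ℕ, φ 1 = ((e * k : ℕ) : ℂ) ∧ e * k ≤ b)
    (hnorm : ∀ φ ∈ S, ∃ m : ℕ, classInner φ φ = (m : ℂ))
    (hcount : N ≤ {φ : L → ℂ | φ ∈ S ∧ IsIrrCharacter L φ ∧ φ 1 = (e : ℂ)}.ncard)
    (hineq : 2 * b * e < N * e ^ 2) : IsCoherent S {1}ᶜ τ := by
  have he : 0 < e := by
    rcases Nat.eq_zero_or_pos e with h | h
    · subst h; simp at hineq
    · exact h
  have hN : 0 < N := by
    rcases Nat.eq_zero_or_pos N with h | h
    · subst h; simp at hineq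
    · exact h
  -- degree and norm functions
  let d : (L → ℂ) → ℕ := fun φ => if h : φ ∈ S then e * Classical.choose (hdeg φ h) else 0
  let n : (L → ℂ) → ℕ := fun φ => if h : φ ∈ S then Classical.choose (hnorm φ h) else 0
  have hd : ∀ φ ∈ S, φ 1 = (d φ : ℂ) := by
    intro φ hφ
    simp only [d, dif_pos hφ]
    exact (Classical.choose_spec (hdeg φ hφ)).1
  have hdb : ∀ φ ∈ S, d φ ≤ b := by
    intro φ hφ
    simp only [d, dif_pos hφ]
    exact (Classical.choose_spec (hdeg φ hφ)).2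
  have hde : ∀ φ ∈ S, e ∣ d φ := by
    intro φ hφ
    simp only [d, dif_pos hφ]
    exact Dvd.intro _ rfl
  have hn : ∀ φ ∈ S, classInner φ φ = (n φ : ℂ) := by
    intro φ hφ
    simp only [n, dif_pos hφ]
    exact Classical.choose_spec (hnorm φ hφ)
  have hd_e : ∀ φ ∈ S, φ 1 = (e : ℂ) → d φ = e := by
    intro φ hφ h1
    have := hd φ hφ
    rw [h1] at this
    exact_mod_cast this.symm
  have hn_irr : ∀ φ ∈ S, IsIrrCharacter L φ → n φ = 1 := by
    intro φ hφ hirr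
    have h1 := hn φ hφ
    rw [Cfsg.Agent.Lib.Helper78.classInner_irr_self hirr] at h1
    exact_mod_cast h1.symm
  -- the base set
  set S₁ : Finset (L → ℂ) := hfin.toFinset.filter (fun φ => φ 1 = (e : ℂ)) with hS₁def
  have hS₁mem : ∀ φ, φ ∈ S₁ ↔ φ ∈ S ∧ φ 1 = (e : ℂ) := by
    intro φ
    rw [hS₁def, Finset.mem_filter, Set.Finite.mem_toFinset]
  have hS₁S : (↑S₁ : Set (L → ℂ)) ⊆ S := fun φ hφ => ((hS₁mem φ).mp (Finset.mem_coe.mp hφ)).1
  -- the irreducible members of degree e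
  set T : Finset (L → ℂ) := S₁.filter (fun φ => IsIrrCharacter L φ) with hTdef
  have hTset : (↑T : Set (L → ℂ)) = {φ : L → ℂ | φ ∈ S ∧ IsIrrCharacter L φ ∧ φ 1 = (e : ℂ)} := by
    ext φ
    simp only [hTdef, Finset.coe_filter, Set.mem_ofPred_eq, hS₁mem]
    tauto
  have hTcard : N ≤ T.card := by
    have : T.card = {φ : L → ℂ | φ ∈ S ∧ IsIrrCharacter L φ ∧ φ 1 = (e : ℂ)}.ncard := by
      rw [← hTset, Set.ncard_coe_finset]
    rw [this]; exact hcount
  have hTne : T.Nonempty := Finset.card_pos.mp (lt_of_lt_of_le hN hTcard)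
  obtain ⟨χ₁, hχ₁T⟩ := hTne
  have hχ₁S₁ : χ₁ ∈ S₁ := (Finset.mem_filter.mp hχ₁T).1
  have hS₁c : ∀ φ ∈ S₁, conjFun φ ∈ S₁ := by
    intro φ hφ
    rw [hS₁mem] at hφ ⊢
    refine ⟨hS.conj_mem φ hφ.1, ?_⟩
    simp only [conjFun, hφ.2, map_natCast]
  have hcoh₁ : IsCoherent (↑S₁ : Set (L → ℂ)) {1}ᶜ τ := by
    refine coherent_of_uniform (coherenceSystem_subset hS hS₁S ⟨χ₁, Finset.mem_coe.mpr hχ₁S₁⟩ ?_) (e : ℂ) ?_
    · intro χ hχ
      exact Finset.mem_coe.mpr (hS₁c χ (Finset.mem_coe.mp hχ))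
    · intro φ hφ
      exact ((hS₁mem φ).mp (Finset.mem_coe.mp hφ)).2
  -- lower bound for the sum
  have hsum : (N : ℝ) * (e : ℝ) ^ 2 ≤ ∑ φ ∈ S₁, ((d φ : ℝ) ^ 2 / (n φ : ℝ)) := by
    have h1 : ∑ φ ∈ T, ((d φ : ℝ) ^ 2 / (n φ : ℝ)) ≤ ∑ φ ∈ S₁, ((d φ : ℝ) ^ 2 / (n φ : ℝ)) := by
      apply Finset.sum_le_sum_of_subset_of_nonneg (Finset.filter_subset _ _)
      intro φ _ _
      positivity
    have h2 : ∑ φ ∈ T, ((d φ : ℝ) ^ 2 / (n φ : ℝ)) = (T.card : ℝ) * (e : ℝ) ^ 2 := by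
      rw [Finset.sum_congr rfl (g := fun _ => (e : ℝ) ^ 2)]
      · rw [Finset.sum_const, nsmul_eq_mul]
      · intro φ hφ
        have hφ' := Finset.mem_filter.mp hφ
        have hφS := ((hS₁mem φ).mp hφ'.1)
        rw [hd_e φ hφS.1 hφS.2, hn_irr φ hφS.1 hφ'.2]
        simp
    have h3 : (N : ℝ) * (e : ℝ) ^ 2 ≤ (T.card : ℝ) * (e : ℝ) ^ 2 := by
      apply mul_le_mul_of_nonneg_right _ (by positivity)
      exact_mod_cast hTcard
    linarith
  refine coherent_of_extend hfin hS d n hd hn S₁ hS₁S hS₁c hcoh₁ ?_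
  intro χ hχ hχ₁
  refine ⟨χ₁, hχ₁S₁, ?_, ?_⟩
  · have hχ₁' := (hS₁mem χ₁).mp hχ₁S₁
    rw [hd_e χ₁ hχ₁'.1 hχ₁'.2]
    exact hde χ hχ
  · have hχ₁' := (hS₁mem χ₁).mp hχ₁S₁
    rw [hd_e χ₁ hχ₁'.1 hχ₁'.2]
    have h1 : (2 * (d χ : ℝ) * (e : ℝ)) ≤ 2 * (b : ℝ) * (e : ℝ) := by
      have : (d χ : ℝ) ≤ (b : ℝ) := by exact_mod_cast hdb χ hχ
      have he' : (0 : ℝ) ≤ (e : ℝ) := by positivity
      nlinarith
    have h2 : (2 * (b : ℝ) * (e : ℝ)) < (N : ℝ) * (e : ℝ) ^ 2 := by exact_mod_cast hineq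
    linarith

end Cfsg.Agent.Lib.Helper58.PF9
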