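import Mathlib
import Cfsg.Agent.Lib.Helper58.PFNineDefs
import Cfsg.Agent.Lib.Helper58.PFNineCoh
import Cfsg.Agent.Lib.Helper75.Clifford

/-!
# Peterfalvi (9.10) and (9.11) from the modules (helper58)

Conditional assembly: each theorem takes the statements of the other section-9 character modules
(board #2851) as hypotheses, in their exact form.
-/

set_option autoImplicit false

namespace Cfsg.Agent.Lib.Helper58.PF9

open Cfsg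

universe u v

variable {L : Type u} [Group L] [Fintype L] {K H U W₁ W₂ H₀ : Subgroup L} {p q : ℕ}

omit [Fintype L] in
/-- `|L : K| = q` -/
theorem Ctx.index_K (c : Ctx K H U W₁ W₂ H₀ p q) : K.index = q := by
  have := c.K_normal
  have hcompl : Subgroup.IsComplement' K W₁ := by
    apply Subgroup.isComplement'_of_disjoint_and_mul_eq_univ
    · rw [disjoint_iff]; exact c.KW_inf
    · rw [← Subgroup.normal_mul, c.KW_sup]; rfl
  rw [← c.card_W₁]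
  exact hcompl.symm.index_eq_card

/-- the degree of a member of `Sbook` -/
theorem indFun_one_of_ctx (c : Ctx K H U W₁ W₂ H₀ p q) (θ : ↥K → ℂ) :
    indFun K θ 1 = (q : ℂ) * θ 1 := by
  rw [Cfsg.Agent.Lib.Helper75.indFun_one, c.index_K]

omit [Fintype L] in
theorem Xset_anti (N N' : Subgroup L) (h : N ≤ N') : Xset K H N' ⊆ Xset K H N := by
  rintro θ ⟨h1, h2, h3⟩
  exact ⟨h1, fun a ha => h2 a (h ha), h3⟩

theorem Sbook_anti' (N N' : Subgroup L) (h : N ≤ N') : Sbook K H N' ⊆ Sbook K H N :=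
  Set.image_mono (Xset_anti N N' h)

/-- (9.11), non-Galois case outside the tight case, from the modules NA, G3a, ND, SB. -/
theorem core_coherent_axis_of (c : Ctx K H U W₁ W₂ H₀ p q) {H₁ : Subgroup L}
    (hslack : 2 * (coreC U H₁ H₀).relIndex U * (coreC U H H₀).relIndex U <
      (p - 1) * (⁅U, U⁆).relIndex U)
    {G : Type v} [Group G] [Fintype G] (τ : (L → ℂ) → (G → ℂ)) (R : (L → ℂ) → Finset (G → ℂ))
    (hS : IsCoherenceSystem (Sbook K H (H₀ ⊔ ⁅coreC U H H₀, coreC U H H₀⁆)) τ R)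
    -- [SB]
    (hfin : (Sbook K H (H₀ ⊔ ⁅coreC U H H₀, coreC U H H₀⁆)).Finite)
    -- [NA] axis_degree_dvd
    (hdvd : ∀ θ : ↥K → ℂ, θ ∈ Xset K H H₀ →
      ∃ k : ℕ, θ 1 = (((coreC U H₁ H₀).relIndex U * k : ℕ) : ℂ))
    -- [NA] core_degree_le
    (hle : ∀ θ : ↥K → ℂ, θ ∈ Xset K H (H₀ ⊔ ⁅coreC U H H₀, coreC U H H₀⁆) →
      ∃ d : ℕ, θ 1 = (d : ℂ) ∧ d ≤ (coreC U H H₀).relIndex U)
    -- [G3a] irr_iff_not_W1Inv
    (hnorm : ∀ θ : ↥K → ℂ, θ ∈ Xset K H (H₀ ⊔ ⁅coreC U H H₀, coreC U H H₀⁆) →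
      (IsIrrCharacter L (indFun K θ) ↔ ¬ IsW1Inv K W₁ c.K_normal θ) ∧
        (IsW1Inv K W₁ c.K_normal θ → classInner (indFun K θ) (indFun K θ) = (q : ℂ)))
    -- [ND] axis_count_small
    (hcount : (p - 1) * (⁅U, U⁆).relIndex U ≤ (coreC U H₁ H₀).relIndex U ^ 2 *
      {φ : L → ℂ | φ ∈ Sbook K H (H₀ ⊔ ⁅U, U⁆) ∧ IsIrrCharacter L φ ∧
        φ 1 = ((q * (coreC U H₁ H₀).relIndex U : ℕ) : ℂ)}.ncard) :
    IsCoherent (Sbook K H (H₀ ⊔ ⁅coreC U H H₀, coreC U H H₀⁆)) {1}ᶜ τ := by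
  set C := coreC U H H₀ with hC
  set a := (coreC U H₁ H₀).relIndex U with ha
  set uu := C.relIndex U with hu
  set N' := {φ : L → ℂ | φ ∈ Sbook K H (H₀ ⊔ ⁅U, U⁆) ∧ IsIrrCharacter L φ ∧
        φ 1 = ((q * a : ℕ) : ℂ)}.ncard with hN'
  have hCU : C ≤ U := coreC_le U H H₀
  have hsub : Sbook K H (H₀ ⊔ ⁅U, U⁆) ⊆ Sbook K H (H₀ ⊔ ⁅C, C⁆) := by
    apply Sbook_anti'
    exact sup_le_sup_left (Subgroup.commutator_mono hCU hCU) _
  have hapos : 0 < a := by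
    rw [ha, Subgroup.relIndex]
    exact Nat.pos_of_ne_zero Subgroup.index_ne_zero_of_finite
  have hqpos : 0 < q := c.q_prime.pos
  refine coherent_of_small_degree hfin hS (q * a) (q * uu) N' ?_ ?_ ?_ ?_
  · -- degrees
    rintro φ ⟨θ, hθ, rfl⟩
    obtain ⟨k, hk⟩ := hdvd θ (Xset_anti _ _ le_sup_left hθ)
    obtain ⟨d, hd1, hd2⟩ := hle θ hθ
    refine ⟨k, ?_, ?_⟩
    · rw [indFun_one_of_ctx c, hk]; push_cast; ring
    · have : a * k = d := by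
        have := hk.symm.trans hd1
        exact_mod_cast this
      calc q * a * k = q * (a * k) := by ring
        _ = q * d := by rw [this]
        _ ≤ q * uu := Nat.mul_le_mul_left _ hd2
  · -- norms
    rintro φ ⟨θ, hθ, rfl⟩
    obtain ⟨h1, h2⟩ := hnorm θ hθ
    by_cases hinv : IsW1Inv K W₁ c.K_normal θ
    · exact ⟨q, h2 hinv⟩
    · refine ⟨1, ?_⟩
      rw [Cfsg.Agent.Lib.Helper78.classInner_irr_self (h1.mpr hinv)]; simp
  · -- count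
    apply Set.ncard_le_ncard _ (hfin.subset (fun φ hφ => hφ.1))
    rintro φ ⟨h1, h2, h3⟩
    exact ⟨hsub h1, h2, h3⟩
  · -- inequality
    have h1 : 2 * a * uu < a ^ 2 * N' := lt_of_lt_of_le hslack hcount
    have h2 : 2 * a * uu * (q ^ 2 * 1) < a ^ 2 * N' * (q ^ 2 * 1) :=
      Nat.mul_lt_mul_of_pos_right h1 (by positivity)
    calc 2 * (q * uu) * (q * a) = 2 * a * uu * (q ^ 2 * 1) := by ring
      _ < a ^ 2 * N' * (q ^ 2 * 1) := h2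
      _ = N' * (q * a) ^ 2 := by ring

/-- (9.11), Galois case, from module GA (`galois_core_member`). -/
theorem core_coherent_galois_of
    {G : Type v} [Group G] [Fintype G] (τ : (L → ℂ) → (G → ℂ)) (R : (L → ℂ) → Finset (G → ℂ))
    (hS : IsCoherenceSystem (Sbook K H (H₀ ⊔ ⁅coreC U H H₀, coreC U H H₀⁆)) τ R)
    (hGA : ∀ φ : L → ℂ, φ ∈ Sbook K H (H₀ ⊔ ⁅coreC U H H₀, coreC U H H₀⁆) →
      φ 1 = ((q * (coreC U H H₀).relIndex U : ℕ) : ℂ) ∧ IsIndLinear (H ⊔ coreC U H H₀) φ) :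
    IsCoherent (Sbook K H (H₀ ⊔ ⁅coreC U H H₀, coreC U H H₀⁆)) {1}ᶜ τ :=
  coherent_of_uniform hS _ (fun φ hφ => (hGA φ hφ).1)

/-- (9.10) from the modules DI, NC, GA, GC. -/
theorem reducible_core_cases_of
    (hDI : IsGaloisLike H U H₀ ∨ ∃ H₁ : Subgroup L, IsAxis H U W₁ H₀ H₁ p)
    (hNC : ∀ H₁ : Subgroup L, IsAxis H U W₁ H₀ H₁ p →
      ∃ φ ∈ Sbook K H (H₀ ⊔ coreC U H H₀), IsIrrCharacter L φ ∧
        φ 1 = ((q * (coreC U H H₀).relIndex U : ℕ) : ℂ) ∧ IsIndLinear (H ⊔ coreC U H H₀) φ)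
    (hGA : IsGaloisLike H U H₀ →
      ∀ φ : L → ℂ, φ ∈ Sbook K H (H₀ ⊔ ⁅coreC U H H₀, coreC U H H₀⁆) →
      φ 1 = ((q * (coreC U H H₀).relIndex U : ℕ) : ℂ) ∧ IsIndLinear (H ⊔ coreC U H H₀) φ)
    (hGC : IsGaloisLike H U H₀ →
      (∀ φ ∈ Sbook K H (H₀ ⊔ ⁅coreC U H H₀, coreC U H H₀⁆), ¬ IsIrrCharacter L φ) →
      coreC U H H₀ = ⊥ ∧ Nat.card U * (p - 1) = p ^ q - 1 ∧
        ∀ x ∈ U, x ≠ 1 → ∀ h ∈ H, x * h * x⁻¹ * h⁻¹ ∈ H₀ → h ∈ H₀) :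
    (∃ φ ∈ Sbook K H (H₀ ⊔ ⁅coreC U H H₀, coreC U H H₀⁆), IsIrrCharacter L φ ∧
        φ 1 = ((q * (coreC U H H₀).relIndex U : ℕ) : ℂ) ∧ IsIndLinear (H ⊔ coreC U H H₀) φ) ∨
      (IsGaloisLike H U H₀ ∧ coreC U H H₀ = ⊥ ∧ Nat.card U * (p - 1) = p ^ q - 1 ∧
        ∀ x ∈ U, x ≠ 1 → ∀ h ∈ H, x * h * x⁻¹ * h⁻¹ ∈ H₀ → h ∈ H₀) := by
  rcases hDI with hG | ⟨H₁, hA⟩
  · by_cases hred : ∀ φ ∈ Sbook K H (H₀ ⊔ ⁅coreC U H H₀, coreC U H H₀⁆), ¬ IsIrrCharacter L φ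
    · right
      exact ⟨hG, hGC hG hred⟩
    · left
      push Not at hred
      obtain ⟨φ, hφ, hirr⟩ := hred
      exact ⟨φ, hφ, hirr, hGA hG φ hφ⟩
  · left
    obtain ⟨φ, hφ, h1, h2, h3⟩ := hNC H₁ hA
    refine ⟨φ, ?_, h1, h2, h3⟩
    apply Sbook_anti' _ _ _ hφ
    refine sup_le_sup_left ?_ _
    rw [Subgroup.commutator_le]
    intro g₁ h₁ g₂ h₂
    exact Subgroup.mul_mem _ (Subgroup.mul_mem _ (Subgroup.mul_mem _ h₁ h₂) (Subgroup.inv_mem _ h₁))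
      (Subgroup.inv_mem _ h₂)

end Cfsg.Agent.Lib.Helper58.PF9
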