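import Mathlib
import Cfsg.Agent.Lib.Helper58.PFNineDefs
import Cfsg.Agent.Lib.Helper58.PFNineT
import Cfsg.Agent.Lib.Helper16.PFNineNB

/-!
# Peterfalvi (9.9)(a): the Galois case (helper58), module [GA] of board #2851
-/

set_option autoImplicit false

namespace Cfsg.Agent.Lib.Helper58.PF9

open Cfsg

universe u

section GroupTheory

variable {L : Type u} [Group L] [Finite L] {K H U W₁ W₂ H₀ : Subgroup L} {p q : ℕ}

/-- In the Galois case, if `y ∈ U` satisfies `[y, x] ∈ Λ` for all `x ∈ H`, where `H₀ ≤ Λ` and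
`H ≰ Λ`, then `y ∈ C = C_U(H/H₀)`: for `y ∉ C` the map `x ↦ [y, x]` is a bijection of `H/H₀`. -/
theorem mem_coreC_of_comm_mem_galois (c : Ctx K H U W₁ W₂ H₀ p q) (hG : IsGaloisLike H U H₀)
    (Λ : Subgroup L) (hΛ₀ : H₀ ≤ Λ) (hΛH : ¬ H ≤ Λ) {y : L} (hy : y ∈ U)
    (hcomm : ∀ x ∈ H, y * x * y⁻¹ * x⁻¹ ∈ Λ) : y ∈ coreC U H H₀ := by
  classical
  by_contra hyC
  apply hΛH
  have hHn : H.Normal := c.H_normal
  have hH₀n : H₀.Normal := c.H₀_normal
  have hsemi := hG y hy hyC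
  -- the quotient `H/H₀`
  have : (H₀.subgroupOf H).Normal := Subgroup.Normal.subgroupOf hH₀n H
  let Q := ↥H ⧸ H₀.subgroupOf H
  -- the commutator map on `H`
  let ψ : ↥H → ↥H := fun x =>
    ⟨y * x * y⁻¹ * x⁻¹, H.mul_mem (hHn.conj_mem x x.2 y) (H.inv_mem x.2)⟩
  have hkey : ∀ x₁ x₂ : ↥H, (QuotientGroup.mk (ψ x₁) : Q) = QuotientGroup.mk (ψ x₂) ↔
      (QuotientGroup.mk x₁ : Q) = QuotientGroup.mk x₂ := by
    intro x₁ x₂
    rw [QuotientGroup.eq, QuotientGroup.eq, Subgroup.mem_subgroupOf, Subgroup.mem_subgroupOf]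
    set t : L := (x₁ : L)⁻¹ * (x₂ : L) with ht
    have htH : t ∈ H := H.mul_mem (H.inv_mem x₁.2) x₂.2
    have e1 : (((ψ x₁)⁻¹ * ψ x₂ : ↥H) : L) =
        (x₁ : L) * (y * t * y⁻¹ * t⁻¹) * (x₁ : L)⁻¹ := by
      simp only [ψ, Subgroup.coe_mul, Subgroup.coe_inv, ht]
      group
    have e2 : ((x₁⁻¹ * x₂ : ↥H) : L) = t := by
      simp only [Subgroup.coe_mul, Subgroup.coe_inv, ht]
    rw [e1, e2]
    constructor
    · intro h
      have h1 : y * t * y⁻¹ * t⁻¹ ∈ H₀ := by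
        have := hH₀n.conj_mem _ h (x₁ : L)⁻¹
        have e : (x₁ : L)⁻¹ * ((x₁ : L) * (y * t * y⁻¹ * t⁻¹) * (x₁ : L)⁻¹) * (x₁ : L)⁻¹⁻¹ =
            y * t * y⁻¹ * t⁻¹ := by group
        rwa [e] at this
      exact hsemi t htH h1
    · intro h
      apply hH₀n.conj_mem
      exact H₀.mul_mem (hH₀n.conj_mem t h y) (H₀.inv_mem h)
  -- the induced map on the quotient
  let F : Q → Q := Quotient.lift (fun x : ↥H => (QuotientGroup.mk (ψ x) : Q)) (by
    intro a b hab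
    have hab' : (QuotientGroup.mk a : Q) = QuotientGroup.mk b := Quotient.sound hab
    exact (hkey a b).mpr hab')
  have hFmk : ∀ x : ↥H, F (QuotientGroup.mk x) = QuotientGroup.mk (ψ x) := fun x => rfl
  have hFinj : Function.Injective F := by
    intro a b hab
    induction a using QuotientGroup.induction_on with | H a => ?_
    induction b using QuotientGroup.induction_on with | H b => ?_
    rw [hFmk, hFmk] at hab
    exact (hkey a b).mp hab
  have hFsurj : Function.Surjective F := Finite.injective_iff_surjective.mp hFinj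
  intro h hh
  obtain ⟨a, ha⟩ := hFsurj (QuotientGroup.mk ⟨h, hh⟩)
  induction a using QuotientGroup.induction_on with | H a => ?_
  rw [hFmk, QuotientGroup.eq, Subgroup.mem_subgroupOf] at ha
  -- `(ψ a)⁻¹ * h ∈ H₀`
  have h1 : ((ψ a : ↥H) : L) ∈ Λ := hcomm a a.2
  have h2 : ((ψ a : ↥H) : L)⁻¹ * h ∈ Λ := by
    have : (((ψ a)⁻¹ * ⟨h, hh⟩ : ↥H) : L) = ((ψ a : ↥H) : L)⁻¹ * h := by
      simp only [Subgroup.coe_mul, Subgroup.coe_inv]
    rw [this] at ha
    exact hΛ₀ ha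
  have h3 := Λ.mul_mem h1 h2
  simpa using h3

end GroupTheory


section Main

open Cfsg.Agent.Lib.Helper75 Cfsg.Agent.Lib.Helper78 Cfsg.Agent.Lib.Helper16.PFNineNB
open scoped commutatorElement

variable {L : Type u} [Group L] [Fintype L] {K H U W₁ W₂ H₀ : Subgroup L} {p q : ℕ}

/-- **Peterfalvi (9.9)(a)**, second half, at the level of `θ ∈ X(H₀C')`: in the Galois case `θ` has
degree `u = |U : C|` and `Ind_K^L θ` is induced from a linear character of `HC`. -/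
theorem galois_core_theta (c : Ctx K H U W₁ W₂ H₀ p q) (hG : IsGaloisLike H U H₀)
    {θ : ↥K → ℂ} (hθ : θ ∈ Xset K H (H₀ ⊔ ⁅coreC U H H₀, coreC U H H₀⁆)) :
    θ 1 = (((coreC U H H₀).relIndex U : ℕ) : ℂ) ∧
      IsIndLinear (H ⊔ coreC U H H₀) (indFun K θ) := by
  classical
  obtain ⟨hθirr, hθker, h₀, hh₀H, hh₀⟩ := hθ
  have hAn : (H ⊔ coreC U H H₀).Normal := sup_coreC_normal c
  have hAK : H ⊔ coreC U H H₀ ≤ K := sup_coreC_le c
  have hKn : K.Normal := c.K_normal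
  have hHn : H.Normal := c.H_normal
  have hH₀n : H₀.Normal := c.H₀_normal
  have hrel := relIndex_sup_coreC c
  set C := coreC U H H₀ with hCdef
  set A := H ⊔ C with hAdef
  let : Fintype A := Fintype.ofFinite _
  let : Fintype K := Fintype.ofFinite _
  let : Fintype (A.subgroupOf K) := Fintype.ofFinite _
  have hθch : IsCharacter K θ := IsIrrCharacter.isCharacter hθirr
  set θA : A → ℂ := resNT A K hAK θ with hθA
  have hθAch : IsCharacter A θA := isCharacter_resNT A K hAK hθch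
  have h1 : θA 1 ≠ 0 := by
    have := IsIrrCharacter.apply_one_ne_zero hθirr
    exact this
  obtain ⟨lam, hlamS⟩ := Helper75.exists_constituent hθAch h1
  have hlamch : IsCharacter A (lam : A → ℂ) := IsIrrCharacter.isCharacter lam.2
  -- the kernel of `lam` contains `H₀C'`
  have hkerA : ∀ a : A, (a : L) ∈ H₀ ⊔ ⁅C, C⁆ →
      (lam : A → ℂ) a = (lam : A → ℂ) 1 := by
    intro a ha
    apply Helper75.constituent_ker hθAch lam hlamS a
    exact hθker ⟨a, hAK a.2⟩ ha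
  -- `lam` is linear
  obtain ⟨Kl, hKln, hKlmem, -, -⟩ := Cfsg.Agent.Lib.Helper77.exists_kernel hlamch
  have hKlH₀ : ∀ a : A, (a : L) ∈ H₀ → a ∈ Kl :=
    fun a ha => (hKlmem a).mpr (hkerA a (Subgroup.mem_sup_left ha))
  have hKlC' : ∀ a : A, (a : L) ∈ ⁅C, C⁆ → a ∈ Kl :=
    fun a ha => (hKlmem a).mpr (hkerA a (Subgroup.mem_sup_right ha))
  have hdecA : ∀ a : A, ∃ h₁ ∈ H, ∃ c₁ ∈ C, (a : L) = h₁ * c₁ := by
    intro a
    have h1 : (a : L) ∈ H ⊔ C := a.2
    rw [← SetLike.mem_coe, Subgroup.normal_mul] at h1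
    obtain ⟨h, hh, x, hx, e⟩ := Set.mem_mul.mp h1
    exact ⟨h, hh, x, hx, e.symm⟩
  -- pairwise commutation of the generators of `A/Kl`
  have hcomHH : ∀ a b : A, (a : L) ∈ H → (b : L) ∈ H →
      Commute (QuotientGroup.mk a : A ⧸ Kl) (QuotientGroup.mk b) := by
    intro a b ha hb
    change (QuotientGroup.mk a : A ⧸ Kl) * QuotientGroup.mk b = QuotientGroup.mk b * QuotientGroup.mk a
    rw [← QuotientGroup.mk_mul, ← QuotientGroup.mk_mul]
    apply QuotientGroup.eq.mpr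
    apply hKlH₀
    apply c.comm_le
    have h3 : (((a * b)⁻¹ * (b * a) : A) : L) = ⁅(b : L)⁻¹, (a : L)⁻¹⁆ := by
      rw [commutatorElement_def]
      push_cast
      group
    rw [h3]
    exact Subgroup.commutator_mem_commutator (H.inv_mem hb) (H.inv_mem ha)
  have hcomCC : ∀ a b : A, (a : L) ∈ C → (b : L) ∈ C →
      Commute (QuotientGroup.mk a : A ⧸ Kl) (QuotientGroup.mk b) := by
    intro a b ha hb
    change (QuotientGroup.mk a : A ⧸ Kl) * QuotientGroup.mk b = QuotientGroup.mk b * QuotientGroup.mk a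
    rw [← QuotientGroup.mk_mul, ← QuotientGroup.mk_mul]
    apply QuotientGroup.eq.mpr
    apply hKlC'
    have h3 : (((a * b)⁻¹ * (b * a) : A) : L) = ⁅(b : L)⁻¹, (a : L)⁻¹⁆ := by
      rw [commutatorElement_def]
      push_cast
      group
    rw [h3]
    exact Subgroup.commutator_mem_commutator (C.inv_mem hb) (C.inv_mem ha)
  have hcomHC : ∀ a b : A, (a : L) ∈ H → (b : L) ∈ C →
      Commute (QuotientGroup.mk a : A ⧸ Kl) (QuotientGroup.mk b) := by
    intro a b ha hb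
    change (QuotientGroup.mk a : A ⧸ Kl) * QuotientGroup.mk b = QuotientGroup.mk b * QuotientGroup.mk a
    rw [← QuotientGroup.mk_mul, ← QuotientGroup.mk_mul]
    apply QuotientGroup.eq.mpr
    apply hKlH₀
    have hb' := (mem_coreC_of_normal.mp hb).2 (a : L) ha
    -- `b a b⁻¹ a⁻¹ ∈ H₀`
    have h3 : (((a * b)⁻¹ * (b * a) : A) : L) =
        (b : L)⁻¹ * ((a : L)⁻¹ * ((b : L) * (a : L) * (b : L)⁻¹ * (a : L)⁻¹) * (a : L)) *
          (b : L) := by
      push_cast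
      group
    rw [h3]
    have h4 := hH₀n.conj_mem _ hb' (a : L)⁻¹
    have h5 := hH₀n.conj_mem _ h4 (b : L)⁻¹
    simpa using h5
  have hcomm : ∀ a b : A ⧸ Kl, a * b = b * a := by
    intro a b
    induction a using QuotientGroup.induction_on with | H a => ?_
    induction b using QuotientGroup.induction_on with | H b => ?_
    obtain ⟨h₁, hh₁, c₁, hc₁, ea⟩ := hdecA a
    obtain ⟨h₂, hh₂, c₂, hc₂, eb⟩ := hdecA b
    have hh₁A : h₁ ∈ A := Subgroup.mem_sup_left hh₁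
    have hh₂A : h₂ ∈ A := Subgroup.mem_sup_left hh₂
    have hc₁A : c₁ ∈ A := Subgroup.mem_sup_right hc₁
    have hc₂A : c₂ ∈ A := Subgroup.mem_sup_right hc₂
    have ea' : a = ⟨h₁, hh₁A⟩ * ⟨c₁, hc₁A⟩ := Subtype.ext ea
    have eb' : b = ⟨h₂, hh₂A⟩ * ⟨c₂, hc₂A⟩ := Subtype.ext eb
    rw [ea', eb', QuotientGroup.mk_mul, QuotientGroup.mk_mul]
    have k1 := hcomHH ⟨h₁, hh₁A⟩ ⟨h₂, hh₂A⟩ hh₁ hh₂
    have k2 := hcomHC ⟨h₁, hh₁A⟩ ⟨c₂, hc₂A⟩ hh₁ hc₂
    have k3 := (hcomHC ⟨h₂, hh₂A⟩ ⟨c₁, hc₁A⟩ hh₂ hc₁).symm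
    have k4 := hcomCC ⟨c₁, hc₁A⟩ ⟨c₂, hc₂A⟩ hc₁ hc₂
    exact (Commute.mul_left (Commute.mul_right k1 k2) (Commute.mul_right k3 k4)).eq
  have hdeg : charDegree (lam : A → ℂ) = 1 :=
    Cfsg.Agent.S4768.degree_eq_one_of_comm_image (QuotientGroup.mk' Kl)
      (QuotientGroup.mk'_surjective Kl) hcomm lam.2
      (fun k hk => (hKlmem k).mp ((QuotientGroup.eq_one_iff k).mp hk))
  have hlam1 : (lam : A → ℂ) 1 = 1 := by
    rw [IsCharacter.apply_one_eq_charDegree hlamch, hdeg]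
    simp
  obtain ⟨ψ, hψ⟩ := Cfsg.Agent.Lib.Helper77.exists_monoidHom_of_degree_one hlamch hlam1
  -- the kernel `Λ` of `lam`, as a subgroup of `L`
  set Λ : Subgroup L := ψ.ker.map A.subtype with hΛ
  have hΛmem : ∀ a : A, (a : L) ∈ Λ ↔ (lam : A → ℂ) a = 1 := by
    intro a
    rw [hΛ, Subgroup.mem_map]
    constructor
    · rintro ⟨b, hb, hba⟩
      have hba' : b = a := Subtype.ext hba
      rw [← hba', hψ b, MonoidHom.mem_ker.mp hb]
      rfl
    · intro h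
      refine ⟨a, ?_, rfl⟩
      rw [MonoidHom.mem_ker]
      apply Units.ext
      rw [← hψ a, h]
      rfl
  have hΛA : Λ ≤ A := by
    rintro _ ⟨b, -, rfl⟩
    exact b.2
  have hΛ₀ : H₀ ≤ Λ := by
    intro x hx
    have hxA : x ∈ A := Subgroup.mem_sup_left (c.H₀_le hx)
    exact (hΛmem ⟨x, hxA⟩).mpr (by rw [hkerA ⟨x, hxA⟩ (Subgroup.mem_sup_left hx), hlam1])
  have hΛH : ¬ H ≤ Λ := by
    intro hle
    apply hh₀
    have hsum := IsCharacter.eq_sum_irr hθAch
    have hval : ∀ φ : IrrCharacter A, classInner θA (φ : A → ℂ) ≠ 0 → ∀ h : A, (h : L) ∈ H →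
        (φ : A → ℂ) h = (φ : A → ℂ) 1 := by
      intro φ hφ h hh
      obtain ⟨k, hk⟩ := clifford_conj_lift A K hAK hθirr lam.2 φ.2 hlamS hφ
      rw [← hk, conjFun_apply, conjFun_apply]
      have e1 := (hΛmem ⟨(k : L) * h * (k : L)⁻¹, hAn.conj_mem h h.2 k⟩).mp
        (hle (hHn.conj_mem _ hh k))
      have e2 := (hΛmem ⟨(k : L) * ((1 : A) : L) * (k : L)⁻¹, hAn.conj_mem _ (1 : A).2 k⟩).mp
        (hle (hHn.conj_mem _ H.one_mem k))
      rw [e1, e2]
    have hh₀A : (h₀ : L) ∈ A := Subgroup.mem_sup_left hh₀H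
    have hA0 : θA ⟨h₀, hh₀A⟩ = θA 1 := by
      have e := congrFun hsum ⟨h₀, hh₀A⟩
      have e' := congrFun hsum 1
      calc θA ⟨h₀, hh₀A⟩
          = (∑ φ : IrrCharacter A, classInner θA (φ : A → ℂ) • (φ : A → ℂ)) ⟨h₀, hh₀A⟩ := e
        _ = (∑ φ : IrrCharacter A, classInner θA (φ : A → ℂ) • (φ : A → ℂ)) 1 := by
            simp only [Finset.sum_apply, Pi.smul_apply]
            apply Finset.sum_congr rfl
            intro φ _
            by_cases hφ : classInner θA (φ : A → ℂ) = 0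
            · rw [hφ]; simp
            · rw [hval φ hφ ⟨h₀, hh₀A⟩ hh₀H]
        _ = θA 1 := e'.symm
    exact hA0
  -- the inertia group of `lam` in `K` is `A`
  have hstab : ∀ g : L, g ∈ K → Helper75.conjFun A g (lam : A → ℂ) = (lam : A → ℂ) → g ∈ A := by
    intro g hgK hg
    obtain ⟨h, hh, y, hy, rfl⟩ := exists_decomp_K c hgK
    have hhA : h ∈ A := Subgroup.mem_sup_left hh
    have e0 := conjFun_of_mem A (isClassFunction_irr lam) ⟨h, hhA⟩
    change Helper75.conjFun A h (lam : A → ℂ) = (lam : A → ℂ) at e0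
    rw [conjFun_mul, e0] at hg
    have hyC : y ∈ C := by
      apply mem_coreC_of_comm_mem_galois c hG Λ hΛ₀ hΛH hy
      intro x hx
      have hxA : x ∈ A := Subgroup.mem_sup_left hx
      have hyx : y * x * y⁻¹ ∈ A := hAn.conj_mem x hxA y
      have e1 := congrFun hg ⟨x, hxA⟩
      rw [conjFun_apply] at e1
      have hmemA : y * x * y⁻¹ * x⁻¹ ∈ A := A.mul_mem hyx (A.inv_mem hxA)
      apply (hΛmem ⟨_, hmemA⟩).mpr
      have e2 : (⟨y * x * y⁻¹ * x⁻¹, hmemA⟩ : A) = ⟨y * x * y⁻¹, hyx⟩ * ⟨x, hxA⟩⁻¹ := rfl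
      have e3 : ψ ⟨y * x * y⁻¹, hyx⟩ = ψ ⟨x, hxA⟩ := by
        apply Units.ext
        rw [← hψ, ← hψ]
        exact e1
      rw [e2, hψ, map_mul, map_inv, e3, mul_inv_cancel]
      rfl
    exact A.mul_mem hhA (Subgroup.mem_sup_right hyC)
  -- Clifford correspondence in `K`
  set N' : Subgroup K := A.subgroupOf K with hN'
  set lam' : N' → ℂ := liftNT A K (lam : A → ℂ) with hlam'
  have hlam'irr : IsIrrCharacter N' lam' := isIrrCharacter_liftNT A K hAK lam.2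
  have hT : ∀ g : K, g ∈ N' ↔ Helper75.conjFun N' g lam' = lam' := by
    intro g
    constructor
    · intro hg
      exact conjFun_of_mem N'
        (IsCharacter.isClassFunction (IsIrrCharacter.isCharacter hlam'irr)) ⟨g, hg⟩
    · intro hg
      rw [hN', Subgroup.mem_subgroupOf]
      apply hstab g g.2
      exact liftNT_injective A K hAK hg
  have hover : classInner (fun n : N' => θ n) lam' ≠ 0 := by
    rw [hlam', classInner_res_liftNT]
    exact hlamS
  obtain ⟨ψ', hψ'irr, hψ'ind, hψ'mult⟩ :=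
    exists_indFun_eq_of_over N' N' le_rfl hlam'irr hT hθirr hover
  have hψ'eq : ψ' = lam' := by
    by_contra hne
    have h0 : classInner (resNT N' N' le_rfl ψ') lam' = 0 := by
      have : resNT N' N' le_rfl ψ' = ψ' := by
        funext n
        rfl
      rw [this]
      exact classInner_irr_ne hψ'irr hlam'irr hne
    rw [hψ'mult] at h0
    exact hover h0
  rw [hψ'eq] at hψ'ind
  constructor
  · rw [← hψ'ind, indFun_one]
    have e1 : N'.index = A.relIndex K := rfl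
    have e2 : lam' 1 = 1 := hlam1
    rw [e1, e2, mul_one, hrel]
  · refine ⟨lam, lam.2, hlam1, ?_⟩
    rw [indFun_eq_indFun_indFun_liftNT A K hAK (lam : A → ℂ), hψ'ind]

/-- **Peterfalvi (9.9)(a)+(b)**, module [GA] of #2851: in the Galois case every member of `S(H₀C')`
has degree `q u` and is induced from a linear character of `HC`. -/
theorem galois_core_member (c : Ctx K H U W₁ W₂ H₀ p q) (hG : IsGaloisLike H U H₀)
    {φ : L → ℂ} (hφ : φ ∈ Sbook K H (H₀ ⊔ ⁅coreC U H H₀, coreC U H H₀⁆)) :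
    φ 1 = ((q * (coreC U H H₀).relIndex U : ℕ) : ℂ) ∧ IsIndLinear (H ⊔ coreC U H H₀) φ := by
  obtain ⟨θ, hθ, rfl⟩ := hφ
  obtain ⟨h1, h2⟩ := galois_core_theta c hG hθ
  refine ⟨?_, h2⟩
  rw [indFun_one_of_ctx c, h1]
  push_cast
  ring

/-- **Peterfalvi (9.11), Galois case**: `S(H₀C')` is coherent. -/
theorem core_coherent_galois (c : Ctx K H U W₁ W₂ H₀ p q) (hG : IsGaloisLike H U H₀)
    {G : Type*} [Group G] [Fintype G] (τ : (L → ℂ) → (G → ℂ)) (R : (L → ℂ) → Finset (G → ℂ))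
    (hS : IsCoherenceSystem (Sbook K H (H₀ ⊔ ⁅coreC U H H₀, coreC U H H₀⁆)) τ R) :
    IsCoherent (Sbook K H (H₀ ⊔ ⁅coreC U H H₀, coreC U H H₀⁆)) {1}ᶜ τ :=
  core_coherent_galois_of τ R hS (fun _ hφ => galois_core_member c hG hφ)

end Main

end Cfsg.Agent.Lib.Helper58.PF9
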