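import Mathlib
import Cfsg.Agent.Lib.Helper1.ThompsonFpf
import Cfsg.Agent.Lib.Helper55.Cores2
import Cfsg.Agent.Lib.Helper65.NilpBasic
import Cfsg.Agent.Lib.Helper24.Coprime

/-!
# Auxiliary lemmas for fixed-point-free automorphisms of order four (S3794)
-/

set_option autoImplicit false
set_option linter.style.haveILetI false

namespace Cfsg.Agent.Lib.Helper58.Fpf4

open Cfsg Cfsg.Agent.Lib.Helper1

theorem odd_card_of_fpf4 {G : Type*} [Group G] [Finite G] (σ : MulAut G) (hσ4 : σ ^ 4 = 1)
    (hfpf : ∀ g : G, σ g = g → g = 1) : Odd (Nat.card G) := by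
  classical
  haveI : Fintype G := Fintype.ofFinite G
  haveI : Fact (Nat.Prime 2) := ⟨Nat.prime_two⟩
  let f : Function.End G := (σ : G → G)
  have hpow : ∀ k : ℕ, ∀ x, (f ^ k) x = (σ ^ k) x := by
    intro k
    induction k with
    | zero => intro x; rfl
    | succ k ih =>
      intro x
      rw [pow_succ, pow_succ, MulAut.mul_apply, ← ih]
      rfl
  have hf : f ^ 2 ^ 2 = 1 := by
    funext x
    have := hpow 4 x
    rw [hσ4] at this
    exact this
  have h := Equiv.Perm.card_fixedPoints_modEq (f := f) (p := 2) (n := 2) hf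
  have hfix : Fintype.card (Function.fixedPoints f) = 1 := by
    rw [Fintype.card_eq_one_iff]
    exact ⟨⟨1, map_one σ⟩, fun ⟨x, hx⟩ => Subtype.ext (hfpf x hx)⟩
  rw [hfix] at h
  rw [Nat.card_eq_fintype_card, Nat.odd_iff]
  exact h

theorem map_commutator_le' {G G' : Type*} [Group G] [Group G'] (f : G →* G') :
    (commutator G).map f ≤ commutator G' := by
  rw [commutator_def, commutator_def, Subgroup.map_commutator]
  exact Subgroup.commutator_mono le_top le_top

theorem nilpotent_commutator_of_two_quotients {G : Type*} [Group G] (N₁ N₂ : Subgroup G)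
    [N₁.Normal] [N₂.Normal] (h : N₁ ⊓ N₂ = ⊥)
    (h₁ : Group.IsNilpotent (commutator (G ⧸ N₁)))
    (h₂ : Group.IsNilpotent (commutator (G ⧸ N₂))) : Group.IsNilpotent (commutator G) := by
  have hm₁ : ∀ x : commutator G, QuotientGroup.mk' N₁ (x : G) ∈ commutator (G ⧸ N₁) :=
    fun x => map_commutator_le' _ (Subgroup.mem_map_of_mem _ x.2)
  have hm₂ : ∀ x : commutator G, QuotientGroup.mk' N₂ (x : G) ∈ commutator (G ⧸ N₂) :=
    fun x => map_commutator_le' _ (Subgroup.mem_map_of_mem _ x.2)
  let g₁ : commutator G →* commutator (G ⧸ N₁) :=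
    ((QuotientGroup.mk' N₁).comp (commutator G).subtype).codRestrict _ hm₁
  let g₂ : commutator G →* commutator (G ⧸ N₂) :=
    ((QuotientGroup.mk' N₂).comp (commutator G).subtype).codRestrict _ hm₂
  let f : commutator G →* commutator (G ⧸ N₁) × commutator (G ⧸ N₂) := g₁.prod g₂
  have hf : Function.Injective f := by
    rw [injective_iff_map_eq_one]
    intro x hx
    have h1 : g₁ x = 1 := congrArg Prod.fst hx
    have h2 : g₂ x = 1 := congrArg Prod.snd hx
    have h1' : QuotientGroup.mk' N₁ (x : G) = 1 := congrArg Subtype.val h1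
    have h2' : QuotientGroup.mk' N₂ (x : G) = 1 := congrArg Subtype.val h2
    rw [← MonoidHom.mem_ker, QuotientGroup.ker_mk'] at h1' h2'
    have : (x : G) ∈ N₁ ⊓ N₂ := ⟨h1', h2'⟩
    rw [h, Subgroup.mem_bot] at this
    exact Subtype.ext this
  exact isNilpotent_of_injective f hf

theorem sylow_map_le_pCore {Q : Type*} [Group Q] [Finite Q] (p : ℕ) [Fact p.Prime]
    (A : Subgroup Q) [hAn : A.Normal] (hAab : ∀ a ∈ A, ∀ b ∈ A, a * b = b * a) (P : Sylow p A) :
    (P : Subgroup A).map A.subtype ≤ pCore p Q := by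
  have hPn : (P : Subgroup A).Normal := by
    constructor
    intro n hn g
    have : g * n * g⁻¹ = n := by
      have h1 : g * n = n * g := Subtype.ext (hAab g g.2 n n.2)
      rw [h1, mul_assoc, mul_inv_cancel, mul_one]
    rw [this]; exact hn
  have hchar : (P : Subgroup A).Characteristic := Sylow.characteristic_of_normal P hPn
  have hn : ((P : Subgroup A).map A.subtype).Normal := ConjAct.normal_of_characteristic_of_normal
  exact Cfsg.Agent.Lib.Helper55.le_pCore hn (P.2.map A.subtype)

theorem card_coprime_of_abelian_normal {Q : Type*} [Group Q] [Finite Q] (p : ℕ) [Fact p.Prime]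
    (hcore : pCore p Q = ⊥) (A : Subgroup Q) [hAn : A.Normal]
    (hAab : ∀ a ∈ A, ∀ b ∈ A, a * b = b * a) : (Nat.card A).Coprime p := by
  have hp : p.Prime := Fact.out
  rw [Nat.coprime_comm, Nat.Prime.coprime_iff_not_dvd hp]
  intro hdvd
  obtain ⟨P⟩ : Nonempty (Sylow p A) := inferInstance
  have h1 := sylow_map_le_pCore p A hAab P
  rw [hcore, le_bot_iff, Subgroup.map_eq_bot_iff_of_injective _ A.subtype_injective] at h1
  exact P.ne_bot_of_dvd_card hdvd h1

theorem exists_pCore_ne_bot {G : Type*} [Group G] [Finite G] [Nontrivial G]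
    [Group.IsSolvable G] : ∃ p : ℕ, p.Prime ∧ pCore p G ≠ ⊥ := by
  obtain ⟨A, hAn, hAne, -, hAab⟩ :=
    Cfsg.Agent.Lib.Helper55.exists_normal_abelian_le (⊤ : Subgroup G) inferInstance
      (by exact top_ne_bot)
  have hAcomm : ∀ a ∈ A, ∀ b ∈ A, a * b = b * a := by
    have := Subgroup.commutator_eq_bot_iff_le_centralizer.mp hAab
    intro a ha b hb
    exact (Subgroup.mem_centralizer_iff.mp (this ha) b hb).symm
  have hcard : Nat.card A ≠ 1 := by
    intro h
    exact hAne (Subgroup.card_eq_one.mp h)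
  obtain ⟨p, hp, hdvd⟩ := Nat.exists_prime_and_dvd hcard
  refine ⟨p, hp, ?_⟩
  haveI : Fact p.Prime := ⟨hp⟩
  intro hcore
  obtain ⟨P⟩ : Nonempty (Sylow p A) := inferInstance
  have h1 := sylow_map_le_pCore p A hAcomm P
  rw [hcore, le_bot_iff, Subgroup.map_eq_bot_iff_of_injective _ A.subtype_injective] at h1
  exact P.ne_bot_of_dvd_card hdvd h1

theorem isPGroup_commutator_of_nilpotent {G : Type*} [Group G] [Finite G] (p : ℕ) [Fact p.Prime]
    (F : Subgroup G) [hFn : F.Normal] (hFp : IsPGroup p F)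
    (hcent : Subgroup.centralizer (F : Set G) ≤ F)
    (K : Subgroup G) (hFK : F ≤ K) (hnil : Group.IsNilpotent (commutator ↥K)) :
    IsPGroup p (⁅K, K⁆ : Subgroup G) := by
  have hp : p.Prime := Fact.out
  set D : Subgroup ↥K := commutator ↥K with hD
  have hDn : D.Normal := inferInstance
  -- Step 1
  have step1 : ∀ x : ↥K, x ∈ D → (orderOf x).Coprime p → x = 1 := by
    intro x hx hcop
    have hxc : (x : G) ∈ Subgroup.centralizer (F : Set G) := by
      rw [Subgroup.mem_centralizer_iff]
      intro f hf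
      set f' : ↥K := ⟨f, hFK hf⟩ with hf'
      set z : ↥K := f'⁻¹ * (x * f' * x⁻¹) with hz
      have hzD : z ∈ D := by
        have h1 : f'⁻¹ * x * f' ∈ D := by
          have := hDn.conj_mem x hx f'⁻¹
          simpa using this
        have h2 : z = (f'⁻¹ * x * f') * x⁻¹ := by rw [hz]; group
        rw [h2]
        exact D.mul_mem h1 (D.inv_mem hx)
      have hzF : (z : G) ∈ F := by
        have h1 : (x : G) * f * (x : G)⁻¹ ∈ F := hFn.conj_mem f hf x
        have h2 : (z : G) = f⁻¹ * ((x : G) * f * (x : G)⁻¹) := by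
          rw [hz, hf']; simp
        rw [h2]
        exact F.mul_mem (F.inv_mem hf) h1
      obtain ⟨j, hj⟩ := (IsPGroup.iff_orderOf.mp hFp) ⟨(z : G), hzF⟩
      have hzo : orderOf z = p ^ j := by
        rw [← Subgroup.orderOf_coe z, ← hj, ← Subgroup.orderOf_coe (⟨(z : G), hzF⟩ : F)]
      have hcop2 : (orderOf x).Coprime (orderOf z) := by
        rw [hzo]; exact Nat.Coprime.pow_right j hcop
      have hcomm : Commute (⟨x, hx⟩ : D) ⟨z, hzD⟩ := by
        apply Cfsg.Agent.Lib.Helper65.commute_of_coprime_orderOf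
        rw [← Subgroup.orderOf_coe (⟨x, hx⟩ : D), ← Subgroup.orderOf_coe (⟨z, hzD⟩ : D)]
        exact hcop2
      have hxz : x * z = z * x := congrArg Subtype.val hcomm.eq
      have h3 : x * f' = f' * x :=
        Cfsg.Agent.Lib.Helper24.commute_of_comm_commute_of_coprime x f' hxz hcop2
      have h4 := congrArg Subtype.val h3
      simp only [Subgroup.coe_mul, hf'] at h4
      exact h4.symm
    have hxF : (x : G) ∈ F := hcent hxc
    obtain ⟨j, hj⟩ := (IsPGroup.iff_orderOf.mp hFp) ⟨(x : G), hxF⟩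
    have hxo : orderOf x = p ^ j := by
      rw [← Subgroup.orderOf_coe x, ← hj, ← Subgroup.orderOf_coe (⟨(x : G), hxF⟩ : F)]
    rw [hxo] at hcop
    rcases Nat.eq_zero_or_pos j with h0 | hpos
    · rw [h0, pow_zero] at hxo
      exact orderOf_eq_one_iff.mp hxo
    · exfalso
      have : p ∣ Nat.gcd (p ^ j) p := Nat.dvd_gcd (dvd_pow_self p hpos.ne') dvd_rfl
      rw [Nat.Coprime] at hcop
      rw [hcop] at this
      exact hp.one_lt.ne' (Nat.dvd_one.mp this)
  -- Step 2
  have step2 : IsPGroup p D := by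
    intro y
    have hyo : orderOf y ≠ 0 := (orderOf_pos y).ne'
    obtain ⟨a, m, hm, hym⟩ := Nat.exists_eq_pow_mul_and_not_dvd hyo p hp.ne_one
    refine ⟨a, ?_⟩
    set y' := y ^ p ^ a with hy'
    have hy'o : orderOf y' = m := by
      rw [hy', orderOf_pow' y (pow_pos hp.pos a).ne', hym,
        Nat.gcd_eq_right (dvd_mul_right _ _), Nat.mul_div_cancel_left _ (pow_pos hp.pos a)]
    have hcop : (orderOf (y' : ↥K)).Coprime p := by
      rw [Subgroup.orderOf_coe, hy'o]
      exact ((Nat.Prime.coprime_iff_not_dvd hp).mpr hm).symm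
    have := step1 (y' : ↥K) y'.2 hcop
    exact Subtype.ext this
  -- Step 3
  have hmap : D.map K.subtype = ⁅K, K⁆ := by
    rw [hD, commutator_def, Subgroup.map_commutator, ← MonoidHom.range_eq_map,
      Subgroup.range_subtype]
  rw [← hmap]
  exact step2.map K.subtype

theorem normal_of_le_center {H : Type*} [Group H] (L : Subgroup H) (h : L ≤ Subgroup.center H) :
    L.Normal := by
  constructor
  intro n hn g
  have h1 : g * n = n * g := (Subgroup.mem_center_iff.mp (h hn)) g
  have : g * n * g⁻¹ = n := by rw [h1, mul_assoc, mul_inv_cancel, mul_one]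
  rw [this]; exact hn

end Cfsg.Agent.Lib.Helper58.Fpf4
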