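import Mathlib
import Cfsg.Agent.Lib.Helper77.DefOneDefs

/-!
PROJECT BC, defect-one stage, MODULE (M3) of helper77's plan (board #2293):
for every linear character `μ` of `N_G(P)` (`|P| = p` a Sylow `p`-subgroup, `char F = p`) there is an
irreducible `F G`-representation having a stable `μ`-semi-invariant.
-/

set_option autoImplicit false
set_option linter.unusedSectionVars false

namespace Cfsg.Agent.Lib.Helper58.DefOneM3

open Cfsg.Agent.Lib.Helper77.DefOne

universe u v w

section basics

variable {F : Type v} [Field F] {p : ℕ} [Fact p.Prime] [CharP F p]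

theorem unit_eq_one_of_pow_char (x : Fˣ) (hx : x ^ p = 1) : x = 1 := by
  have hxp : (x : F) ^ p = 1 := by
    have := congrArg Units.val hx
    simpa using this
  have h1 : ((x : F) - 1) ^ p = 0 := by
    rw [sub_pow_char, hxp, one_pow, sub_self]
  have h2 : (x : F) - 1 = 0 := by
    exact (pow_eq_zero_iff (Fact.out : p.Prime).ne_zero).mp h1
  exact Units.ext (by simpa [sub_eq_zero] using h2)

variable {G : Type u} [Group G] [Fintype G]

theorem mu_eq_one (P : Sylow p G) (hP : Nat.card P = p)
    (μ : Subgroup.normalizer ((P : Subgroup G) : Set G) →* Fˣ)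
    (n : Subgroup.normalizer ((P : Subgroup G) : Set G)) (hn : (n : G) ∈ (P : Subgroup G)) :
    μ n = 1 := by
  apply unit_eq_one_of_pow_char (p := p)
  rw [← map_pow]
  have h1 : n ^ p = 1 := by
    apply Subtype.ext
    have h2 := pow_card_eq_one' (G := (P : Subgroup G)) (x := ⟨(n : G), hn⟩)
    rw [hP] at h2
    have h3 := congrArg Subtype.val h2
    simpa using h3
  rw [h1, map_one]

end basics

section start

variable {F : Type v} [Field F] {G : Type u} [Group G] [Fintype G]

/-- left translation on functions `G → F` -/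
def funRep : Representation F G (G → F) where
  toFun g :=
    { toFun := fun f x => f (g⁻¹ * x)
      map_add' := fun _ _ => rfl
      map_smul' := fun _ _ => rfl }
  map_one' := by
    refine LinearMap.ext fun f => funext fun x => ?_
    simp
  map_mul' g h := by
    refine LinearMap.ext fun f => funext fun x => ?_
    simp [mul_assoc]

@[simp] theorem funRep_apply (g : G) (f : G → F) (x : G) :
    funRep (F := F) g f x = f (g⁻¹ * x) := rfl

/-- right `P`-invariant functions: the permutation module on `G/P` -/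
def W0 (P : Subgroup G) : Submodule F (G → F) where
  carrier := {f | ∀ g : G, ∀ u ∈ P, f (g * u) = f g}
  add_mem' := by
    intro a b ha hb g u hu
    simp [ha g u hu, hb g u hu]
  zero_mem' := by
    intro g u _
    rfl
  smul_mem' := by
    intro c a ha g u hu
    simp [ha g u hu]

theorem mem_W0 (P : Subgroup G) (f : G → F) :
    f ∈ W0 (F := F) P ↔ ∀ g : G, ∀ u ∈ P, f (g * u) = f g := Iff.rfl

theorem W0_inv (P : Subgroup G) (g : G) :
    W0 (F := F) P ≤ (W0 (F := F) P).comap (funRep (F := F) g) := by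
  intro f hf x u hu
  show f (g⁻¹ * (x * u)) = f (g⁻¹ * x)
  rw [← mul_assoc]
  exact hf _ u hu

/-- the permutation representation on `G/P` -/
def rho0 (P : Subgroup G) : Representation F G (W0 (F := F) P) :=
  (funRep (F := F)).subrepresentation (W0 P) (W0_inv P)

variable {p : ℕ} [Fact p.Prime] [CharP F p]

/-- the starting vector -/
noncomputable def z0 (P : Sylow p G)
    (μ : Subgroup.normalizer ((P : Subgroup G) : Set G) →* Fˣ) : G → F := by
  classical
  exact fun g => if h : g ∈ Subgroup.normalizer ((P : Subgroup G) : Set G) then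
    (((μ ⟨g, h⟩)⁻¹ : Fˣ) : F) else 0

theorem z0_of_mem (P : Sylow p G)
    (μ : Subgroup.normalizer ((P : Subgroup G) : Set G) →* Fˣ) (g : G)
    (h : g ∈ Subgroup.normalizer ((P : Subgroup G) : Set G)) :
    z0 P μ g = (((μ ⟨g, h⟩)⁻¹ : Fˣ) : F) := by
  classical
  unfold z0
  rw [dif_pos h]

theorem z0_of_not_mem (P : Sylow p G)
    (μ : Subgroup.normalizer ((P : Subgroup G) : Set G) →* Fˣ) (g : G)
    (h : g ∉ Subgroup.normalizer ((P : Subgroup G) : Set G)) :
    z0 P μ g = 0 := by
  classical
  unfold z0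
  rw [dif_neg h]

theorem z0_mem (P : Sylow p G) (hP : Nat.card P = p)
    (μ : Subgroup.normalizer ((P : Subgroup G) : Set G) →* Fˣ) :
    z0 P μ ∈ W0 (F := F) (P : Subgroup G) := by
  intro g u hu
  have huN : u ∈ Subgroup.normalizer ((P : Subgroup G) : Set G) := Subgroup.le_normalizer hu
  by_cases hg : g ∈ Subgroup.normalizer ((P : Subgroup G) : Set G)
  · have hgu : g * u ∈ Subgroup.normalizer ((P : Subgroup G) : Set G) := mul_mem hg huN
    rw [z0_of_mem P μ _ hgu, z0_of_mem P μ _ hg]
    have h1 : (⟨g * u, hgu⟩ : Subgroup.normalizer ((P : Subgroup G) : Set G)) = ⟨g, hg⟩ * ⟨u, huN⟩ :=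
      rfl
    rw [h1, map_mul, mu_eq_one P hP μ ⟨u, huN⟩ hu, mul_one]
  · have hgu : g * u ∉ Subgroup.normalizer ((P : Subgroup G) : Set G) := by
      intro h
      apply hg
      have := mul_mem h (inv_mem huN)
      simpa using this
    rw [z0_of_not_mem P μ _ hgu, z0_of_not_mem P μ _ hg]

theorem z0_semi (P : Sylow p G)
    (μ : Subgroup.normalizer ((P : Subgroup G) : Set G) →* Fˣ)
    (n : Subgroup.normalizer ((P : Subgroup G) : Set G)) :
    funRep (F := F) (n : G) (z0 P μ) = ((μ n : Fˣ) : F) • z0 P μ := by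
  funext x
  rw [funRep_apply, Pi.smul_apply, smul_eq_mul]
  by_cases hx : x ∈ Subgroup.normalizer ((P : Subgroup G) : Set G)
  · have hnx : (n : G)⁻¹ * x ∈ Subgroup.normalizer ((P : Subgroup G) : Set G) :=
      mul_mem (inv_mem n.2) hx
    rw [z0_of_mem P μ _ hnx, z0_of_mem P μ _ hx]
    have h1 : (⟨(n : G)⁻¹ * x, hnx⟩ : Subgroup.normalizer ((P : Subgroup G) : Set G)) =
        n⁻¹ * ⟨x, hx⟩ := rfl
    rw [h1, map_mul, map_inv, mul_inv, inv_inv, Units.val_mul]
  · have hnx : (n : G)⁻¹ * x ∉ Subgroup.normalizer ((P : Subgroup G) : Set G) := by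
      intro h
      apply hx
      have := mul_mem n.2 h
      simpa using this
    rw [z0_of_not_mem P μ _ hnx, z0_of_not_mem P μ _ hx, mul_zero]

theorem z0_one (P : Sylow p G)
    (μ : Subgroup.normalizer ((P : Subgroup G) : Set G) →* Fˣ) : z0 P μ 1 = 1 := by
  rw [z0_of_mem P μ 1 (one_mem _)]
  have : (⟨1, one_mem _⟩ : Subgroup.normalizer ((P : Subgroup G) : Set G)) = 1 := rfl
  rw [this, map_one]
  simp

theorem trOne_rho0_one (P : Sylow p G) (hP : Nat.card P = p) (y : W0 (F := F) (P : Subgroup G)) :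
    (trOne (rho0 (F := F) (P : Subgroup G)) (P : Subgroup G) y : G → F) 1 = 0 := by
  classical
  rw [trOne_apply]
  have h1 : ∀ g ∈ Finset.univ.filter (fun g : G => g ∈ (P : Subgroup G)),
      ((rho0 (F := F) (P : Subgroup G) g y : W0 (F := F) (P : Subgroup G)) : G → F) 1
        = (y : G → F) 1 := by
    intro g hg
    rw [Finset.mem_filter] at hg
    show (y : G → F) (g⁻¹ * 1) = (y : G → F) 1
    rw [mul_one]
    have := y.2 1 g⁻¹ (inv_mem hg.2)
    rw [one_mul] at this
    exact this
  rw [Submodule.coe_sum, Finset.sum_apply, Finset.sum_congr rfl h1, Finset.sum_const]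
  have hc : (Finset.univ.filter (fun g : G => g ∈ (P : Subgroup G))).card = p := by
    have h2 : Nat.card (P : Subgroup G) =
        (Finset.univ.filter (fun g : G => g ∈ (P : Subgroup G))).card := by
      rw [Nat.card_eq_fintype_card, Fintype.card_subtype]
    rw [← h2]
    exact hP
  rw [hc]
  simp

theorem start_stable (P : Sylow p G) (hP : Nat.card P = p)
    (μ : Subgroup.normalizer ((P : Subgroup G) : Set G) →* Fˣ) :
    IsStableSemiInv (rho0 (F := F) (P : Subgroup G)) (P : Subgroup G) μ
      ⟨z0 P μ, z0_mem P hP μ⟩ := by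
  constructor
  · intro n
    apply Subtype.ext
    show funRep (F := F) (n : G) (z0 P μ) = ((μ n : Fˣ) : F) • z0 P μ
    exact z0_semi P μ n
  · rintro ⟨y, hy⟩
    have h1 := trOne_rho0_one (F := F) P hP y
    rw [hy] at h1
    have h2 : z0 P μ 1 = (0 : F) := h1
    rw [z0_one] at h2
    exact one_ne_zero h2

end start

section avg

variable {F : Type v} [Field F] {G : Type u} [Group G] [Fintype G]
  {V : Type w} [AddCommGroup V] [Module F V] {p : ℕ} [Fact p.Prime] [CharP F p]

/-- the normalizer of `P` -/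
abbrev NN (P : Sylow p G) : Subgroup G := Subgroup.normalizer ((P : Subgroup G) : Set G)

/-- `P` inside its normalizer -/
abbrev HH (P : Sylow p G) : Subgroup (NN P) := (P : Subgroup G).subgroupOf (NN P)

/-- a fixed `Fintype` structure on `N/P` -/
@[instance_reducible]
noncomputable def fintypeQ (P : Sylow p G) : Fintype (NN P ⧸ HH P) := Fintype.ofFinite _

attribute [local instance] fintypeQ

theorem cast_card_ne_zero (P : Sylow p G) : ((Nat.card (NN P ⧸ HH P) : ℕ) : F) ≠ 0 := by
  intro h
  rw [CharP.cast_eq_zero_iff F p] at h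
  have h1 : Nat.card (NN P ⧸ HH P) = (P : Subgroup G).relIndex (NN P) := by
    rw [← Subgroup.index_eq_card]
    rfl
  rw [h1] at h
  exact P.not_dvd_index (h.trans (Subgroup.relIndex_dvd_index_of_le Subgroup.le_normalizer))

/-- summand of the averaging operator -/
noncomputable def gv (ρ : Representation F G V) (P : Sylow p G) (μ : NN P →* Fˣ) (v : V)
    (n : NN P) : V :=
  (((μ n)⁻¹ : Fˣ) : F) • ρ (n : G) v

theorem gv_mul_right (ρ : Representation F G V) (P : Sylow p G) (hP : Nat.card P = p)
    (μ : NN P →* Fˣ) (v : V) (hv : ∀ u ∈ (P : Subgroup G), ρ u v = v)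
    (n : NN P) (h : NN P) (hh : h ∈ HH P) : gv ρ P μ v (n * h) = gv ρ P μ v n := by
  have hhP : (h : G) ∈ (P : Subgroup G) := Subgroup.mem_subgroupOf.mp hh
  unfold gv
  rw [map_mul, mu_eq_one P hP μ h hhP, mul_one]
  have : ((n * h : NN P) : G) = (n : G) * (h : G) := rfl
  rw [this, map_mul, Module.End.mul_apply, hv _ hhP]

theorem gv_out (ρ : Representation F G V) (P : Sylow p G) (hP : Nat.card P = p)
    (μ : NN P →* Fˣ) (v : V) (hv : ∀ u ∈ (P : Subgroup G), ρ u v = v) (n : NN P) :
    gv ρ P μ v ((n : NN P ⧸ HH P).out) = gv ρ P μ v n := by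
  obtain ⟨h, hh⟩ := QuotientGroup.mk_out_eq_mul (HH P) n
  rw [hh]
  exact gv_mul_right ρ P hP μ v hv n h h.2

theorem rho_gv (ρ : Representation F G V) (P : Sylow p G)
    (μ : NN P →* Fˣ) (v : V) (n' n : NN P) :
    ρ (n' : G) (gv ρ P μ v n) = ((μ n' : Fˣ) : F) • gv ρ P μ v (n' * n) := by
  unfold gv
  have h1 : ((n' * n : NN P) : G) = (n' : G) * (n : G) := rfl
  have h2 : ρ ((n' : G) * (n : G)) v = ρ (n' : G) (ρ (n : G) v) := by
    rw [map_mul]
    rfl
  rw [map_smul, h1, h2, smul_smul]
  congr 1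
  rw [map_mul, ← Units.val_mul]
  congr 1
  rw [mul_inv, ← mul_assoc, mul_inv_cancel, one_mul]

/-- the `(μ, N/P)`-averaging operator (without the factor `1/|N:P|`) -/
noncomputable def avgLin (ρ : Representation F G V) (P : Sylow p G) (μ : NN P →* Fˣ) : V →ₗ[F] V :=
  ∑ q : NN P ⧸ HH P, (((μ q.out)⁻¹ : Fˣ) : F) • ρ ((q.out : NN P) : G)

theorem avgLin_apply (ρ : Representation F G V) (P : Sylow p G) (μ : NN P →* Fˣ) (v : V) :
    avgLin ρ P μ v = ∑ q : NN P ⧸ HH P, gv ρ P μ v q.out := by
  unfold avgLin gv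
  rw [LinearMap.sum_apply]
  rfl

theorem rho_avgLin (ρ : Representation F G V) (P : Sylow p G) (hP : Nat.card P = p)
    (μ : NN P →* Fˣ) (v : V) (hv : ∀ u ∈ (P : Subgroup G), ρ u v = v) (n' : NN P) :
    ρ (n' : G) (avgLin ρ P μ v) = ((μ n' : Fˣ) : F) • avgLin ρ P μ v := by
  rw [avgLin_apply, map_sum, Finset.smul_sum]
  have h1 : ∀ q : NN P ⧸ HH P, ρ (n' : G) (gv ρ P μ v q.out) =
      ((μ n' : Fˣ) : F) • gv ρ P μ v ((n' • q).out) := by
    intro q
    rw [rho_gv, ← gv_out ρ P hP μ v hv (n' * q.out)]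
    congr 3
    have h2 : ((n' * q.out : NN P) : NN P ⧸ HH P) = n' • ((q.out : NN P) : NN P ⧸ HH P) := by
      rw [MulAction.Quotient.smul_mk, smul_eq_mul]
    rw [h2, QuotientGroup.out_eq']
  rw [Finset.sum_congr rfl (fun q _ => h1 q)]
  exact Finset.sum_equiv (MulAction.toPerm n') (by simp) (by intro q _; rfl)

theorem avgLin_of_semi (ρ : Representation F G V) (P : Sylow p G) (μ : NN P →* Fˣ) (z : V)
    (hz : IsSemiInv ρ (NN P) μ z) :
    avgLin ρ P μ z = ((Nat.card (NN P ⧸ HH P) : ℕ) : F) • z := by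
  rw [avgLin_apply]
  have h1 : ∀ q : NN P ⧸ HH P, gv ρ P μ z q.out = z := by
    intro q
    unfold gv
    rw [hz q.out, smul_smul, ← Units.val_mul, inv_mul_cancel, Units.val_one, one_smul]
  rw [Finset.sum_congr rfl (fun q _ => h1 q), Finset.sum_const, Finset.card_univ,
    Nat.card_eq_fintype_card, Nat.cast_smul_eq_nsmul]

theorem rho_trOne_of_mem_normalizer (ρ : Representation F G V) (P : Sylow p G) (n : G)
    (hn : n ∈ NN P) (y : V) :
    ρ n (trOne ρ (P : Subgroup G) y) = trOne ρ (P : Subgroup G) (ρ n y) := by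
  classical
  rw [trOne_apply, trOne_apply, map_sum]
  refine Finset.sum_equiv (MulAut.conj n).toEquiv ?_ ?_
  · intro g
    simp only [Finset.mem_filter, Finset.mem_univ, true_and]
    exact hn g
  · intro g _
    show ρ n (ρ g y) = ρ (n * g * n⁻¹) (ρ n y)
    rw [← Module.End.mul_apply, ← Module.End.mul_apply, ← map_mul, ← map_mul]
    congr 2
    group

theorem rho_trOne_of_mem (ρ : Representation F G V) (P : Sylow p G) (u : G)
    (hu : u ∈ (P : Subgroup G)) (y : V) :
    ρ u (trOne ρ (P : Subgroup G) y) = trOne ρ (P : Subgroup G) y := by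
  classical
  rw [trOne_apply, map_sum]
  refine Finset.sum_equiv (Equiv.mulLeft u) ?_ ?_
  · intro g
    simp only [Finset.mem_filter, Finset.mem_univ, true_and, Equiv.coe_mulLeft]
    exact ⟨fun h => mul_mem hu h, fun h => by simpa using mul_mem (inv_mem hu) h⟩
  · intro g _
    show ρ u (ρ g y) = ρ (u * g) y
    rw [map_mul, Module.End.mul_apply]

theorem avgLin_trOne (ρ : Representation F G V) (P : Sylow p G) (μ : NN P →* Fˣ) (y : V) :
    avgLin ρ P μ (trOne ρ (P : Subgroup G) y) = trOne ρ (P : Subgroup G) (avgLin ρ P μ y) := by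
  rw [avgLin_apply, avgLin_apply, map_sum]
  refine Finset.sum_congr rfl fun q _ => ?_
  unfold gv
  rw [rho_trOne_of_mem_normalizer ρ P _ (q.out : NN P).2, map_smul]

theorem avgLin_mem (ρ : Representation F G V) (P : Sylow p G) (μ : NN P →* Fˣ)
    (W : Submodule F V) (hW : ∀ g, W ≤ W.comap (ρ g)) (v : V) (hv : v ∈ W) :
    avgLin ρ P μ v ∈ W := by
  rw [avgLin_apply]
  refine Submodule.sum_mem _ fun q _ => ?_
  unfold gv
  exact Submodule.smul_mem _ _ (hW _ hv)

theorem trOne_sub (ρ : Representation F G V) (H : Subgroup G)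
    (W : Submodule F V) (hW : ∀ g, W ≤ W.comap (ρ g)) (x : W) :
    ((trOne (ρ.subrepresentation W hW) H x : W) : V) = trOne ρ H (x : V) := by
  classical
  rw [trOne_apply, trOne_apply, Submodule.coe_sum]
  rfl

theorem trOne_quot (ρ : Representation F G V) (H : Subgroup G)
    (W : Submodule F V) (hW : ∀ g, W ≤ W.comap (ρ g)) (x : V) :
    trOne (ρ.quotient W hW) H (Submodule.Quotient.mk x) =
      Submodule.Quotient.mk (trOne ρ H x) := by
  classical
  rw [trOne_apply, trOne_apply]
  have : (Submodule.Quotient.mk (∑ g ∈ Finset.univ.filter (fun g : G => g ∈ H), ρ g x) : V ⧸ W) =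
      ∑ g ∈ Finset.univ.filter (fun g : G => g ∈ H), (Submodule.Quotient.mk (ρ g x) : V ⧸ W) :=
    map_sum (Submodule.mkQ W) _ _
  rw [this]
  rfl

/-- half-exactness of "having a stable `μ`-semi-invariant" -/
theorem half_exact (ρ : Representation F G V) (P : Sylow p G) (hP : Nat.card P = p)
    (μ : NN P →* Fˣ) (W : Submodule F V) (hW : ∀ g, W ≤ W.comap (ρ g))
    (z : V) (hz : IsStableSemiInv ρ (P : Subgroup G) μ z) :
    (∃ x : W, IsStableSemiInv (ρ.subrepresentation W hW) (P : Subgroup G) μ x) ∨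
    (∃ x : V ⧸ W, IsStableSemiInv (ρ.quotient W hW) (P : Subgroup G) μ x) := by
  by_cases hq : (Submodule.Quotient.mk z : V ⧸ W) ∈
      LinearMap.range (trOne (ρ.quotient W hW) (P : Subgroup G))
  · left
    obtain ⟨ybar, hy⟩ := hq
    obtain ⟨y, rfl⟩ := Submodule.Quotient.mk_surjective W ybar
    rw [trOne_quot] at hy
    have hmem : z - trOne ρ (P : Subgroup G) y ∈ W := by
      rw [← Submodule.Quotient.eq]
      exact hy.symm
    set m : F := ((Nat.card (NN P ⧸ HH P) : ℕ) : F) with hm
    have hm0 : m ≠ 0 := cast_card_ne_zero P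
    -- z is P-fixed
    have hzP : ∀ u ∈ (P : Subgroup G), ρ u z = z := by
      intro u hu
      have h1 := hz.1 ⟨u, Subgroup.le_normalizer hu⟩
      rw [mu_eq_one P hP μ ⟨u, Subgroup.le_normalizer hu⟩ hu] at h1
      simpa using h1
    have hxP : ∀ u ∈ (P : Subgroup G),
        ρ u (z - trOne ρ (P : Subgroup G) y) = z - trOne ρ (P : Subgroup G) y := by
      intro u hu
      rw [map_sub, hzP u hu, rho_trOne_of_mem ρ P u hu]
    set x : V := z - trOne ρ (P : Subgroup G) y with hx
    set w : V := m⁻¹ • avgLin ρ P μ x with hw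
    have hwW : w ∈ W := Submodule.smul_mem _ _ (avgLin_mem ρ P μ W hW x hmem)
    have hweq : w = z - trOne ρ (P : Subgroup G) (m⁻¹ • avgLin ρ P μ y) := by
      rw [hw, hx, map_sub, avgLin_of_semi ρ P μ z hz.1, avgLin_trOne, smul_sub, smul_smul,
        inv_mul_cancel₀ hm0, one_smul, map_smul]
    refine ⟨⟨w, hwW⟩, ?_, ?_⟩
    · intro n
      apply Subtype.ext
      show ρ (n : G) w = ((μ n : Fˣ) : F) • w
      rw [hw, map_smul, rho_avgLin ρ P hP μ x hxP n, smul_comm]
    · rintro ⟨w', hw'⟩
      have h1 := congrArg Subtype.val hw'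
      rw [trOne_sub] at h1
      apply hz.2
      refine ⟨(w' : V) + m⁻¹ • avgLin ρ P μ y, ?_⟩
      rw [map_add, h1]
      show w + _ = z
      rw [hweq]
      abel
  · right
    refine ⟨Submodule.Quotient.mk z, ?_, hq⟩
    intro n
    show Submodule.Quotient.mk (ρ (n : G) z) = ((μ n : Fˣ) : F) • (Submodule.Quotient.mk z : V ⧸ W)
    rw [hz.1 n]
    rfl

end avg

section induction

variable {F : Type v} [Field F] {G : Type u} [Group G] [Fintype G] {p : ℕ} [Fact p.Prime]
  [CharP F p]

theorem exists_irreducible_aux (P : Sylow p G) (hP : Nat.card P = p) (μ : NN P →* Fˣ) :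
    ∀ (n : ℕ) (V : Type w) [AddCommGroup V] [Module F V] [FiniteDimensional F V]
      (ρ : Representation F G V), Module.finrank F V = n →
      (∃ z : V, IsStableSemiInv ρ (P : Subgroup G) μ z) →
      ∃ (V' : Type w) (_ : AddCommGroup V') (_ : Module F V') (_ : FiniteDimensional F V')
        (ρ' : Representation F G V'), ρ'.IsIrreducible ∧
          ∃ z : V', IsStableSemiInv ρ' (P : Subgroup G) μ z := by
  intro n
  induction n using Nat.strong_induction_on with
  | _ n ih =>
    intro V _ _ _ ρ hn hex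
    obtain ⟨z, hz⟩ := hex
    by_cases hirr : ρ.IsIrreducible
    · exact ⟨V, inferInstance, inferInstance, inferInstance, ρ, hirr, z, hz⟩
    · have hz0 : z ≠ 0 := by
        intro h
        apply hz.2
        rw [h]
        exact Submodule.zero_mem _
      have hnt : Nontrivial (Subrepresentation ρ) := by
        refine ⟨⟨⊥, ⊤, ?_⟩⟩
        intro h
        have h1 : (⊥ : Subrepresentation ρ).toSubmodule = (⊤ : Subrepresentation ρ).toSubmodule := by
          rw [h]
        have h2 : z ∈ (⊤ : Submodule F V) := Submodule.mem_top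
        have h3 : z ∈ (⊥ : Submodule F V) := by
          have : (⊥ : Submodule F V) = ⊤ := h1
          rw [this]
          exact h2
        exact hz0 ((Submodule.mem_bot F).mp h3)
      have hex2 : ∃ σ : Subrepresentation ρ, σ ≠ ⊥ ∧ σ ≠ ⊤ := by
        by_contra hcon
        apply hirr
        refine @IsSimpleOrder.mk _ _ _ hnt ?_
        intro σ
        by_cases h : σ = ⊥
        · exact Or.inl h
        · right
          by_contra h'
          exact hcon ⟨σ, h, h'⟩
      obtain ⟨σ, hσb, hσt⟩ := hex2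
      have hW : ∀ g, σ.toSubmodule ≤ σ.toSubmodule.comap (ρ g) :=
        fun g v hv => σ.apply_mem_toSubmodule g hv
      have hWb : σ.toSubmodule ≠ ⊥ := by
        intro h
        apply hσb
        exact Subrepresentation.toSubmodule_injective h
      have hWt : σ.toSubmodule ≠ ⊤ := by
        intro h
        apply hσt
        exact Subrepresentation.toSubmodule_injective h
      rcases half_exact ρ P hP μ σ.toSubmodule hW z hz with ⟨x, hx⟩ | ⟨x, hx⟩
      · refine ih (Module.finrank F σ.toSubmodule) ?_ σ.toSubmodule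
          (ρ.subrepresentation σ.toSubmodule hW) rfl ⟨x, hx⟩
        rw [← hn]
        exact Submodule.finrank_lt hWt
      · refine ih (Module.finrank F (V ⧸ σ.toSubmodule)) ?_ (V ⧸ σ.toSubmodule)
          (ρ.quotient σ.toSubmodule hW) rfl ⟨x, hx⟩
        rw [← hn]
        have h1 := Submodule.finrank_quotient_add_finrank σ.toSubmodule
        have h2 : Module.finrank F σ.toSubmodule ≠ 0 := by
          intro h
          exact hWb (Submodule.finrank_eq_zero.mp h)
        omega

/-- MODULE (M3), universe-polymorphic form -/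
theorem M3_general (P : Sylow p G) (hP : Nat.card P = p)
    (μ : Subgroup.normalizer ((P : Subgroup G) : Set G) →* Fˣ) :
    ∃ (V : Type (max u v)) (_ : AddCommGroup V) (_ : Module F V) (_ : FiniteDimensional F V)
      (ρ : Representation F G V), ρ.IsIrreducible ∧
        ∃ z : V, IsStableSemiInv ρ (P : Subgroup G) μ z :=
  exists_irreducible_aux P hP μ _ (W0 (F := F) (P : Subgroup G)) (rho0 (F := F) (P : Subgroup G))
    rfl ⟨⟨z0 P μ, z0_mem P hP μ⟩, start_stable P hP μ⟩

end induction

/-- MODULE (M3) exactly as stated on the board (#2293): `F : Type`, `G : Type u`. -/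
theorem M3 {F : Type} [Field F] {G : Type u} [Group G] [Fintype G] {p : ℕ} [Fact p.Prime]
    [CharP F p] (P : Sylow p G) (hP : Nat.card P = p)
    (μ : Subgroup.normalizer ((P : Subgroup G) : Set G) →* Fˣ) :
    ∃ (V : Type u) (_ : AddCommGroup V) (_ : Module F V) (_ : FiniteDimensional F V)
      (ρ : Representation F G V), ρ.IsIrreducible ∧
        ∃ z : V, IsStableSemiInv ρ (P : Subgroup G) μ z :=
  M3_general P hP μ

end Cfsg.Agent.Lib.Helper58.DefOneM3
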