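import Mathlib

set_option autoImplicit false

universe u

namespace Cfsg.Agent.Lib.Helper58

/-- the commutative group structure on a subgroup all of whose elements commute -/
@[reducible] def commGroupOfComm {G : Type u} [Group G] (N : Subgroup G)
    (hNc : ∀ a b : N, a * b = b * a) : CommGroup N :=
  { (inferInstance : Group N) with mul_comm := hNc }

/-- An elementary abelian normal `p`-subgroup `N` of `G`, viewed as a `ZMod p`-module on which
`G` acts linearly by conjugation. The module structure is hidden behind an existential so that
users need no local instances. -/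
theorem exists_conj_module {G : Type u} [Group G] (N : Subgroup G) [hN : N.Normal] (p : ℕ)
    [Fact p.Prime] (hNc : ∀ a b : N, a * b = b * a) (hNp : ∀ n ∈ N, n ^ p = 1) :
    ∃ (A : Type u) (_ : AddCommGroup A) (_ : Module (ZMod p) A) (e : N ≃ A)
      (Φ : G →* Module.End (ZMod p) A),
      (∀ a b : N, e (a * b) = e a + e b) ∧ (e 1 = 0) ∧
      (∀ (x : G) (n : N), Φ x (e n) = e ⟨x * n * x⁻¹, hN.conj_mem n n.2 x⟩) := by
  letI instC : CommGroup N := commGroupOfComm N hNc
  obtain ⟨instM⟩ : Nonempty (Module (ZMod p) (Additive N)) :=
    ⟨AddCommGroup.zmodModule (n := p) (by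
      intro x
      have h := hNp ((Additive.toMul x : N) : G) (Additive.toMul x : N).2
      have h' : (Additive.toMul x : N) ^ p = 1 := Subtype.ext h
      change Additive.ofMul ((Additive.toMul x : N) ^ p) = 0
      rw [h']
      rfl)⟩
  let F : G → Module.End (ZMod p) (Additive N) := fun x =>
    ((MulAut.conjNormal x : MulAut N).toMonoidHom.toAdditive).toZModLinearMap p
  have hF : ∀ (x : G) (a : Additive N),
      (F x) a = Additive.ofMul ((MulAut.conjNormal x : MulAut N) (Additive.toMul a)) :=
    fun _ _ => rfl
  have h1 : F 1 = 1 := by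
    apply LinearMap.ext
    intro a
    rw [hF, map_one]
    rfl
  have h2 : ∀ x y, F (x * y) = F x * F y := by
    intro x y
    apply LinearMap.ext
    intro a
    rw [Module.End.mul_apply, hF, hF, hF, map_mul]
    rfl
  refine ⟨Additive N, inferInstance, instM, Additive.ofMul,
    { toFun := F, map_one' := h1, map_mul' := h2 }, ?_, ?_, ?_⟩
  · intro a b
    rfl
  · rfl
  · intro x n
    change (F x) (Additive.ofMul n) = _
    rw [hF]
    apply congrArg Additive.ofMul
    apply Subtype.ext
    simp [MulAut.conjNormal_apply]

end Cfsg.Agent.Lib.Helper58
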