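import Mathlib
import Cfsg.Prelude.Def_Characters
import Cfsg.Agent.Lib.Helper75.Clifford2
import Cfsg.Agent.Lib.Helper75.Clifford3
import Cfsg.Agent.Lib.Helper75.BGChar
import Cfsg.Agent.Lib.Helper75.IndNormal
import Cfsg.Agent.Lib.Helper77.Deflation
import Cfsg.Agent.Lib.Helper77.Linear
import Cfsg.Agent.Lib.Helper78.CharValues
import Cfsg.Agent.Lib.Helper78.CharOrtho
import Cfsg.Agent.Lib.Helper74.SibleyAdd
import Cfsg.Agent.S0148

/-!
# Counting characters over a "moved" chief section (helper58)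

Abstract form of the character count of Peterfalvi (9.8)(d).  `N ≤ B ≤ A` are normal subgroups of
the finite group `G`, `A/N` is abelian, every subgroup between `N` and `B` containing an element
of `B \ N` is `B` (e.g. `|B : N|` prime), and every `g ∉ A` moves some element of `B` modulo `N`.
Then every irreducible character of `G` with `N` in its kernel but not `B` has degree `|G : A|`
(it is induced from a linear character of `A` with inertia group `A`), and there are exactly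
`(|G : N| - |G : B|) / |G : A|²` of them.
-/

set_option autoImplicit false

namespace Cfsg.Agent.Lib.Helper58.PF9Cnt

open Cfsg
open Cfsg.Agent.Lib.Helper75 Cfsg.Agent.Lib.Helper77 Cfsg.Agent.Lib.Helper78

universe u

variable {G : Type u} [Group G] [Fintype G]

/-- an irreducible character of `A` whose kernel contains `N` with `A/N` abelian is linear -/
theorem exists_hom_of_abelian_mod (A N : Subgroup G) [hN : N.Normal] [Fintype A]
    (hab : ∀ a ∈ A, ∀ b ∈ A, a * b * a⁻¹ * b⁻¹ ∈ N)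
    {lam : A → ℂ} (hlam : IsIrrCharacter A lam) (hker : ∀ n : A, (n : G) ∈ N → lam n = lam 1) :
    ∃ ν : A →* ℂˣ, ∀ a, lam a = ((ν a : ℂˣ) : ℂ) := by
  have hNA : (N.subgroupOf A).Normal := hN.subgroupOf A
  have hker' : ∀ n ∈ N.subgroupOf A, lam n = lam 1 := fun n hn => hker n hn
  obtain ⟨lam', hlam', hlam'eq⟩ := isIrrCharacter_deflate (N.subgroupOf A) hlam hker'
  have hcomm : IsMulCommutative (A ⧸ N.subgroupOf A) := by
    refine ⟨⟨fun a b => ?_⟩⟩
    obtain ⟨x, rfl⟩ := QuotientGroup.mk_surjective a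
    obtain ⟨y, rfl⟩ := QuotientGroup.mk_surjective b
    rw [← QuotientGroup.mk_mul, ← QuotientGroup.mk_mul, QuotientGroup.eq]
    have h1 := hab (y⁻¹ : A) (A.inv_mem y.2) (x⁻¹ : A) (A.inv_mem x.2)
    rw [Subgroup.mem_subgroupOf]
    have h2 : (((x * y)⁻¹ * (y * x) : A) : G) =
        ((y⁻¹ : A) : G) * ((x⁻¹ : A) : G) * ((y⁻¹ : A) : G)⁻¹ * ((x⁻¹ : A) : G)⁻¹ := by
      push_cast
      group
    rw [h2]
    exact h1
  have h1 : lam 1 = 1 := by
    have h2 := hlam'eq 1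
    rw [QuotientGroup.mk_one, IsIrrCharacter.map_one_of_comm hlam'] at h2
    exact h2.symm
  exact exists_monoidHom_of_degree_one (IsIrrCharacter.isCharacter hlam) h1

variable (N B A : Subgroup G) [hN : N.Normal] [hB : B.Normal] [hA : A.Normal]

omit [Fintype G] hN in
/-- the inertia group of a linear character of `A`, trivial on `N` and nontrivial on `B`, is `A` -/
theorem mem_of_conjFun_eq [Fintype A] (hNB : N ≤ B) (hBA : B ≤ A)
    (hgen : ∀ M : Subgroup G, N ≤ M → (∃ c ∈ B, c ∈ M ∧ c ∉ N) → B ≤ M)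
    (hmove : ∀ g : G, g ∉ A → ∃ b ∈ B, g * b * g⁻¹ * b⁻¹ ∉ N)
    (ν : A →* ℂˣ) (hνN : ∀ n : A, (n : G) ∈ N → ν n = 1) (hνB : ∃ b : A, (b : G) ∈ B ∧ ν b ≠ 1)
    {g : G} (hg : Cfsg.Agent.Lib.Helper75.conjFun A g (fun a : A => ((ν a : ℂˣ) : ℂ)) = fun a : A => ((ν a : ℂˣ) : ℂ)) :
    g ∈ A := by
  by_contra hgA
  obtain ⟨b, hbB, hc⟩ := hmove g hgA
  have hbA : b ∈ A := hBA hbB
  have hgbA : g * b * g⁻¹ ∈ A := hA.conj_mem b hbA g
  have h1 := congrFun hg ⟨b, hbA⟩
  rw [conjFun_apply] at h1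
  have h2 : ν ⟨g * b * g⁻¹, hgbA⟩ = ν ⟨b, hbA⟩ := Units.ext h1
  have h3 : ν (⟨g * b * g⁻¹, hgbA⟩ * ⟨b, hbA⟩⁻¹) = 1 := by
    rw [map_mul, map_inv, h2, mul_inv_cancel]
  -- the subgroup of `B` on which `ν` is trivial
  let M : Subgroup G := (ν.ker.map A.subtype) ⊓ B
  have hNM : N ≤ M := by
    intro n hn
    exact Subgroup.mem_inf.mpr ⟨Subgroup.mem_map.mpr
      ⟨⟨n, hBA (hNB hn)⟩, (MonoidHom.mem_ker).mpr (hνN _ hn), rfl⟩, hNB hn⟩
  have hcM : g * b * g⁻¹ * b⁻¹ ∈ M := by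
    exact Subgroup.mem_inf.mpr ⟨Subgroup.mem_map.mpr
      ⟨⟨g * b * g⁻¹, hgbA⟩ * ⟨b, hbA⟩⁻¹, (MonoidHom.mem_ker).mpr h3, rfl⟩,
      B.mul_mem (hB.conj_mem b hbB g) (B.inv_mem hbB)⟩
  have hBM : B ≤ M := hgen M hNM
    ⟨_, B.mul_mem (hB.conj_mem b hbB g) (B.inv_mem hbB), hcM, hc⟩
  obtain ⟨b', hb'B, hb'⟩ := hνB
  apply hb'
  have h4 := (Subgroup.mem_inf.mp (hBM hb'B)).1
  obtain ⟨x, hx, hxb⟩ := Subgroup.mem_map.mp h4
  have : x = b' := Subtype.ext hxb
  rw [← this]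
  exact (MonoidHom.mem_ker).mp hx

/-- every irreducible character of `G` with `N` in its kernel but not `B` has degree `|G : A|` -/
theorem degree_eq_index (hNB : N ≤ B) (hBA : B ≤ A)
    (hab : ∀ a ∈ A, ∀ b ∈ A, a * b * a⁻¹ * b⁻¹ ∈ N)
    (hgen : ∀ M : Subgroup G, N ≤ M → (∃ c ∈ B, c ∈ M ∧ c ∉ N) → B ≤ M)
    (hmove : ∀ g : G, g ∉ A → ∃ b ∈ B, g * b * g⁻¹ * b⁻¹ ∉ N)
    {θ : G → ℂ} (hθ : IsIrrCharacter G θ) (hθN : ∀ n ∈ N, θ n = θ 1)
    (hθB : ∃ b ∈ B, θ b ≠ θ 1) : θ 1 = (A.index : ℂ) := by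
  classical
  have : Fintype A := Fintype.ofFinite A
  have hθc : IsCharacter G θ := IsIrrCharacter.isCharacter hθ
  have hθcl : IsClassFunction G θ := IsCharacter.isClassFunction hθc
  obtain ⟨lam, hlam⟩ := exists_constituent_res A hθ
  have hres : IsCharacter A (fun a : A => θ a) := isCharacter_res A hθc
  have hlamN : ∀ n : A, (n : G) ∈ N → (lam : A → ℂ) n = (lam : A → ℂ) 1 := by
    intro n hn
    exact constituent_ker hres lam hlam n (hθN _ hn)
  obtain ⟨ν, hν⟩ := exists_hom_of_abelian_mod A N hab lam.2 hlamN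
  have hlamν : (lam : A → ℂ) = fun a : A => ((ν a : ℂˣ) : ℂ) := funext hν
  have hνN : ∀ n : A, (n : G) ∈ N → ν n = 1 := by
    intro n hn
    have h1 := hlamN n hn
    rw [hν, hν, map_one] at h1
    exact Units.ext h1
  -- `θ` is a constituent of the induced character
  have hind : IsCharacter G (indFun A (lam : A → ℂ)) :=
    Cfsg.Agent.S0148.result A _ (IsIrrCharacter.isCharacter lam.2)
  have hindθ : classInner (indFun A (lam : A → ℂ)) θ ≠ 0 := by
    rw [frobenius_reciprocity A _ hθcl]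
    intro h0
    apply hlam
    have h1 := classInner_conj_symm (fun a : A => θ a) (lam : A → ℂ)
    rw [h0] at h1
    exact (map_eq_zero _).mp h1
  have hνB : ∃ b : A, (b : G) ∈ B ∧ ν b ≠ 1 := by
    by_contra hcon
    push Not at hcon
    obtain ⟨b, hbB, hb⟩ := hθB
    apply hb
    have h1 : ∀ a : A, (a : G) ∈ B → (lam : A → ℂ) a = (lam : A → ℂ) 1 := by
      intro a ha
      rw [hν, hν, hcon a ha, map_one]
    have h2 := indFun_eq_of_forall_eq A B hBA (lam : A → ℂ) h1 b hbB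
    exact constituent_ker hind ⟨θ, hθ⟩ hindθ b h2
  have hT : ∀ g : G, g ∈ A ↔ Cfsg.Agent.Lib.Helper75.conjFun A g (lam : A → ℂ) = (lam : A → ℂ) := by
    intro g
    constructor
    · intro hg
      exact conjFun_of_mem A (IsCharacter.isClassFunction (IsIrrCharacter.isCharacter lam.2))
        ⟨g, hg⟩
    · intro hg
      rw [hlamν] at hg
      exact mem_of_conjFun_eq N B A hNB hBA hgen hmove ν hνN hνB hg
  obtain ⟨ψ, hψ, hψind, hψlam⟩ := exists_indFun_eq_of_over A A le_rfl lam.2 hT hθ hlam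
  have hψeq : ψ = (lam : A → ℂ) := by
    by_contra hne
    apply hlam
    rw [← hψlam]
    have : resNT A A le_rfl ψ = ψ := by
      funext a
      rfl
    rw [this]
    exact classInner_irr_ne hψ lam.2 hne
  rw [← hψind, indFun_one, hψeq, hν, map_one, Units.val_one, mul_one]

open Classical in
/-- the number of irreducible characters of `G` with `N` in the kernel but not `B` -/
theorem index_sq_mul_card_add (hNB : N ≤ B) (hBA : B ≤ A)
    (hab : ∀ a ∈ A, ∀ b ∈ A, a * b * a⁻¹ * b⁻¹ ∈ N)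
    (hgen : ∀ M : Subgroup G, N ≤ M → (∃ c ∈ B, c ∈ M ∧ c ∉ N) → B ≤ M)
    (hmove : ∀ g : G, g ∉ A → ∃ b ∈ B, g * b * g⁻¹ * b⁻¹ ∉ N) :
    A.index ^ 2 * (Finset.univ.filter (fun θ : IrrCharacter G =>
        (∀ n ∈ N, (θ : G → ℂ) n = (θ : G → ℂ) 1) ∧
          ∃ b ∈ B, (θ : G → ℂ) b ≠ (θ : G → ℂ) 1)).card + B.index = N.index := by
  have h1 := Cfsg.Agent.Lib.Helper74.sum_charDegree_sq_trivial_on N
  have h2 := Cfsg.Agent.Lib.Helper74.sum_charDegree_sq_trivial_on B
  rw [← h1, ← h2]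
  rw [← Finset.sum_filter_add_sum_filter_not
    (Finset.univ.filter (fun χ : IrrCharacter G => ∀ n ∈ N, (χ : G → ℂ) n = (χ : G → ℂ) 1))
    (fun χ : IrrCharacter G => ∀ n ∈ B, (χ : G → ℂ) n = (χ : G → ℂ) 1)]
  rw [Finset.filter_filter, Finset.filter_filter, add_comm]
  congr 1
  · apply Finset.sum_congr
    · ext χ
      simp only [Finset.mem_filter, Finset.mem_univ, true_and]
      constructor
      · intro h
        exact ⟨fun n hn => h n (hNB hn), h⟩
      · intro h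
        exact h.2
    · intro χ _
      rfl
  · have hfil : (Finset.univ.filter (fun χ : IrrCharacter G =>
        (∀ n ∈ N, (χ : G → ℂ) n = (χ : G → ℂ) 1) ∧
          ¬ ∀ n ∈ B, (χ : G → ℂ) n = (χ : G → ℂ) 1)) =
        (Finset.univ.filter (fun θ : IrrCharacter G =>
        (∀ n ∈ N, (θ : G → ℂ) n = (θ : G → ℂ) 1) ∧
          ∃ b ∈ B, (θ : G → ℂ) b ≠ (θ : G → ℂ) 1)) := by
      ext χ
      simp only [Finset.mem_filter, Finset.mem_univ, true_and]
      constructor
      · rintro ⟨h1, h2⟩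
        push Not at h2
        exact ⟨h1, h2⟩
      · rintro ⟨h1, h2⟩
        refine ⟨h1, ?_⟩
        push Not
        exact h2
    rw [hfil, Finset.sum_congr rfl (g := fun _ => A.index ^ 2), Finset.sum_const, smul_eq_mul,
      mul_comm]
    intro χ hχ
    rw [Finset.mem_filter] at hχ
    have h3 := degree_eq_index N B A hNB hBA hab hgen hmove χ.2 hχ.2.1 hχ.2.2
    rw [IsCharacter.apply_one_eq_charDegree (IsIrrCharacter.isCharacter χ.2)] at h3
    have h4 : charDegree (χ : G → ℂ) = A.index := by exact_mod_cast h3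
    rw [h4]

end Cfsg.Agent.Lib.Helper58.PF9Cnt
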