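import Mathlib
import Cfsg.Prelude.Def_Characters
import Cfsg.Agent.Lib.Helper58.PFNineCnt
import Cfsg.Agent.Lib.Helper75.Monomial

/-!
# Degrees divisible by the index of a stabilizer (helper58)

Abstract form of Peterfalvi (9.8)(a).  `N ≤ X ≤ R` are normal subgroups of the finite group `G`,
`R/N` is abelian, every subgroup containing `N` and an element of `X \ N` contains `X`
(e.g. `|X : N|` prime), and every `g ∉ A` moves some element of `X` modulo `N`.  Then the degree of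
every irreducible character of `G` with `N` in its kernel but not `X` is divisible by `|G : A|`:
the inertia group of a (linear) constituent of its restriction to `R` is contained in `A`.
-/

set_option autoImplicit false

namespace Cfsg.Agent.Lib.Helper58.PF9Cnt

open Cfsg
open Cfsg.Agent.Lib.Helper75 Cfsg.Agent.Lib.Helper77 Cfsg.Agent.Lib.Helper78

universe u

variable {G : Type u} [Group G]

variable (N X R A : Subgroup G) [hX : X.Normal] [hR : R.Normal]

/-- an element fixing a linear character of `R`, trivial on `N` and nontrivial on `X`, lies in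
`A` -/
theorem mem_of_conjFun_eq' (hNX : N ≤ X) (hXR : X ≤ R)
    (hgen : ∀ M : Subgroup G, N ≤ M → (∃ c ∈ X, c ∈ M ∧ c ∉ N) → X ≤ M)
    (hmove : ∀ g : G, g ∉ A → ∃ b ∈ X, g * b * g⁻¹ * b⁻¹ ∉ N)
    (ν : R →* ℂˣ) (hνN : ∀ n : R, (n : G) ∈ N → ν n = 1) (hνX : ∃ b : R, (b : G) ∈ X ∧ ν b ≠ 1)
    {g : G} (hg : Cfsg.Agent.Lib.Helper75.conjFun R g (fun a : R => ((ν a : ℂˣ) : ℂ)) =
      fun a : R => ((ν a : ℂˣ) : ℂ)) :
    g ∈ A := by
  by_contra hgA
  obtain ⟨b, hbX, hc⟩ := hmove g hgA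
  have hbR : b ∈ R := hXR hbX
  have hgbR : g * b * g⁻¹ ∈ R := hR.conj_mem b hbR g
  have h1 := congrFun hg ⟨b, hbR⟩
  rw [conjFun_apply] at h1
  have h2 : ν ⟨g * b * g⁻¹, hgbR⟩ = ν ⟨b, hbR⟩ := Units.ext h1
  have h3 : ν (⟨g * b * g⁻¹, hgbR⟩ * ⟨b, hbR⟩⁻¹) = 1 := by
    rw [map_mul, map_inv, h2, mul_inv_cancel]
  let M : Subgroup G := (ν.ker.map R.subtype) ⊓ X
  have hNM : N ≤ M := by
    intro n hn
    exact Subgroup.mem_inf.mpr ⟨Subgroup.mem_map.mpr
      ⟨⟨n, hXR (hNX hn)⟩, (MonoidHom.mem_ker).mpr (hνN _ hn), rfl⟩, hNX hn⟩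
  have hcM : g * b * g⁻¹ * b⁻¹ ∈ M := by
    exact Subgroup.mem_inf.mpr ⟨Subgroup.mem_map.mpr
      ⟨⟨g * b * g⁻¹, hgbR⟩ * ⟨b, hbR⟩⁻¹, (MonoidHom.mem_ker).mpr h3, rfl⟩,
      X.mul_mem (hX.conj_mem b hbX g) (X.inv_mem hbX)⟩
  have hXM : X ≤ M := hgen M hNM
    ⟨_, X.mul_mem (hX.conj_mem b hbX g) (X.inv_mem hbX), hcM, hc⟩
  obtain ⟨b', hb'X, hb'⟩ := hνX
  apply hb'
  have h4 := (Subgroup.mem_inf.mp (hXM hb'X)).1
  obtain ⟨x, hx, hxb⟩ := Subgroup.mem_map.mp h4
  have : x = b' := Subtype.ext hxb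
  rw [← this]
  exact (MonoidHom.mem_ker).mp hx

variable [Fintype G] [hN : N.Normal]

/-- the degree of an irreducible character with `N` in its kernel but not `X` is divisible by
`|G : A|` -/
theorem index_dvd_charDegree (hNX : N ≤ X) (hXR : X ≤ R)
    (hab : ∀ a ∈ R, ∀ b ∈ R, a * b * a⁻¹ * b⁻¹ ∈ N)
    (hgen : ∀ M : Subgroup G, N ≤ M → (∃ c ∈ X, c ∈ M ∧ c ∉ N) → X ≤ M)
    (hmove : ∀ g : G, g ∉ A → ∃ b ∈ X, g * b * g⁻¹ * b⁻¹ ∉ N)
    {θ : G → ℂ} (hθ : IsIrrCharacter G θ) (hθN : ∀ n ∈ N, θ n = θ 1)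
    (hθX : ∃ b ∈ X, θ b ≠ θ 1) : A.index ∣ charDegree θ := by
  classical
  have : Fintype R := Fintype.ofFinite R
  have hθc : IsCharacter G θ := IsIrrCharacter.isCharacter hθ
  have hθcl : IsClassFunction G θ := IsCharacter.isClassFunction hθc
  obtain ⟨lam, hlam⟩ := exists_constituent_res R hθ
  have hres : IsCharacter R (fun a : R => θ a) := isCharacter_res R hθc
  have hlamN : ∀ n : R, (n : G) ∈ N → (lam : R → ℂ) n = (lam : R → ℂ) 1 := by
    intro n hn
    exact constituent_ker hres lam hlam n (hθN _ hn)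
  obtain ⟨ν, hν⟩ := exists_hom_of_abelian_mod R N hab lam.2 hlamN
  have hlamν : (lam : R → ℂ) = fun a : R => ((ν a : ℂˣ) : ℂ) := funext hν
  have hνN : ∀ n : R, (n : G) ∈ N → ν n = 1 := by
    intro n hn
    have h1 := hlamN n hn
    rw [hν, hν, map_one] at h1
    exact Units.ext h1
  have hind : IsCharacter G (indFun R (lam : R → ℂ)) :=
    Cfsg.Agent.S0148.result R _ (IsIrrCharacter.isCharacter lam.2)
  have hindθ : classInner (indFun R (lam : R → ℂ)) θ ≠ 0 := by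
    rw [frobenius_reciprocity R _ hθcl]
    intro h0
    apply hlam
    have h1 := classInner_conj_symm (fun a : R => θ a) (lam : R → ℂ)
    rw [h0] at h1
    exact (map_eq_zero _).mp h1
  have hνX : ∃ b : R, (b : G) ∈ X ∧ ν b ≠ 1 := by
    by_contra hcon
    push Not at hcon
    obtain ⟨b, hbX, hb⟩ := hθX
    apply hb
    have h1 : ∀ a : R, (a : G) ∈ X → (lam : R → ℂ) a = (lam : R → ℂ) 1 := by
      intro a ha
      rw [hν, hν, hcon a ha, map_one]
    have h2 := indFun_eq_of_forall_eq R X hXR (lam : R → ℂ) h1 b hbX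
    exact constituent_ker hind ⟨θ, hθ⟩ hindθ b h2
  set T := inertia R (lam : R → ℂ) with hTdef
  have hRT : R ≤ T :=
    le_inertia R (IsCharacter.isClassFunction (IsIrrCharacter.isCharacter lam.2))
  have hTA : T ≤ A := by
    intro g hg
    have hg' : Cfsg.Agent.Lib.Helper75.conjFun R g (lam : R → ℂ) = (lam : R → ℂ) := hg
    rw [hlamν] at hg'
    exact mem_of_conjFun_eq' N X R A hNX hXR hgen hmove ν hνN hνX hg'
  have : Fintype T := Fintype.ofFinite T
  obtain ⟨ψ, hψ, hψind, -⟩ :=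
    exists_indFun_eq_of_over R T hRT lam.2 (fun g => Iff.rfl) hθ hlam
  have h1 : θ 1 = (T.index : ℂ) * ψ 1 := by rw [← hψind, indFun_one]
  rw [IsCharacter.apply_one_eq_charDegree hθc,
    IsCharacter.apply_one_eq_charDegree (IsIrrCharacter.isCharacter hψ)] at h1
  have h2 : charDegree θ = T.index * charDegree ψ := by exact_mod_cast h1
  rw [h2]
  exact Dvd.dvd.mul_right (Subgroup.index_dvd_of_le hTA) _

end Cfsg.Agent.Lib.Helper58.PF9Cnt
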