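import Mathlib
import Cfsg.Agent.Lib.Helper58.PFNineDefs
import Cfsg.Agent.Lib.Helper16.PFNineNB
import Cfsg.Agent.Lib.Helper16.PFNineNC
import Cfsg.Agent.Lib.Helper54.Coprime

/-!
# Peterfalvi (9.8)(d), group-theoretic part (helper58)

In the non-Galois case (`IsAxis`), with `Y` the join of the axes other than `H₁`, `D = U'`,
`I₁ = C_U(H₁/H₀)`:
* `D ≤ C_U(H/H₀) ≤ I₁` (`commutator_le_coreC`, `commutator_le_coreC_axis`);
* `Y D ≤ H D ≤ H I₁` are normalized by `K`, `H I₁ / Y D` is abelian, `|H D : Y D| = p`,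
  `|K : H I₁| = |U : I₁|`, `|K : H D| = |U : D|`, `|K : Y D| = p |U : D|`;
* an element of `K` outside `H I₁` moves an element of `H₁` modulo `Y D`.
-/

set_option autoImplicit false

namespace Cfsg.Agent.Lib.Helper58.PF9ND

open Cfsg Cfsg.Agent.Lib.Helper58.PF9 Cfsg.Agent.Lib.Helper16.PFNineNB
  Cfsg.Agent.Lib.Helper16.PFNineNC

universe u

section Abstract

variable {Q : Type*} [Group Q]

/-- if `a⁻¹` and `b⁻¹` map `v` into `⟨v⟩` then the commutator of `a` and `b` centralizes `v` -/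
theorem comm_centralizes_of_zpowers {v a b : Q} (ha : a⁻¹ * v * a ∈ Subgroup.zpowers v)
    (hb : b⁻¹ * v * b ∈ Subgroup.zpowers v) :
    (a * b * a⁻¹ * b⁻¹) * v * (a * b * a⁻¹ * b⁻¹)⁻¹ = v := by
  obtain ⟨m, hm⟩ := Subgroup.mem_zpowers_iff.mp ha
  obtain ⟨n, hn⟩ := Subgroup.mem_zpowers_iff.mp hb
  have h1 : a⁻¹ * (b⁻¹ * v * b) * a = v ^ (m * n) := by
    rw [← hn]
    have : a⁻¹ * v ^ n * a = (a⁻¹ * v * a) ^ n := by
      have := conj_zpow (a := a⁻¹) (b := v) (i := n)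
      simpa using this.symm
    rw [this, ← hm, ← zpow_mul]
  have h2 : b⁻¹ * (a⁻¹ * v * a) * b = v ^ (m * n) := by
    rw [← hm]
    have : b⁻¹ * v ^ m * b = (b⁻¹ * v * b) ^ m := by
      have := conj_zpow (a := b⁻¹) (b := v) (i := m)
      simpa using this.symm
    rw [this, ← hn, ← zpow_mul, mul_comm]
  have h3 : a⁻¹ * (b⁻¹ * v * b) * a = b⁻¹ * (a⁻¹ * v * a) * b := by rw [h1, h2]
  calc (a * b * a⁻¹ * b⁻¹) * v * (a * b * a⁻¹ * b⁻¹)⁻¹
      = a * b * (a⁻¹ * (b⁻¹ * v * b) * a) * b⁻¹ * a⁻¹ := by group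
    _ = a * b * (b⁻¹ * (a⁻¹ * v * a) * b) * b⁻¹ * a⁻¹ := by rw [h3]
    _ = v := by group

end Abstract

section Prime

variable {L : Type u} [Group L] {H₀ H₁ U : Subgroup L} {p : ℕ}

/-- `U'` centralizes a `U`-invariant section `H₁/H₀` of prime order -/
theorem commutator_le_coreC_of_prime [hH₀ : H₀.Normal] (hp : p.Prime) (h01 : H₀ ≤ H₁)
    (hrel : H₀.relIndex H₁ = p) (hU : U ≤ Subgroup.normalizer (H₁ : Set L)) :
    ⁅U, U⁆ ≤ coreC U H₁ H₀ := by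
  have hne : ¬ H₁ ≤ H₀ := by
    intro h
    have := Subgroup.relIndex_eq_one.mpr h
    rw [hrel] at this
    exact hp.one_lt.ne' this
  obtain ⟨v, hv1, hv0⟩ := SetLike.not_le_iff_exists.mp hne
  have hgen : H₁ ≤ H₀ ⊔ Subgroup.zpowers v := by
    rcases le_or_le_of_relIndex_prime hp hrel (le_sup_left : H₀ ≤ H₀ ⊔ Subgroup.zpowers v)
      (sup_le h01 ((Subgroup.zpowers_le).mpr hv1)) with h | h
    · exact absurd (h (Subgroup.mem_sup_right (Subgroup.mem_zpowers v))) hv0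
    · exact h
  set π := QuotientGroup.mk' H₀ with hπ
  have hπH₁ : ∀ h ∈ H₁, π h ∈ Subgroup.zpowers (π v) := by
    intro h hh
    have h1 : π h ∈ (H₀ ⊔ Subgroup.zpowers v).map π := Subgroup.mem_map_of_mem π (hgen hh)
    rw [Subgroup.map_sup, MonoidHom.map_zpowers] at h1
    have h2 : H₀.map π = ⊥ := by
      rw [Subgroup.map_eq_bot_iff, hπ, QuotientGroup.ker_mk']
    rw [h2, bot_sup_eq] at h1
    exact h1
  rw [Subgroup.commutator_le]
  intro x hx y hy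
  rw [commutatorElement_def]
  set c := x * y * x⁻¹ * y⁻¹ with hc
  have hcU : c ∈ U := U.mul_mem (U.mul_mem (U.mul_mem hx hy) (U.inv_mem hx)) (U.inv_mem hy)
  have hconj : ∀ z ∈ U, z⁻¹ * v * z ∈ H₁ := by
    intro z hz
    have := (Subgroup.mem_normalizer_iff.mp (hU (U.inv_mem hz)) v).mp hv1
    simpa using this
  have h1 : (π x)⁻¹ * π v * π x ∈ Subgroup.zpowers (π v) := by
    have := hπH₁ _ (hconj x hx)
    simpa using this
  have h2 : (π y)⁻¹ * π v * π y ∈ Subgroup.zpowers (π v) := by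
    have := hπH₁ _ (hconj y hy)
    simpa using this
  have h3 := comm_centralizes_of_zpowers h1 h2
  have hvc : v ∈ centMod H₀ c := by
    rw [mem_centMod]
    have h4 : π (c * v * c⁻¹ * v⁻¹) = 1 := by
      rw [hc]
      simp only [map_mul, map_inv]
      rw [h3, mul_inv_cancel]
    rw [← QuotientGroup.ker_mk' H₀]
    exact MonoidHom.mem_ker.mpr h4
  have hH₁c : H₁ ≤ centMod H₀ c := by
    refine le_trans hgen (sup_le ?_ ((Subgroup.zpowers_le).mpr hvc))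
    intro h₀ hh₀
    rw [mem_centMod]
    exact H₀.mul_mem (hH₀.conj_mem h₀ hh₀ c) (H₀.inv_mem hh₀)
  rw [mem_coreC]
  refine ⟨hcU, hU hcU, ?_, fun h hh => mem_centMod.mp (hH₁c hh)⟩
  rw [Subgroup.normalizer_eq_top_iff.mpr hH₀]
  exact Subgroup.mem_top c

end Prime

section General

variable {L : Type u} [Group L]

/-- elements of `Y ⊔ D` are products when `D` normalizes `Y` -/
theorem exists_mul_of_mem_sup {Y D : Subgroup L} (hD : D ≤ Subgroup.normalizer (Y : Set L)) {z : L}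
    (hz : z ∈ Y ⊔ D) : ∃ y ∈ Y, ∃ d ∈ D, z = y * d := by
  rw [Subgroup.sup_eq_closure_mul] at hz
  induction hz using Subgroup.closure_induction with
  | mem x hx =>
    obtain ⟨y, hy, d, hd, rfl⟩ := Set.mem_mul.mp hx
    exact ⟨y, hy, d, hd, rfl⟩
  | one => exact ⟨1, Y.one_mem, 1, D.one_mem, by simp⟩
  | mul a b _ _ ha hb =>
    obtain ⟨y, hy, d, hd, rfl⟩ := ha
    obtain ⟨y', hy', d', hd', rfl⟩ := hb
    refine ⟨y * (d * y' * d⁻¹), Y.mul_mem hy ?_, d * d', D.mul_mem hd hd', by group⟩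
    exact (Subgroup.mem_normalizer_iff.mp (hD hd) y').mp hy'
  | inv a _ ha =>
    obtain ⟨y, hy, d, hd, rfl⟩ := ha
    refine ⟨d⁻¹ * y⁻¹ * d⁻¹⁻¹, ?_, d⁻¹, D.inv_mem hd, by group⟩
    exact (Subgroup.mem_normalizer_iff.mp (hD (D.inv_mem hd)) y⁻¹).mp (Y.inv_mem hy)

/-- `X` normalizes `D` if it maps `D` into itself -/
theorem le_normalizer_of_conj_mem' {X D : Subgroup L}
    (h : ∀ x ∈ X, ∀ y ∈ D, x * y * x⁻¹ ∈ D) : X ≤ Subgroup.normalizer (D : Set L) := by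
  intro x hx
  rw [Subgroup.mem_normalizer_iff]
  intro y
  constructor
  · exact h x hx y
  · intro hy
    have := h x⁻¹ (X.inv_mem hx) _ hy
    simpa [mul_assoc] using this

/-- a subgroup normalizing `A` and `B` normalizes `A ⊔ B` -/
theorem le_normalizer_sup' {X A B : Subgroup L} (hA : X ≤ Subgroup.normalizer (A : Set L))
    (hB : X ≤ Subgroup.normalizer (B : Set L)) : X ≤ Subgroup.normalizer ((A ⊔ B : Subgroup L) : Set L) := by
  apply le_normalizer_of_conj_mem'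
  intro x hx z hz
  have hle : A ⊔ B ≤ (A ⊔ B).comap (MulAut.conj x).toMonoidHom := by
    apply sup_le
    · intro a ha
      rw [Subgroup.mem_comap]
      exact Subgroup.mem_sup_left ((Subgroup.mem_normalizer_iff.mp (hA hx) a).mp ha)
    · intro b hb
      rw [Subgroup.mem_comap]
      exact Subgroup.mem_sup_right ((Subgroup.mem_normalizer_iff.mp (hB hx) b).mp hb)
  exact hle hz

end General

section Axes

variable {L : Type u} [Group L] {K H U W₁ W₂ H₀ H₁ : Subgroup L} {p q : ℕ}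

/-- the join of `H₀` and the axes other than `H₁` -/
def Yoth (H₀ H₁ W₁ : Subgroup L) : Subgroup L :=
  H₀ ⊔ ⨆ (w : ↥W₁) (_ : w ≠ 1), axis H₁ (w : L)

theorem Yoth_eq_Yax [Fintype ↥W₁] [DecidableEq ↥W₁] :
    Yoth H₀ H₁ W₁ = Yax H₀ H₁ W₁ (Finset.univ.erase 1) := by
  unfold Yoth Yax
  congr 1
  apply le_antisymm
  · apply iSup₂_le
    intro w hw
    exact le_iSup₂ (f := fun (w : ↥W₁) (_ : w ∈ Finset.univ.erase (1 : ↥W₁)) => axis H₁ (w : L)) w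
      (Finset.mem_erase.mpr ⟨hw, Finset.mem_univ w⟩)
  · apply iSup₂_le
    intro w hw
    exact le_iSup₂ (f := fun (w : ↥W₁) (_ : w ≠ 1) => axis H₁ (w : L)) w
      (Finset.mem_erase.mp hw).1

theorem le_Yoth : H₀ ≤ Yoth H₀ H₁ W₁ := le_sup_left

theorem axis_le_Yoth {w : L} (hw : w ∈ W₁) (hw1 : w ≠ 1) : axis H₁ w ≤ Yoth H₀ H₁ W₁ := by
  have h1 : (⟨w, hw⟩ : ↥W₁) ≠ 1 := fun h => hw1 (congrArg Subtype.val h)
  exact le_trans (le_iSup₂ (f := fun (w : ↥W₁) (_ : w ≠ 1) => axis H₁ (w : L)) ⟨w, hw⟩ h1)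
    le_sup_right

variable [Finite L]

theorem Yoth_le (c : Ctx K H U W₁ W₂ H₀ p q) (hA : IsAxis H U W₁ H₀ H₁ p) :
    Yoth H₀ H₁ W₁ ≤ H := by
  classical
  have : Fintype ↥W₁ := Fintype.ofFinite _
  rw [Yoth_eq_Yax]
  exact Yax_le c hA _

theorem sup_Yoth (c : Ctx K H U W₁ W₂ H₀ p q) (hA : IsAxis H U W₁ H₀ H₁ p) :
    H₁ ⊔ Yoth H₀ H₁ W₁ = H := by
  apply le_antisymm (sup_le hA.le_H (Yoth_le c hA))
  rw [← hA.iSup_eq]
  apply iSup_le
  intro w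
  by_cases hw : (w : L) = 1
  · have : axis H₁ (w : L) = H₁ := by rw [hw]; exact axis_one H₁
    exact le_trans this.le le_sup_left
  · exact le_trans (axis_le_Yoth w.2 hw) le_sup_right

theorem Yoth_inf_le (c : Ctx K H U W₁ W₂ H₀ p q) (hA : IsAxis H U W₁ H₀ H₁ p) :
    Yoth H₀ H₁ W₁ ⊓ H₁ ≤ H₀ := by
  classical
  have : Fintype ↥W₁ := Fintype.ofFinite _
  obtain ⟨v, hv1, hv⟩ := exists_mem_not_mem_Yax c hA
  rw [← Yoth_eq_Yax] at hv
  rcases le_or_le_of_relIndex_prime c.p_prime hA.relIndex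
    (le_inf le_Yoth hA.H₀_le : H₀ ≤ Yoth H₀ H₁ W₁ ⊓ H₁) inf_le_right with h | h
  · exact h
  · exact absurd (h hv1).1 hv

theorem H_le_normalizer_Yoth (c : Ctx K H U W₁ W₂ H₀ p q) (hA : IsAxis H U W₁ H₀ H₁ p) :
    H ≤ Subgroup.normalizer (Yoth H₀ H₁ W₁ : Set L) :=
  le_normalizer_of_commutator_le (Yoth_le c hA) (le_trans c.comm_le le_Yoth)

omit [Finite L] in
theorem U_le_normalizer_Yoth (c : Ctx K H U W₁ W₂ H₀ p q) (hA : IsAxis H U W₁ H₀ H₁ p) :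
    U ≤ Subgroup.normalizer (Yoth H₀ H₁ W₁ : Set L) := by
  have hH₀ := c.H₀_normal
  apply le_normalizer_of_conj_mem'
  intro x hx z hz
  have hle : Yoth H₀ H₁ W₁ ≤ (Yoth H₀ H₁ W₁).comap (MulAut.conj x).toMonoidHom := by
    apply sup_le
    · intro a ha
      rw [Subgroup.mem_comap]
      exact le_Yoth (hH₀.conj_mem a ha x)
    · apply iSup₂_le
      intro w hw a ha
      rw [Subgroup.mem_comap]
      have hw' : (w : L) ≠ 1 := fun h => hw (Subtype.ext h)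
      exact axis_le_Yoth w.2 hw' (U_le_normalizer_axis c hA w.2 hx ha)
  exact hle hz

theorem K_le_normalizer_Yoth (c : Ctx K H U W₁ W₂ H₀ p q) (hA : IsAxis H U W₁ H₀ H₁ p) :
    K ≤ Subgroup.normalizer (Yoth H₀ H₁ W₁ : Set L) := by
  rw [← c.HU_sup]
  exact sup_le (H_le_normalizer_Yoth c hA) (U_le_normalizer_Yoth c hA)

theorem relIndex_Yoth (c : Ctx K H U W₁ W₂ H₀ p q) (hA : IsAxis H U W₁ H₀ H₁ p) :
    (Yoth H₀ H₁ W₁).relIndex H = p := by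
  have h1 : H₁ ≤ Subgroup.normalizer (Yoth H₀ H₁ W₁ : Set L) :=
    le_trans hA.le_H (H_le_normalizer_Yoth c hA)
  have h2 := Cfsg.Agent.Lib.Helper54.relIndex_sup_of_le_normalizer h1
  rw [sup_Yoth c hA] at h2
  rw [h2, ← Subgroup.inf_relIndex_right]
  have h3 : Yoth H₀ H₁ W₁ ⊓ H₁ = H₀ :=
    le_antisymm (Yoth_inf_le c hA) (le_inf le_Yoth hA.H₀_le)
  rw [h3, hA.relIndex]

end Axes

section Derived

open scoped commutatorElement

variable {L : Type u} [Group L] {K H U W₁ W₂ H₀ H₁ : Subgroup L} {p q : ℕ}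

/-- `U'` centralizes every axis modulo `H₀` -/
theorem commutator_le_coreC_axis (c : Ctx K H U W₁ W₂ H₀ p q) (hA : IsAxis H U W₁ H₀ H₁ p)
    {w : L} (hw : w ∈ W₁) : ⁅U, U⁆ ≤ coreC U (axis H₁ w) H₀ := by
  have hH₀ := c.H₀_normal
  apply commutator_le_coreC_of_prime c.p_prime (le_axis hA.H₀_le w)
    (by rw [relIndex_axis, hA.relIndex])
  apply le_normalizer_of_conj_mem'
  intro x hx g hg
  exact U_le_normalizer_axis c hA hw hx hg

/-- `U' ≤ C_U(H₁/H₀)` -/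
theorem commutator_le_coreC_one (c : Ctx K H U W₁ W₂ H₀ p q) (hA : IsAxis H U W₁ H₀ H₁ p) :
    ⁅U, U⁆ ≤ coreC U H₁ H₀ := by
  have h := commutator_le_coreC_axis c hA W₁.one_mem
  rwa [axis_one] at h

/-- `U' ≤ C_U(H/H₀)` in the non-Galois case -/
theorem commutator_le_coreC (c : Ctx K H U W₁ W₂ H₀ p q) (hA : IsAxis H U W₁ H₀ H₁ p) :
    ⁅U, U⁆ ≤ coreC U H H₀ := by
  have hH₀ := c.H₀_normal
  have hH := c.H_normal
  intro d hd
  rw [mem_coreC_of_normal]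
  refine ⟨Subgroup.commutator_le_self U hd, ?_⟩
  have hall : H ≤ centMod H₀ d := by
    rw [← hA.iSup_eq]
    apply iSup_le
    intro w g hg
    rw [mem_centMod]
    exact (mem_coreC.mp (commutator_le_coreC_axis c hA w.2 hd)).2.2.2 g hg
  exact fun h hh => mem_centMod.mp (hall hh)

/-- `U` normalizes every subgroup of `U` containing `U'` -/
theorem U_le_normalizer_of_commutator_le {V : Subgroup L} (hV : ⁅U, U⁆ ≤ V) (hVU : V ≤ U) :
    U ≤ Subgroup.normalizer (V : Set L) := by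
  apply le_normalizer_of_conj_mem'
  intro x hx y hy
  have h1 : x * y * x⁻¹ = ⁅x, y⁆ * y := by rw [commutatorElement_def]; group
  rw [h1]
  exact V.mul_mem (hV (Subgroup.commutator_mem_commutator hx (hVU hy))) hy

theorem H_conj_commutator_mem (c : Ctx K H U W₁ W₂ H₀ p q) (hA : IsAxis H U W₁ H₀ H₁ p)
    {h d : L} (hh : h ∈ H) (hd : d ∈ ⁅U, U⁆) : h * d * h⁻¹ * d⁻¹ ∈ H₀ := by
  have hH₀ := c.H₀_normal
  have hH := c.H_normal
  have h1 := ((mem_coreC_of_normal (U := U)).mp (commutator_le_coreC c hA hd)).2 h⁻¹ (H.inv_mem hh)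
  have h2 := hH₀.conj_mem _ h1 h
  have h3 : h * (d * h⁻¹ * d⁻¹ * h⁻¹⁻¹) * h⁻¹ = h * d * h⁻¹ * d⁻¹ := by group
  rwa [h3] at h2

variable [Finite L]

theorem K_le_normalizer_Yoth_sup (c : Ctx K H U W₁ W₂ H₀ p q) (hA : IsAxis H U W₁ H₀ H₁ p) :
    K ≤ Subgroup.normalizer ((Yoth H₀ H₁ W₁ ⊔ ⁅U, U⁆ : Subgroup L) : Set L) := by
  rw [← c.HU_sup]
  apply sup_le
  · apply le_normalizer_of_conj_mem'
    intro h hh z hz
    have hle : Yoth H₀ H₁ W₁ ⊔ ⁅U, U⁆ ≤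
        (Yoth H₀ H₁ W₁ ⊔ ⁅U, U⁆).comap (MulAut.conj h).toMonoidHom := by
      apply sup_le
      · intro a ha
        rw [Subgroup.mem_comap]
        exact Subgroup.mem_sup_left
          ((Subgroup.mem_normalizer_iff.mp (H_le_normalizer_Yoth c hA hh) a).mp ha)
      · intro d hd
        rw [Subgroup.mem_comap]
        have h1 : h * d * h⁻¹ = (h * d * h⁻¹ * d⁻¹) * d := by group
        show h * d * h⁻¹ ∈ _
        rw [h1]
        exact Subgroup.mul_mem _ (Subgroup.mem_sup_left (le_Yoth (H_conj_commutator_mem c hA hh hd)))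
          (Subgroup.mem_sup_right hd)
    exact hle hz
  · exact le_normalizer_sup' (U_le_normalizer_Yoth c hA)
      (U_le_normalizer_of_commutator_le le_rfl (Subgroup.commutator_le_self U))

omit [Finite L] in
theorem K_le_normalizer_H_sup (c : Ctx K H U W₁ W₂ H₀ p q) {V : Subgroup L}
    (hV : ⁅U, U⁆ ≤ V) (hVU : V ≤ U) :
    K ≤ Subgroup.normalizer ((H ⊔ V : Subgroup L) : Set L) := by
  have hH := c.H_normal
  rw [← c.HU_sup]
  apply sup_le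
  · exact le_trans le_sup_left Subgroup.le_normalizer
  · apply le_normalizer_sup' _ (U_le_normalizer_of_commutator_le hV hVU)
    rw [Subgroup.normalizer_eq_top_iff.mpr hH]
    exact le_top

end Derived

section CommMod

variable {L : Type u} [Group L]

/-- the elements `b` of `N(M)` with `[a, b] ∈ M` form a subgroup, for every `a` -/
def commMod (M : Subgroup L) (a : L) : Subgroup L where
  carrier := {b | b ∈ Subgroup.normalizer (M : Set L) ∧ a * b * a⁻¹ * b⁻¹ ∈ M}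
  one_mem' := ⟨Subgroup.one_mem _, by simp⟩
  mul_mem' := by
    rintro b b' ⟨hb, hb2⟩ ⟨hb', hb2'⟩
    refine ⟨Subgroup.mul_mem _ hb hb', ?_⟩
    have h1 : a * (b * b') * a⁻¹ * (b * b')⁻¹ =
        (a * b * a⁻¹ * b⁻¹) * (b * (a * b' * a⁻¹ * b'⁻¹) * b⁻¹) := by group
    rw [h1]
    exact M.mul_mem hb2 ((Subgroup.mem_normalizer_iff.mp hb _).mp hb2')
  inv_mem' := by
    rintro b ⟨hb, hb2⟩
    refine ⟨Subgroup.inv_mem _ hb, ?_⟩
    have h1 : a * b⁻¹ * a⁻¹ * b⁻¹⁻¹ = b⁻¹ * (a * b * a⁻¹ * b⁻¹)⁻¹ * b⁻¹⁻¹ := by group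
    rw [h1]
    exact (Subgroup.mem_normalizer_iff.mp (Subgroup.inv_mem _ hb) _).mp (M.inv_mem hb2)

theorem mem_commMod {M : Subgroup L} {a b : L} :
    b ∈ commMod M a ↔ b ∈ Subgroup.normalizer (M : Set L) ∧ a * b * a⁻¹ * b⁻¹ ∈ M := Iff.rfl

theorem comm_mem_symm {M : Subgroup L} {a b : L} (h : a * b * a⁻¹ * b⁻¹ ∈ M) :
    b * a * b⁻¹ * a⁻¹ ∈ M := by
  have h1 : b * a * b⁻¹ * a⁻¹ = (a * b * a⁻¹ * b⁻¹)⁻¹ := by group
  rw [h1]
  exact M.inv_mem h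

/-- if two subgroups `X₁`, `X₂` normalizing `M` commute pairwise modulo `M`, then `X₁ ⊔ X₂` is
abelian modulo `M` -/
theorem comm_mem_of_sup {M X₁ X₂ : Subgroup L}
    (hN₁ : X₁ ≤ Subgroup.normalizer (M : Set L)) (hN₂ : X₂ ≤ Subgroup.normalizer (M : Set L))
    (h11 : ∀ a ∈ X₁, ∀ b ∈ X₁, a * b * a⁻¹ * b⁻¹ ∈ M)
    (h12 : ∀ a ∈ X₁, ∀ b ∈ X₂, a * b * a⁻¹ * b⁻¹ ∈ M)
    (h22 : ∀ a ∈ X₂, ∀ b ∈ X₂, a * b * a⁻¹ * b⁻¹ ∈ M) :
    ∀ a ∈ X₁ ⊔ X₂, ∀ b ∈ X₁ ⊔ X₂, a * b * a⁻¹ * b⁻¹ ∈ M := by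
  have hN : X₁ ⊔ X₂ ≤ Subgroup.normalizer (M : Set L) := sup_le hN₁ hN₂
  have s1 : ∀ a ∈ X₁, X₁ ⊔ X₂ ≤ commMod M a := by
    intro a ha
    apply sup_le
    · intro b hb
      exact ⟨hN₁ hb, h11 a ha b hb⟩
    · intro b hb
      exact ⟨hN₂ hb, h12 a ha b hb⟩
  have s2 : ∀ a ∈ X₂, X₁ ⊔ X₂ ≤ commMod M a := by
    intro a ha
    apply sup_le
    · intro b hb
      exact ⟨hN₁ hb, comm_mem_symm (h12 b hb a ha)⟩
    · intro b hb
      exact ⟨hN₂ hb, h22 a ha b hb⟩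
  intro a ha b hb
  have h3 : X₁ ⊔ X₂ ≤ commMod M b := by
    apply sup_le
    · intro x hx
      exact ⟨hN₁ hx, comm_mem_symm (s1 x hx hb).2⟩
    · intro x hx
      exact ⟨hN₂ hx, comm_mem_symm (s2 x hx hb).2⟩
  exact comm_mem_symm (h3 ha).2

end CommMod

section Main

open scoped commutatorElement

variable {L : Type u} [Group L] [Finite L] {K H U W₁ W₂ H₀ H₁ : Subgroup L} {p q : ℕ}

/-- `|K : H V| = |U : V|` for `V ≤ U` -/
theorem relIndex_H_sup (c : Ctx K H U W₁ W₂ H₀ p q) {V : Subgroup L} (hVU : V ≤ U) :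
    (H ⊔ V).relIndex K = V.relIndex U := by
  have hH := c.H_normal
  have hnorm : ∀ X : Subgroup L, X ≤ Subgroup.normalizer (H : Set L) := by
    intro X
    rw [Subgroup.normalizer_eq_top]
    exact le_top
  have h1 : Nat.card (H ⊔ U : Subgroup L) = Nat.card H * Nat.card U :=
    Cfsg.Agent.Lib.Helper54.card_sup_of_le_normalizer (hnorm U) c.HU_inf
  have hdisj : H ⊓ V = ⊥ := by
    apply le_antisymm _ bot_le
    rw [← c.HU_inf]
    exact inf_le_inf_left H hVU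
  have h2 : Nat.card (H ⊔ V : Subgroup L) = Nat.card H * Nat.card V :=
    Cfsg.Agent.Lib.Helper54.card_sup_of_le_normalizer (hnorm _) hdisj
  have hle : H ⊔ V ≤ K := by
    rw [← c.HU_sup]
    exact sup_le_sup_left hVU H
  have h3 := Cfsg.Agent.Lib.Helper54.card_mul_relIndex hle
  have h4 := Cfsg.Agent.Lib.Helper54.card_mul_relIndex hVU
  have hK : Nat.card K = Nat.card H * Nat.card U := by
    have := h1
    rwa [c.HU_sup] at this
  have hpos : 0 < Nat.card H * Nat.card V := Nat.mul_pos Nat.card_pos Nat.card_pos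
  have h5 : Nat.card H * Nat.card V * (H ⊔ V).relIndex K =
      Nat.card H * Nat.card V * V.relIndex U := by
    rw [← h2, h3, hK, h2, mul_assoc, h4]
  exact Nat.eq_of_mul_eq_mul_left hpos h5

theorem Yoth_sup_le (c : Ctx K H U W₁ W₂ H₀ p q) (hA : IsAxis H U W₁ H₀ H₁ p) :
    Yoth H₀ H₁ W₁ ⊔ ⁅U, U⁆ ≤ H ⊔ ⁅U, U⁆ :=
  sup_le_sup_right (Yoth_le c hA) _

omit [Finite L] in
theorem H_sup_commutator_le (c : Ctx K H U W₁ W₂ H₀ p q) : H ⊔ ⁅U, U⁆ ≤ K := by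
  rw [← c.HU_sup]
  exact sup_le_sup_left (Subgroup.commutator_le_self U) H

/-- `|K : Y U'| = p |U : U'|` -/
theorem relIndex_Yoth_sup (c : Ctx K H U W₁ W₂ H₀ p q) (hA : IsAxis H U W₁ H₀ H₁ p) :
    (Yoth H₀ H₁ W₁ ⊔ ⁅U, U⁆).relIndex K = p * (⁅U, U⁆).relIndex U := by
  have hH := c.H_normal
  set Y := Yoth H₀ H₁ W₁ with hY
  set D := ⁅U, U⁆ with hD
  have hDU : D ≤ U := Subgroup.commutator_le_self U
  have hYH : Y ≤ H := Yoth_le c hA
  have hdisj : Y ⊓ D = ⊥ := by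
    apply le_antisymm _ bot_le
    rw [← c.HU_inf]
    exact inf_le_inf hYH hDU
  have h1 : Nat.card (Y ⊔ D : Subgroup L) = Nat.card Y * Nat.card D :=
    Cfsg.Agent.Lib.Helper54.card_sup_of_le_normalizer
      (le_trans hDU (U_le_normalizer_Yoth c hA)) hdisj
  have hnorm : U ≤ Subgroup.normalizer (H : Set L) := by
    rw [Subgroup.normalizer_eq_top]
    exact le_top
  have h2 : Nat.card (H ⊔ U : Subgroup L) = Nat.card H * Nat.card U :=
    Cfsg.Agent.Lib.Helper54.card_sup_of_le_normalizer hnorm c.HU_inf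
  rw [c.HU_sup] at h2
  have h3 := Cfsg.Agent.Lib.Helper54.card_mul_relIndex hYH
  rw [relIndex_Yoth c hA] at h3
  have h4 := Cfsg.Agent.Lib.Helper54.card_mul_relIndex hDU
  have h5 := Cfsg.Agent.Lib.Helper54.card_mul_relIndex
    (le_trans (Yoth_sup_le c hA) (H_sup_commutator_le c))
  have hpos : 0 < Nat.card Y * Nat.card D := Nat.mul_pos Nat.card_pos Nat.card_pos
  have h6 : Nat.card Y * Nat.card D * (Y ⊔ D).relIndex K =
      Nat.card Y * Nat.card D * (p * D.relIndex U) := by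
    calc Nat.card Y * Nat.card D * (Y ⊔ D).relIndex K
        = Nat.card (Y ⊔ D : Subgroup L) * (Y ⊔ D).relIndex K := by rw [h1]
      _ = Nat.card K := h5
      _ = Nat.card H * Nat.card U := h2
      _ = (Nat.card Y * p) * (Nat.card D * D.relIndex U) := by rw [h3, h4]
      _ = Nat.card Y * Nat.card D * (p * D.relIndex U) := by ring
  exact Nat.eq_of_mul_eq_mul_left hpos h6

/-- `x h x⁻¹ h⁻¹ ∈ Y` for `x ∈ I₁`, `h ∈ H` -/
theorem comm_mem_Yoth (c : Ctx K H U W₁ W₂ H₀ p q) (hA : IsAxis H U W₁ H₀ H₁ p) {x h : L}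
    (hx : x ∈ coreC U H₁ H₀) (hh : h ∈ H) : x * h * x⁻¹ * h⁻¹ ∈ Yoth H₀ H₁ W₁ := by
  have hxU : x ∈ U := coreC_le U H₁ H₀ hx
  have hle : H ≤ commMod (Yoth H₀ H₁ W₁) x := by
    rw [← sup_Yoth c hA]
    apply sup_le
    · intro h₁ hh₁
      exact ⟨H_le_normalizer_Yoth c hA (hA.le_H hh₁), le_Yoth ((mem_coreC.mp hx).2.2.2 h₁ hh₁)⟩
    · intro y hy
      refine ⟨Subgroup.le_normalizer hy, ?_⟩
      exact Subgroup.mul_mem _
        ((Subgroup.mem_normalizer_iff.mp (U_le_normalizer_Yoth c hA hxU) y).mp hy)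
        (Subgroup.inv_mem _ hy)
  exact (hle hh).2

/-- `H I₁ / Y U'` is abelian -/
theorem comm_mem_Yoth_sup (c : Ctx K H U W₁ W₂ H₀ p q) (hA : IsAxis H U W₁ H₀ H₁ p) :
    ∀ a ∈ H ⊔ coreC U H₁ H₀, ∀ b ∈ H ⊔ coreC U H₁ H₀,
      a * b * a⁻¹ * b⁻¹ ∈ Yoth H₀ H₁ W₁ ⊔ ⁅U, U⁆ := by
  have hK := K_le_normalizer_Yoth_sup c hA
  have hHK : H ≤ K := by rw [← c.HU_sup]; exact le_sup_left
  have hUK : U ≤ K := by rw [← c.HU_sup]; exact le_sup_right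
  have hIU : coreC U H₁ H₀ ≤ U := coreC_le U H₁ H₀
  apply comm_mem_of_sup (le_trans hHK hK) (le_trans (le_trans hIU hUK) hK)
  · intro a ha b hb
    have h1 : a * b * a⁻¹ * b⁻¹ = ⁅a, b⁆ := by rw [commutatorElement_def]
    rw [h1]
    exact Subgroup.mem_sup_left
      (le_Yoth (c.comm_le (Subgroup.commutator_mem_commutator ha hb)))
  · intro a ha b hb
    exact Subgroup.mem_sup_left (comm_mem_symm (comm_mem_Yoth c hA hb ha))
  · intro a ha b hb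
    have h1 : a * b * a⁻¹ * b⁻¹ = ⁅a, b⁆ := by rw [commutatorElement_def]
    rw [h1]
    exact Subgroup.mem_sup_right (Subgroup.commutator_mem_commutator (hIU ha) (hIU hb))

/-- `(Y U') ∩ H ≤ Y` -/
theorem Yoth_sup_inf_le (c : Ctx K H U W₁ W₂ H₀ p q) (hA : IsAxis H U W₁ H₀ H₁ p) :
    (Yoth H₀ H₁ W₁ ⊔ ⁅U, U⁆) ⊓ H ≤ Yoth H₀ H₁ W₁ := by
  rintro z ⟨hz1, hz2⟩
  have hDU : ⁅U, U⁆ ≤ U := Subgroup.commutator_le_self U
  obtain ⟨y, hy, d, hd, rfl⟩ :=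
    exists_mul_of_mem_sup (le_trans hDU (U_le_normalizer_Yoth c hA)) hz1
  have hd1 : d ∈ H ⊓ U := by
    refine ⟨?_, hDU hd⟩
    have : d = y⁻¹ * (y * d) := by group
    rw [this]
    exact H.mul_mem (H.inv_mem (Yoth_le c hA hy)) hz2
  rw [c.HU_inf, Subgroup.mem_bot] at hd1
  rw [hd1, mul_one]
  exact hy

/-- generation: a subgroup containing `Y U'` and an element of `H U' \ Y U'` contains `H U'` -/
theorem H_sup_le_of_mem (c : Ctx K H U W₁ W₂ H₀ p q) (hA : IsAxis H U W₁ H₀ H₁ p)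
    (M : Subgroup L) (hM : Yoth H₀ H₁ W₁ ⊔ ⁅U, U⁆ ≤ M)
    (hc : ∃ z ∈ H ⊔ ⁅U, U⁆, z ∈ M ∧ z ∉ Yoth H₀ H₁ W₁ ⊔ ⁅U, U⁆) : H ⊔ ⁅U, U⁆ ≤ M := by
  have hH := c.H_normal
  obtain ⟨z, hz, hzM, hzN⟩ := hc
  rw [← SetLike.mem_coe, Subgroup.normal_mul] at hz
  obtain ⟨h, hh, d, hd, rfl⟩ := Set.mem_mul.mp hz
  have hdM : d ∈ M := hM (Subgroup.mem_sup_right hd)
  have hhM : h ∈ M := by
    have : h = h * d * d⁻¹ := by group
    rw [this]
    exact M.mul_mem hzM (M.inv_mem hdM)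
  have hhY : h ∉ Yoth H₀ H₁ W₁ := by
    intro hy
    exact hzN (Subgroup.mul_mem _ (Subgroup.mem_sup_left hy) (Subgroup.mem_sup_right hd))
  have hYM : Yoth H₀ H₁ W₁ ≤ M ⊓ H := le_inf (le_trans le_sup_left hM) (Yoth_le c hA)
  rcases le_or_le_of_relIndex_prime c.p_prime (relIndex_Yoth c hA) hYM inf_le_right with h1 | h1
  · exact absurd (h1 ⟨hhM, hh⟩) hhY
  · exact sup_le (le_trans h1 inf_le_left) (le_trans le_sup_right hM)

/-- an element of `K` outside `H I₁` moves an element of `H₁` modulo `Y U'` -/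
theorem exists_moved (c : Ctx K H U W₁ W₂ H₀ p q) (hA : IsAxis H U W₁ H₀ H₁ p) {g : L}
    (hgK : g ∈ K) (hg : g ∉ H ⊔ coreC U H₁ H₀) :
    ∃ b ∈ H₁, g * b * g⁻¹ * b⁻¹ ∉ Yoth H₀ H₁ W₁ ⊔ ⁅U, U⁆ := by
  have hH := c.H_normal
  have hH₀ := c.H₀_normal
  obtain ⟨h, hh, x, hx, rfl⟩ := exists_decomp_K c hgK
  have hxI : x ∉ coreC U H₁ H₀ := by
    intro hxI
    exact hg (Subgroup.mul_mem _ (Subgroup.mem_sup_left hh) (Subgroup.mem_sup_right hxI))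
  have hex : ∃ h₁ ∈ H₁, x * h₁ * x⁻¹ * h₁⁻¹ ∉ H₀ := by
    by_contra hcon
    push Not at hcon
    apply hxI
    rw [mem_coreC]
    refine ⟨hx, hA.U_norm hx, ?_, hcon⟩
    rw [Subgroup.normalizer_eq_top_iff.mpr hH₀]
    exact Subgroup.mem_top x
  obtain ⟨h₁, hh₁, hne⟩ := hex
  refine ⟨h₁, hh₁, ?_⟩
  intro hmem
  -- `x h₁ x⁻¹ ∈ H₁`
  have hx1 : x * h₁ * x⁻¹ ∈ H₁ := (Subgroup.mem_normalizer_iff.mp (hA.U_norm hx) h₁).mp hh₁
  have hx1H : x * h₁ * x⁻¹ ∈ H := hA.le_H hx1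
  -- the commutator of `h` and `x h₁ x⁻¹` lies in `H₀`
  have hc0 : h * (x * h₁ * x⁻¹) * h⁻¹ * (x * h₁ * x⁻¹)⁻¹ ∈ H₀ := by
    have h1 : h * (x * h₁ * x⁻¹) * h⁻¹ * (x * h₁ * x⁻¹)⁻¹ = ⁅h, x * h₁ * x⁻¹⁆ := by
      rw [commutatorElement_def]
    rw [h1]
    exact c.comm_le (Subgroup.commutator_mem_commutator hh hx1H)
  have hdec : h * x * h₁ * (h * x)⁻¹ * h₁⁻¹ =
      (h * (x * h₁ * x⁻¹) * h⁻¹ * (x * h₁ * x⁻¹)⁻¹) * (x * h₁ * x⁻¹ * h₁⁻¹) := by group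
  -- the element lies in `H₁`
  have he1 : h * x * h₁ * (h * x)⁻¹ * h₁⁻¹ ∈ H₁ := by
    rw [hdec]
    exact H₁.mul_mem (hA.H₀_le hc0) (H₁.mul_mem hx1 (H₁.inv_mem hh₁))
  have heY : h * x * h₁ * (h * x)⁻¹ * h₁⁻¹ ∈ Yoth H₀ H₁ W₁ :=
    Yoth_sup_inf_le c hA ⟨hmem, hA.le_H he1⟩
  have he0 : h * x * h₁ * (h * x)⁻¹ * h₁⁻¹ ∈ H₀ := Yoth_inf_le c hA ⟨heY, he1⟩
  apply hne
  have : x * h₁ * x⁻¹ * h₁⁻¹ =
      (h * (x * h₁ * x⁻¹) * h⁻¹ * (x * h₁ * x⁻¹)⁻¹)⁻¹ * (h * x * h₁ * (h * x)⁻¹ * h₁⁻¹) := by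
    rw [hdec]; group
  rw [this]
  exact H₀.mul_mem (H₀.inv_mem hc0) he0

end Main

end Cfsg.Agent.Lib.Helper58.PF9ND
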