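import Mathlib
import Cfsg.Agent.Lib.Helper58.PFNineDefs
import Cfsg.Agent.Lib.Helper58.PFNineCnt
import Cfsg.Agent.Lib.Helper58.PFNineDvd
import Cfsg.Agent.Lib.Helper58.PFNineNDGrp
import Cfsg.Agent.Lib.Helper3.NormComplChar
import Cfsg.Agent.Lib.Helper80.CharBasic

/-!
# Peterfalvi (9.8)(a): module [NA] (helper58)

* `axis_degree_dvd`: in the non-Galois case, `a = |U : C_U(H₁/H₀)|` divides the degree of every
  member of `X(H₀)`.
* `core_degree_le`: the degree of a member of `X(H₀C')` is at most `u = |U : C|`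
  (`HC/H₀C'` is an abelian normal subgroup of index `u`).
-/

set_option autoImplicit false

namespace Cfsg.Agent.Lib.Helper58.PF9

open Cfsg Cfsg.Agent.Lib.Helper58.PF9ND Cfsg.Agent.Lib.Helper58.PF9Cnt
  Cfsg.Agent.Lib.Helper16.PFNineNB Cfsg.Agent.Lib.Helper16.PFNineNC
open Cfsg.Agent.Lib.Helper75 Cfsg.Agent.Lib.Helper77 Cfsg.Agent.Lib.Helper78 Cfsg.Agent.Lib.Helper80

open scoped commutatorElement

universe u

section Conj

variable {L : Type u} [Group L] {U H₀ H₁ : Subgroup L}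

/-- conjugating `C_U(H₁/H₀)` by an element normalizing `U` -/
theorem conj_mem_coreC_axis [hH₀ : H₀.Normal] {w x : L}
    (hw : w ∈ Subgroup.normalizer (U : Set L)) (hx : x ∈ coreC U H₁ H₀) :
    w * x * w⁻¹ ∈ coreC U (axis H₁ w) H₀ := by
  obtain ⟨hxU, hxn, -, hxc⟩ := mem_coreC.mp hx
  rw [mem_coreC]
  refine ⟨(Subgroup.mem_normalizer_iff.mp hw x).mp hxU, ?_, ?_, ?_⟩
  · have key : ∀ y : L, y ∈ Subgroup.normalizer (H₁ : Set L) →
        ∀ g ∈ axis H₁ w, w * y * w⁻¹ * g * (w * y * w⁻¹)⁻¹ ∈ axis H₁ w := by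
      intro y hy g hg
      obtain ⟨h, hh, rfl⟩ := mem_axis.mp hg
      rw [mem_axis]
      refine ⟨y * h * y⁻¹, (Subgroup.mem_normalizer_iff.mp hy h).mp hh, by group⟩
    rw [Subgroup.mem_normalizer_iff]
    intro g
    constructor
    · exact key x hxn g
    · intro hg
      have := key x⁻¹ (Subgroup.inv_mem _ hxn) _ hg
      have e : w * x⁻¹ * w⁻¹ * (w * x * w⁻¹ * g * (w * x * w⁻¹)⁻¹) * (w * x⁻¹ * w⁻¹)⁻¹ = g := by
        group
      rwa [e] at this
  · rw [Subgroup.normalizer_eq_top_iff.mpr hH₀]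
    exact Subgroup.mem_top _
  · intro g hg
    obtain ⟨h, hh, rfl⟩ := mem_axis.mp hg
    have h1 := hH₀.conj_mem _ (hxc h hh) w
    have e : w * x * w⁻¹ * (w * h * w⁻¹) * (w * x * w⁻¹)⁻¹ * (w * h * w⁻¹)⁻¹ =
        w * (x * h * x⁻¹ * h⁻¹) * w⁻¹ := by group
    rw [e]
    exact h1

theorem axis_axis_inv (H₁ : Subgroup L) (w : L) : axis (axis H₁ w) w⁻¹ = H₁ := by
  ext g
  rw [mem_axis]
  constructor
  · rintro ⟨y, hy, rfl⟩
    obtain ⟨h, hh, rfl⟩ := mem_axis.mp hy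
    have e : w⁻¹ * (w * h * w⁻¹) * w⁻¹⁻¹ = h := by group
    rwa [e]
  · intro hg
    exact ⟨w * g * w⁻¹, mem_axis.mpr ⟨g, hg, rfl⟩, by group⟩

/-- `|U : C_U(H₁^w/H₀)| = |U : C_U(H₁/H₀)|` for `w` normalizing `U` -/
theorem relIndex_coreC_axis [hH₀ : H₀.Normal] {w : L}
    (hw : w ∈ Subgroup.normalizer (U : Set L)) :
    (coreC U (axis H₁ w) H₀).relIndex U = (coreC U H₁ H₀).relIndex U := by
  have h1 : (coreC U H₁ H₀).map (MulAut.conj w).toMonoidHom = coreC U (axis H₁ w) H₀ := by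
    ext g
    rw [Subgroup.mem_map]
    constructor
    · rintro ⟨x, hx, rfl⟩
      exact conj_mem_coreC_axis hw hx
    · intro hg
      have hw' : w⁻¹ ∈ Subgroup.normalizer (U : Set L) := Subgroup.inv_mem _ hw
      have h2 := conj_mem_coreC_axis hw' hg
      rw [axis_axis_inv] at h2
      refine ⟨w⁻¹ * g * w⁻¹⁻¹, h2, ?_⟩
      show w * (w⁻¹ * g * w⁻¹⁻¹) * w⁻¹ = g
      group
  have h2 : U.map (MulAut.conj w).toMonoidHom = U := by
    ext g
    rw [Subgroup.mem_map]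
    constructor
    · rintro ⟨x, hx, rfl⟩
      exact (Subgroup.mem_normalizer_iff.mp hw x).mp hx
    · intro hg
      refine ⟨w⁻¹ * g * w, ?_, ?_⟩
      · have := (Subgroup.mem_normalizer_iff.mp (Subgroup.inv_mem _ hw) g).mp hg
        simpa using this
      · show w * (w⁻¹ * g * w) * w⁻¹ = g
        group
  have h3 := Subgroup.relIndex_map_map_of_injective (coreC U H₁ H₀) U
    (f := (MulAut.conj w).toMonoidHom) (MulAut.conj w).injective
  rw [h1, h2] at h3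
  exact h3

end Conj

section Main

variable {L : Type u} [Group L] [Fintype L] {K H U W₁ W₂ H₀ H₁ : Subgroup L} {p q : ℕ}

omit [Fintype L] in
/-- an element of `K` outside `H C_U(X/H₀)` moves an element of the axis `X` modulo `H₀` -/
theorem exists_moved_axis (c : Ctx K H U W₁ W₂ H₀ p q) (hA : IsAxis H U W₁ H₀ H₁ p) {w : L}
    (hw : w ∈ W₁) {g : L} (hgK : g ∈ K) (hg : g ∉ H ⊔ coreC U (axis H₁ w) H₀) :
    ∃ b ∈ axis H₁ w, g * b * g⁻¹ * b⁻¹ ∉ H₀ := by
  have hH := c.H_normal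
  have hH₀ := c.H₀_normal
  obtain ⟨h, hh, x, hx, rfl⟩ := exists_decomp_K c hgK
  have hxI : x ∉ coreC U (axis H₁ w) H₀ := by
    intro hxI
    exact hg (Subgroup.mul_mem _ (Subgroup.mem_sup_left hh) (Subgroup.mem_sup_right hxI))
  have hUn : U ≤ Subgroup.normalizer (axis H₁ w : Set L) := by
    apply le_normalizer_of_conj_mem'
    intro y hy g hg
    exact U_le_normalizer_axis c hA hw hy hg
  have hex : ∃ b ∈ axis H₁ w, x * b * x⁻¹ * b⁻¹ ∉ H₀ := by
    by_contra hcon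
    push Not at hcon
    apply hxI
    rw [mem_coreC]
    refine ⟨hx, hUn hx, ?_, hcon⟩
    rw [Subgroup.normalizer_eq_top_iff.mpr hH₀]
    exact Subgroup.mem_top x
  obtain ⟨b, hb, hne⟩ := hex
  refine ⟨b, hb, ?_⟩
  intro hmem
  have hx1 : x * b * x⁻¹ ∈ axis H₁ w := (Subgroup.mem_normalizer_iff.mp (hUn hx) b).mp hb
  have hx1H : x * b * x⁻¹ ∈ H := axis_le hA.le_H w hx1
  have hc0 : h * (x * b * x⁻¹) * h⁻¹ * (x * b * x⁻¹)⁻¹ ∈ H₀ := by
    have h1 : h * (x * b * x⁻¹) * h⁻¹ * (x * b * x⁻¹)⁻¹ = ⁅h, x * b * x⁻¹⁆ := by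
      rw [commutatorElement_def]
    rw [h1]
    exact c.comm_le (Subgroup.commutator_mem_commutator hh hx1H)
  apply hne
  have : x * b * x⁻¹ * b⁻¹ =
      (h * (x * b * x⁻¹) * h⁻¹ * (x * b * x⁻¹)⁻¹)⁻¹ * (h * x * b * (h * x)⁻¹ * b⁻¹) := by group
  rw [this]
  exact H₀.mul_mem (H₀.inv_mem hc0) hmem

/-- **Peterfalvi (9.8)(a)**: `a` divides the degree of every member of `X(H₀)` -/
theorem axis_degree_dvd (c : Ctx K H U W₁ W₂ H₀ p q) (hA : IsAxis H U W₁ H₀ H₁ p)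
    {θ : ↥K → ℂ} (hθ : θ ∈ Xset K H H₀) :
    ∃ k : ℕ, θ 1 = (((coreC U H₁ H₀).relIndex U * k : ℕ) : ℂ) := by
  classical
  have hHn := c.H_normal
  have hH₀n := c.H₀_normal
  obtain ⟨hθirr, hθ0, ⟨h, hh, hne⟩⟩ := hθ
  have hθc : IsCharacter ↥K θ := IsIrrCharacter.isCharacter hθirr
  have hHK : H ≤ K := by rw [← c.HU_sup]; exact le_sup_left
  have hUK : U ≤ K := by rw [← c.HU_sup]; exact le_sup_right
  -- some axis is not in the kernel
  have hex : ∃ w ∈ W₁, ∃ b : ↥K, (b : L) ∈ axis H₁ w ∧ θ b ≠ θ 1 := by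
    by_contra hcon
    push Not at hcon
    have hle : H ≤ (charKer θ hθc).map K.subtype := by
      rw [← hA.iSup_eq]
      apply iSup_le
      intro w g hg
      have hgK : g ∈ K := hHK (axis_le hA.le_H _ hg)
      exact Subgroup.mem_map.mpr ⟨⟨g, hgK⟩, hcon w w.2 ⟨g, hgK⟩ hg, rfl⟩
    obtain ⟨b, hb, hbh⟩ := Subgroup.mem_map.mp (hle hh)
    have : b = h := Subtype.ext hbh
    rw [this] at hb
    exact hne hb
  obtain ⟨w, hw, b, hbX, hb⟩ := hex
  set X := axis H₁ w with hXdef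
  set I := coreC U X H₀ with hIdef
  have hH₀X : H₀ ≤ X := le_axis hA.H₀_le w
  have hXH : X ≤ H := axis_le hA.le_H w
  have hrel : H₀.relIndex X = p := by rw [hXdef, relIndex_axis, hA.relIndex]
  have hUn : U ≤ Subgroup.normalizer (X : Set L) := by
    apply le_normalizer_of_conj_mem'
    intro y hy g hg
    exact U_le_normalizer_axis c hA hw hy hg
  have hKn : K ≤ Subgroup.normalizer (X : Set L) := by
    rw [← c.HU_sup]
    exact sup_le (le_normalizer_of_commutator_le hXH (le_trans c.comm_le hH₀X)) hUn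
  have hIU : I ≤ U := coreC_le U X H₀
  set N : Subgroup ↥K := H₀.subgroupOf K with hNdef
  set Xs : Subgroup ↥K := X.subgroupOf K with hXsdef
  set R : Subgroup ↥K := H.subgroupOf K with hRdef
  set A : Subgroup ↥K := (H ⊔ I).subgroupOf K with hAdef
  have hNn : N.Normal := hH₀n.subgroupOf K
  have hRn : R.Normal := hHn.subgroupOf K
  have hXn : Xs.Normal :=
    (Subgroup.normal_subgroupOf_iff_le_normalizer (le_trans hXH hHK)).mpr hKn
  have hNX : N ≤ Xs := Subgroup.comap_mono hH₀X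
  have hXR : Xs ≤ R := Subgroup.comap_mono hXH
  have hab : ∀ x ∈ R, ∀ y ∈ R, x * y * x⁻¹ * y⁻¹ ∈ N := by
    intro x hx y hy
    have h1 : ((x * y * x⁻¹ * y⁻¹ : ↥K) : L) = ⁅(x : L), (y : L)⁆ := by
      rw [commutatorElement_def]
      push_cast
      rfl
    show ((x * y * x⁻¹ * y⁻¹ : ↥K) : L) ∈ H₀
    rw [h1]
    exact c.comm_le (Subgroup.commutator_mem_commutator hx hy)
  have hgen : ∀ M : Subgroup ↥K, N ≤ M → (∃ z ∈ Xs, z ∈ M ∧ z ∉ N) → Xs ≤ M := by
    rintro M hNM ⟨z, hzX, hzM, hzN⟩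
    have h0 : H₀ ≤ M.map K.subtype ⊓ X := by
      intro y hy
      exact ⟨Subgroup.mem_map.mpr ⟨⟨y, hHK (c.H₀_le hy)⟩, hNM hy, rfl⟩, hH₀X hy⟩
    rcases le_or_le_of_relIndex_prime c.p_prime hrel h0 inf_le_right with h1 | h1
    · exact absurd (h1 ⟨Subgroup.mem_map.mpr ⟨z, hzM, rfl⟩, hzX⟩) hzN
    · intro y hy
      obtain ⟨m, hm, hmy⟩ := Subgroup.mem_map.mp (h1 hy).1
      have : m = y := Subtype.ext hmy
      rwa [← this]
  have hmove : ∀ g : ↥K, g ∉ A → ∃ b ∈ Xs, g * b * g⁻¹ * b⁻¹ ∉ N := by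
    intro g hg
    obtain ⟨b, hb, hbN⟩ := exists_moved_axis c hA hw g.2 hg
    exact ⟨⟨b, hHK (hXH hb)⟩, hb, hbN⟩
  have hdvd := index_dvd_charDegree N Xs R A hNX hXR hab hgen hmove hθirr
    (fun n hn => hθ0 n hn) ⟨b, hbX, hb⟩
  have hAi : A.index = (coreC U H₁ H₀).relIndex U := by
    have h1 : A.index = I.relIndex U := relIndex_H_sup c hIU
    rw [h1, hIdef, hXdef, relIndex_coreC_axis (c.W₁_norm_U hw)]
  rw [hAi] at hdvd
  obtain ⟨k, hk⟩ := hdvd
  refine ⟨k, ?_⟩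
  rw [IsCharacter.apply_one_eq_charDegree hθc, hk]

/-- variant of `exists_hom_of_abelian_mod` asking only that `A` normalizes `N` -/
theorem exists_hom_of_abelian_mod' {G : Type u} [Group G] (A N : Subgroup G) [Fintype A]
    (hNn : (N.subgroupOf A).Normal)
    (hab : ∀ a ∈ A, ∀ b ∈ A, a * b * a⁻¹ * b⁻¹ ∈ N)
    {lam : A → ℂ} (hlam : IsIrrCharacter A lam) (hker : ∀ n : A, (n : G) ∈ N → lam n = lam 1) :
    ∃ ν : A →* ℂˣ, ∀ a, lam a = ((ν a : ℂˣ) : ℂ) := by
  have hker' : ∀ n ∈ N.subgroupOf A, lam n = lam 1 := fun n hn => hker n hn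
  obtain ⟨lam', hlam', hlam'eq⟩ := isIrrCharacter_deflate (N.subgroupOf A) hlam hker'
  have hcomm : IsMulCommutative (A ⧸ N.subgroupOf A) := by
    refine ⟨⟨fun a b => ?_⟩⟩
    obtain ⟨x, rfl⟩ := QuotientGroup.mk_surjective a
    obtain ⟨y, rfl⟩ := QuotientGroup.mk_surjective b
    rw [← QuotientGroup.mk_mul, ← QuotientGroup.mk_mul, QuotientGroup.eq]
    have h1 := hab (y⁻¹ : A) (A.inv_mem y.2) (x⁻¹ : A) (A.inv_mem x.2)
    rw [Subgroup.mem_subgroupOf]
    have h2 : (((x * y)⁻¹ * (y * x) : A) : G) =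
        ((y⁻¹ : A) : G) * ((x⁻¹ : A) : G) * ((y⁻¹ : A) : G)⁻¹ * ((x⁻¹ : A) : G)⁻¹ := by
      push_cast
      group
    rw [h2]
    exact h1
  have h1 : lam 1 = 1 := by
    have h2 := hlam'eq 1
    rw [QuotientGroup.mk_one, IsIrrCharacter.map_one_of_comm hlam'] at h2
    exact h2.symm
  exact exists_monoidHom_of_degree_one (IsIrrCharacter.isCharacter hlam) h1

/-- **degree bound**: a member of `X(H₀C')` has degree at most `u = |U : C|` (it divides `u`) -/
theorem core_degree_le (c : Ctx K H U W₁ W₂ H₀ p q) {θ : ↥K → ℂ}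
    (hθ : θ ∈ Xset K H (H₀ ⊔ ⁅coreC U H H₀, coreC U H H₀⁆)) :
    ∃ d : ℕ, θ 1 = (d : ℂ) ∧ d ≤ (coreC U H H₀).relIndex U := by
  classical
  have hHn := c.H_normal
  have hH₀n := c.H₀_normal
  obtain ⟨hθirr, hθ0, -⟩ := hθ
  have hθc : IsCharacter ↥K θ := IsIrrCharacter.isCharacter hθirr
  set C := coreC U H H₀ with hCdef
  set M := H₀ ⊔ ⁅C, C⁆ with hMdef
  have hCU : C ≤ U := coreC_le U H H₀
  have hC'C : ⁅C, C⁆ ≤ C := Subgroup.commutator_le_self C
  -- `H` and `C` normalize `M`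
  have hHM : H ≤ Subgroup.normalizer (M : Set L) := by
    apply le_normalizer_of_conj_mem'
    intro h hh z hz
    have hle : M ≤ M.comap (MulAut.conj h).toMonoidHom := by
      apply sup_le
      · intro y hy
        rw [Subgroup.mem_comap]
        exact Subgroup.mem_sup_left (hH₀n.conj_mem y hy h)
      · intro d hd
        rw [Subgroup.mem_comap]
        have h1 := ((mem_coreC_of_normal (U := U)).mp (hC'C hd)).2 h⁻¹ (H.inv_mem hh)
        have h2 := hH₀n.conj_mem _ h1 h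
        have h3 : h * (d * h⁻¹ * d⁻¹ * h⁻¹⁻¹) * h⁻¹ = h * d * h⁻¹ * d⁻¹ := by group
        rw [h3] at h2
        have h4 : h * d * h⁻¹ = (h * d * h⁻¹ * d⁻¹) * d := by group
        show h * d * h⁻¹ ∈ M
        rw [h4]
        exact M.mul_mem (Subgroup.mem_sup_left h2) (Subgroup.mem_sup_right hd)
    exact hle hz
  have hCM : C ≤ Subgroup.normalizer (M : Set L) := by
    apply le_normalizer_sup'
    · rw [Subgroup.normalizer_eq_top_iff.mpr hH₀n]
      exact le_top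
    · exact U_le_normalizer_of_commutator_le (U := C) le_rfl hC'C
  have habL : ∀ x ∈ H ⊔ C, ∀ y ∈ H ⊔ C, x * y * x⁻¹ * y⁻¹ ∈ M := by
    apply comm_mem_of_sup hHM hCM
    · intro x hx y hy
      have h1 : x * y * x⁻¹ * y⁻¹ = ⁅x, y⁆ := by rw [commutatorElement_def]
      rw [h1]
      exact Subgroup.mem_sup_left (c.comm_le (Subgroup.commutator_mem_commutator hx hy))
    · intro x hx y hy
      exact Subgroup.mem_sup_left
        (comm_mem_symm (((mem_coreC_of_normal (U := U)).mp hy).2 x hx))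
    · intro x hx y hy
      have h1 : x * y * x⁻¹ * y⁻¹ = ⁅x, y⁆ := by rw [commutatorElement_def]
      rw [h1]
      exact Subgroup.mem_sup_right (Subgroup.commutator_mem_commutator hx hy)
  set A : Subgroup ↥K := (H ⊔ C).subgroupOf K with hAdef
  set N : Subgroup ↥K := M.subgroupOf K with hNdef
  have hAn : A.Normal := (sup_coreC_normal c).subgroupOf K
  have : Fintype A := Fintype.ofFinite A
  have hNn : (N.subgroupOf A).Normal := by
    constructor
    intro n hn g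
    have hg : ((g : ↥K) : L) ∈ Subgroup.normalizer (M : Set L) := sup_le hHM hCM g.2
    exact (Subgroup.mem_normalizer_iff.mp hg _).mp hn
  obtain ⟨lam, hlam⟩ := exists_constituent_res A hθirr
  have hres : IsCharacter A (fun a : A => θ a) := isCharacter_res A hθc
  have hlamN : ∀ n : A, ((n : ↥K)) ∈ N → (lam : A → ℂ) n = (lam : A → ℂ) 1 := by
    intro n hn
    exact constituent_ker hres lam hlam n (hθ0 _ hn)
  have hab : ∀ x ∈ A, ∀ y ∈ A, x * y * x⁻¹ * y⁻¹ ∈ N := by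
    intro x hx y hy
    exact habL x hx y hy
  obtain ⟨ν, hν⟩ := exists_hom_of_abelian_mod' A N hNn hab lam.2 hlamN
  have hlam1 : (lam : A → ℂ) 1 = 1 := by rw [hν, map_one, Units.val_one]
  have hdvd := Cfsg.Agent.Lib.Helper3.NormComplChar.ito_of_linear_constituent A θ hθirr (lam : A → ℂ) lam.2
    hlam1 hlam
  have hAi : A.index = C.relIndex U := relIndex_H_sup c hCU
  rw [hAi] at hdvd
  refine ⟨charDegree θ, IsCharacter.apply_one_eq_charDegree hθc, ?_⟩
  apply Nat.le_of_dvd _ hdvd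
  rw [Subgroup.relIndex]
  exact Nat.pos_of_ne_zero Subgroup.index_ne_zero_of_finite

end Main

end Cfsg.Agent.Lib.Helper58.PF9
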