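import Mathlib
import Cfsg.Agent.Lib.Helper58.PFNineDefs
import Cfsg.Agent.Lib.Helper58.PFNineT
import Cfsg.Agent.Lib.Helper58.PFNineCnt
import Cfsg.Agent.Lib.Helper58.PFNineNDGrp
import Cfsg.Agent.Lib.Helper59.PFNineG3a
import Cfsg.Agent.Lib.Helper59.PFNineSB
import Cfsg.Agent.Lib.Helper62.PFNineG3b
import Cfsg.Agent.Lib.Helper80.CharBasic

/-!
# Peterfalvi (9.8)(d): module [ND] `axis_count_small` (helper58)

In the non-Galois case, `S(H₀U')` contains at least `(p - 1) |U : U'| / a²` irreducible members of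
degree `q a`, where `a = |U : C_U(H₁/H₀)|`.  These are induced from the irreducible characters of
`K` having the join `Y` of the other axes and `U'` in their kernel, but not `H`; by
`PFNineCnt.index_sq_mul_card_add` there are exactly `(p - 1) |U : U'| / a²` of those, all of
degree `a`; they are not `W₁`-invariant and pairwise not `W₁`-conjugate.
-/

set_option autoImplicit false

namespace Cfsg.Agent.Lib.Helper58.PF9

open Cfsg Cfsg.Agent.Lib.Helper58.PF9ND Cfsg.Agent.Lib.Helper58.PF9Cnt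
  Cfsg.Agent.Lib.Helper16.PFNineNB Cfsg.Agent.Lib.Helper16.PFNineNC
open Cfsg.Agent.Lib.Helper78 Cfsg.Agent.Lib.Helper80

universe u

variable {L : Type u} [Group L] [Fintype L] {K H U W₁ W₂ H₀ H₁ : Subgroup L} {p q : ℕ}

/-- a character of `K` trivial on `Y` and on `H₁` is trivial on `H` -/
theorem trivial_on_H (c : Ctx K H U W₁ W₂ H₀ p q) (hA : IsAxis H U W₁ H₀ H₁ p) {θ : ↥K → ℂ}
    (hθ : IsCharacter ↥K θ) (hY : ∀ a : ↥K, (a : L) ∈ Yoth H₀ H₁ W₁ → θ a = θ 1)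
    (h1 : ∀ a : ↥K, (a : L) ∈ H₁ → θ a = θ 1) : ∀ a : ↥K, (a : L) ∈ H → θ a = θ 1 := by
  have hHK : H ≤ K := by rw [← c.HU_sup]; exact le_sup_left
  intro a ha
  have hle : H ≤ (charKer θ hθ).map K.subtype := by
    rw [← sup_Yoth c hA]
    apply sup_le
    · intro x hx
      exact Subgroup.mem_map.mpr ⟨⟨x, hHK (hA.le_H hx)⟩, h1 _ hx, rfl⟩
    · intro x hx
      exact Subgroup.mem_map.mpr ⟨⟨x, hHK (Yoth_le c hA hx)⟩, hY _ hx, rfl⟩
  obtain ⟨b, hb, hba⟩ := Subgroup.mem_map.mp (hle ha)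
  have : b = a := Subtype.ext hba
  rw [← this]
  exact hb

omit [Fintype L] in
/-- a character of `K` trivial on `Y` whose `w`-conjugate (`1 ≠ w ∈ W₁`) is `ψ`: then `ψ` is
trivial on `H₁` -/
theorem conj_trivial_on_axis (c : Ctx K H U W₁ W₂ H₀ p q) {θ ψ : ↥K → ℂ}
    (hY : ∀ a : ↥K, (a : L) ∈ Yoth H₀ H₁ W₁ → θ a = θ 1) {w : L} (hw : w ∈ W₁) (hw1 : w ≠ 1)
    (hψ : ∀ k : ↥K, ψ k = θ ⟨w * k * w⁻¹, c.K_normal.conj_mem (k : L) k.2 w⟩) :
    ∀ a : ↥K, (a : L) ∈ H₁ → ψ a = ψ 1 := by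
  intro a ha
  rw [hψ a, hψ 1]
  have h1 : w * (a : L) * w⁻¹ ∈ Yoth H₀ H₁ W₁ :=
    axis_le_Yoth hw hw1 (mem_axis.mpr ⟨a, ha, rfl⟩)
  rw [hY _ h1]
  congr 1
  apply Subtype.ext
  simp

/-- **Peterfalvi (9.8)(d)**: module [ND]. -/
theorem axis_count_small (c : Ctx K H U W₁ W₂ H₀ p q) (hA : IsAxis H U W₁ H₀ H₁ p) :
    (p - 1) * (⁅U, U⁆).relIndex U ≤ (coreC U H₁ H₀).relIndex U ^ 2 *
      {φ : L → ℂ | φ ∈ Sbook K H (H₀ ⊔ ⁅U, U⁆) ∧ IsIrrCharacter L φ ∧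
        φ 1 = ((q * (coreC U H₁ H₀).relIndex U : ℕ) : ℂ)}.ncard := by
  classical
  have hK := c.K_normal
  have hHn := c.H_normal
  set Y := Yoth H₀ H₁ W₁ with hYdef
  set D := ⁅U, U⁆ with hDdef
  set I₁ := coreC U H₁ H₀ with hIdef
  set a := I₁.relIndex U with hadef
  have hDI : D ≤ I₁ := commutator_le_coreC_one c hA
  have hIU : I₁ ≤ U := coreC_le U H₁ H₀
  have hDU : D ≤ U := Subgroup.commutator_le_self U
  have hHK : H ≤ K := by rw [← c.HU_sup]; exact le_sup_left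
  have hUK : U ≤ K := by rw [← c.HU_sup]; exact le_sup_right
  have hHD_le : H ⊔ D ≤ K := H_sup_commutator_le c
  have hYD_le : Y ⊔ D ≤ K := le_trans (Yoth_sup_le c hA) hHD_le
  have hHI_le : H ⊔ I₁ ≤ K := sup_le hHK (le_trans hIU hUK)
  -- the three normal subgroups of `K`
  set N : Subgroup ↥K := (Y ⊔ D).subgroupOf K with hNdef
  set B : Subgroup ↥K := (H ⊔ D).subgroupOf K with hBdef
  set A : Subgroup ↥K := (H ⊔ I₁).subgroupOf K with hAdef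
  have hNn : N.Normal :=
    (Subgroup.normal_subgroupOf_iff_le_normalizer hYD_le).mpr (K_le_normalizer_Yoth_sup c hA)
  have hBn : B.Normal :=
    (Subgroup.normal_subgroupOf_iff_le_normalizer hHD_le).mpr
      (K_le_normalizer_H_sup c le_rfl hDU)
  have hAn : A.Normal :=
    (Subgroup.normal_subgroupOf_iff_le_normalizer hHI_le).mpr (K_le_normalizer_H_sup c hDI hIU)
  have hNB : N ≤ B := Subgroup.comap_mono (Yoth_sup_le c hA)
  have hBA : B ≤ A := Subgroup.comap_mono (sup_le_sup_left hDI H)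
  have hab : ∀ x ∈ A, ∀ y ∈ A, x * y * x⁻¹ * y⁻¹ ∈ N := by
    intro x hx y hy
    have := comm_mem_Yoth_sup c hA x hx y hy
    exact this
  have hgen : ∀ M : Subgroup ↥K, N ≤ M → (∃ z ∈ B, z ∈ M ∧ z ∉ N) → B ≤ M := by
    rintro M hNM ⟨z, hzB, hzM, hzN⟩
    have h1 := H_sup_le_of_mem c hA (M.map K.subtype)
      (fun y hy => Subgroup.mem_map.mpr ⟨⟨y, hYD_le hy⟩, hNM hy, rfl⟩)
      ⟨z, hzB, Subgroup.mem_map.mpr ⟨z, hzM, rfl⟩, hzN⟩
    intro b hb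
    obtain ⟨m, hm, hmb⟩ := Subgroup.mem_map.mp (h1 hb)
    have : m = b := Subtype.ext hmb
    rwa [← this]
  have hmove : ∀ g : ↥K, g ∉ A → ∃ b ∈ B, g * b * g⁻¹ * b⁻¹ ∉ N := by
    intro g hg
    obtain ⟨b, hb, hbN⟩ := exists_moved c hA g.2 hg
    exact ⟨⟨b, hHK (hA.le_H hb)⟩, Subgroup.mem_sup_left (hA.le_H hb), hbN⟩
  have hcount := index_sq_mul_card_add N B A hNB hBA hab hgen hmove
  have hAi : A.index = a := relIndex_H_sup c hIU
  have hBi : B.index = D.relIndex U := relIndex_H_sup c hDU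
  have hNi : N.index = p * D.relIndex U := relIndex_Yoth_sup c hA
  rw [hAi, hBi, hNi] at hcount
  set T := Finset.univ.filter (fun θ : IrrCharacter ↥K =>
    (∀ n ∈ N, (θ : ↥K → ℂ) n = (θ : ↥K → ℂ) 1) ∧
      ∃ b ∈ B, (θ : ↥K → ℂ) b ≠ (θ : ↥K → ℂ) 1) with hTdef
  set S := {φ : L → ℂ | φ ∈ Sbook K H (H₀ ⊔ D) ∧ IsIrrCharacter L φ ∧
    φ 1 = ((q * a : ℕ) : ℂ)} with hSdef
  -- properties of the members of `T`
  have hprop : ∀ θ ∈ T, (θ : ↥K → ℂ) ∈ Xset K H (H₀ ⊔ D) ∧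
      (∀ x : ↥K, (x : L) ∈ Y → (θ : ↥K → ℂ) x = (θ : ↥K → ℂ) 1) ∧
      (∃ h : ↥K, (h : L) ∈ H ∧ (θ : ↥K → ℂ) h ≠ (θ : ↥K → ℂ) 1) ∧
      (θ : ↥K → ℂ) 1 = (a : ℂ) := by
    intro θ hθ
    rw [hTdef, Finset.mem_filter] at hθ
    obtain ⟨-, hθN, hθB⟩ := hθ
    have hθc : IsCharacter ↥K (θ : ↥K → ℂ) := IsIrrCharacter.isCharacter θ.2
    have hY : ∀ x : ↥K, (x : L) ∈ Y → (θ : ↥K → ℂ) x = (θ : ↥K → ℂ) 1 :=
      fun x hx => hθN x (Subgroup.mem_sup_left hx)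
    have hH : ∃ h : ↥K, (h : L) ∈ H ∧ (θ : ↥K → ℂ) h ≠ (θ : ↥K → ℂ) 1 := by
      obtain ⟨b, hbB, hb⟩ := hθB
      have hb' : (b : L) ∈ H ⊔ D := hbB
      rw [← SetLike.mem_coe, Subgroup.normal_mul] at hb'
      obtain ⟨h, hh, d, hd, hhd⟩ := Set.mem_mul.mp hb'
      refine ⟨⟨h, hHK hh⟩, hh, ?_⟩
      have hdK : d ∈ K := hUK (hDU hd)
      have hbeq : b = ⟨h, hHK hh⟩ * ⟨d, hdK⟩ := Subtype.ext hhd.symm
      have hdker : (⟨d, hdK⟩ : ↥K) ∈ charKer (θ : ↥K → ℂ) hθc :=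
        hθN ⟨d, hdK⟩ (Subgroup.mem_sup_right hd)
      rw [hbeq, char_mul_of_mem_charKer' hθc hdker] at hb
      exact hb
    refine ⟨⟨θ.2, ?_, hH⟩, hY, hH, ?_⟩
    · intro x hx
      exact hθN x (sup_le_sup_right le_Yoth D hx)
    · have := degree_eq_index N B A hNB hBA hab hgen hmove θ.2 hθN hθB
      rw [this, hAi]
  -- the members of `T` are not `W₁`-invariant
  obtain ⟨w₀, hw₀, hw₀1⟩ := Cfsg.Agent.Lib.Helper62.PF9G3.ctx_exists_ne_one c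
  have hninv : ∀ θ ∈ T, ¬ IsW1Inv K W₁ c.K_normal (θ : ↥K → ℂ) := by
    intro θ hθ hinv
    obtain ⟨-, hY, ⟨h, hh, hne⟩, -⟩ := hprop θ hθ
    have h1 : ∀ x : ↥K, (x : L) ∈ H₁ → (θ : ↥K → ℂ) x = (θ : ↥K → ℂ) 1 :=
      conj_trivial_on_axis c hY hw₀ hw₀1 (fun k => (congrFun (hinv w₀ hw₀) k).symm)
    exact hne (trivial_on_H c hA (IsIrrCharacter.isCharacter θ.2) hY h1 h hh)
  -- the map into `S`
  have hmem : ∀ θ ∈ T, indFun K (θ : ↥K → ℂ) ∈ S := by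
    intro θ hθ
    obtain ⟨hX, -, -, hdeg⟩ := hprop θ hθ
    refine ⟨⟨_, hX, rfl⟩, ?_, ?_⟩
    · exact (Cfsg.Agent.Lib.Helper59.PF9.irr_iff_not_W1Inv c _ hX).1.mpr (hninv θ hθ)
    · rw [indFun_one_of_ctx c, hdeg]
      push_cast
      ring
  have hinj : Set.InjOn (fun θ : IrrCharacter ↥K => indFun K (θ : ↥K → ℂ)) (T : Set _) := by
    intro θ hθ θ' hθ' heq
    simp only at heq
    by_contra hne
    have hθT : θ ∈ T := hθ
    have hθ'T : θ' ∈ T := hθ'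
    obtain ⟨hX, hY, -, -⟩ := hprop θ hθT
    obtain ⟨hX', hY', ⟨h', hh', hne'⟩, -⟩ := hprop θ' hθ'T
    have hirr : IsIrrCharacter L (indFun K (θ : ↥K → ℂ)) :=
      (Cfsg.Agent.Lib.Helper59.PF9.irr_iff_not_W1Inv c _ hX).1.mpr (hninv θ hθT)
    have hconj : ∃ g : L, Cfsg.Agent.Lib.Helper75.conjFun K g (θ : ↥K → ℂ) = (θ' : ↥K → ℂ) := by
      by_contra hcon
      push Not at hcon
      have h0 := Cfsg.Agent.Lib.Helper75.classInner_indFun_indFun_eq_zero K θ.2 θ'.2 hcon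
      rw [← heq, classInner_irr_self hirr] at h0
      exact one_ne_zero h0
    obtain ⟨g, hg⟩ := hconj
    obtain ⟨h, hh, x, hx, w, hw, rfl⟩ := exists_decomp c g
    have hk : h * x ∈ K := K.mul_mem (hHK hh) (hUK hx)
    have hg' : Cfsg.Agent.Lib.Helper75.conjFun K w (θ : ↥K → ℂ) = (θ' : ↥K → ℂ) := by
      rw [← hg, Cfsg.Agent.Lib.Helper75.conjFun_mul]
      congr 1
      exact (Cfsg.Agent.Lib.Helper75.conjFun_of_mem K
        (IsCharacter.isClassFunction (IsIrrCharacter.isCharacter θ.2)) ⟨h * x, hk⟩).symm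
    by_cases hw1 : w = 1
    · apply hne
      apply Subtype.ext
      rw [← hg', hw1, Cfsg.Agent.Lib.Helper75.conjFun_one]
    · have h1 : ∀ y : ↥K, (y : L) ∈ H₁ → (θ' : ↥K → ℂ) y = (θ' : ↥K → ℂ) 1 :=
        conj_trivial_on_axis c hY hw hw1 (fun k => by rw [← hg']; rfl)
      exact hne' (trivial_on_H c hA (IsIrrCharacter.isCharacter θ'.2) hY' h1 h' hh')
  have hSfin : S.Finite :=
    (Cfsg.Agent.Lib.Helper59.PF9.Sbook_finite (K := K) (H := H) (H₀ ⊔ D)).subset (fun φ hφ => hφ.1)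
  have hcard : T.card ≤ S.ncard := by
    have h1 : (T.image (fun θ : IrrCharacter ↥K => indFun K (θ : ↥K → ℂ))).card = T.card :=
      Finset.card_image_of_injOn hinj
    rw [← h1, ← Set.ncard_coe_finset]
    apply Set.ncard_le_ncard _ hSfin
    intro φ hφ
    rw [Finset.mem_coe, Finset.mem_image] at hφ
    obtain ⟨θ, hθ, rfl⟩ := hφ
    exact hmem θ hθ
  have hp1 : (p - 1) * D.relIndex U + D.relIndex U = p * D.relIndex U := by
    have : p - 1 + 1 = p := Nat.sub_add_cancel c.p_prime.one_lt.le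
    calc (p - 1) * D.relIndex U + D.relIndex U = (p - 1 + 1) * D.relIndex U := by ring
      _ = p * D.relIndex U := by rw [this]
  have h2 : (p - 1) * D.relIndex U = a ^ 2 * T.card := by omega
  rw [h2]
  exact Nat.mul_le_mul_left _ hcard

end Cfsg.Agent.Lib.Helper58.PF9
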