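import Mathlib
import Cfsg.Agent.Lib.Helper58.PFNineDefs
import Cfsg.Agent.Lib.Helper58.PFNineT
import Cfsg.Agent.Lib.Helper58.PFNineGA
import Cfsg.Agent.Lib.Helper58.PFNineNA
import Cfsg.Agent.Lib.Helper58.PFNineND
import Cfsg.Agent.Lib.Helper59.PFNineG3a
import Cfsg.Agent.Lib.Helper59.PFNineSB
import Cfsg.Agent.Lib.Helper16.PFNineDI

/-!
# Peterfalvi (9.11) outside the tight case, assembled (helper58)

`core_coherent_axis`: in the non-Galois case, if `2 a u < (p - 1) |U : U'|`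
(`a = |U : C_U(H₁/H₀)|`, `u = |U : C|`; this fails only if `2 a = p - 1` and `C = U'`), then
`S(H₀C')` is coherent.  Assembly of the modules [NA], [ND] (helper58), [G3a], [SB] (helper59)
through `PFNineT.core_coherent_axis_of`.

`core_coherent`: (9.11) for a chief factor `H/H₀`, Galois case or non-Galois case with slack.
-/

set_option autoImplicit false

namespace Cfsg.Agent.Lib.Helper58.PF9

open Cfsg

universe u v

variable {L : Type u} [Group L] [Fintype L] {K H U W₁ W₂ H₀ : Subgroup L} {p q : ℕ}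

/-- **Peterfalvi (9.11)**, non-Galois case, outside the tight case. -/
theorem core_coherent_axis (c : Ctx K H U W₁ W₂ H₀ p q) {H₁ : Subgroup L}
    (hA : IsAxis H U W₁ H₀ H₁ p)
    (hslack : 2 * (coreC U H₁ H₀).relIndex U * (coreC U H H₀).relIndex U <
      (p - 1) * (⁅U, U⁆).relIndex U)
    {G : Type v} [Group G] [Fintype G] (τ : (L → ℂ) → (G → ℂ)) (R : (L → ℂ) → Finset (G → ℂ))
    (hS : IsCoherenceSystem (Sbook K H (H₀ ⊔ ⁅coreC U H H₀, coreC U H H₀⁆)) τ R) :
    IsCoherent (Sbook K H (H₀ ⊔ ⁅coreC U H H₀, coreC U H H₀⁆)) {1}ᶜ τ :=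
  core_coherent_axis_of c hslack τ R hS
    (Cfsg.Agent.Lib.Helper59.PF9.Sbook_finite _)
    (fun _ hθ => axis_degree_dvd c hA hθ)
    (fun _ hθ => core_degree_le c hθ)
    (fun _ hθ => Cfsg.Agent.Lib.Helper59.PF9.irr_iff_not_W1Inv c _ hθ)
    (axis_count_small c hA)

/-- **Peterfalvi (9.11)** for a chief factor `H/H₀`, outside the tight case `2a = p - 1`,
`C = U'` of the non-Galois case. -/
theorem core_coherent (c : Ctx K H U W₁ W₂ H₀ p q)
    (hchief : ∀ N : Subgroup L, N.Normal → H₀ ≤ N → N ≤ H → N = H₀ ∨ N = H)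
    (hslack : ∀ H₁ : Subgroup L, IsAxis H U W₁ H₀ H₁ p →
      2 * (coreC U H₁ H₀).relIndex U * (coreC U H H₀).relIndex U <
        (p - 1) * (⁅U, U⁆).relIndex U)
    {G : Type v} [Group G] [Fintype G] (τ : (L → ℂ) → (G → ℂ)) (R : (L → ℂ) → Finset (G → ℂ))
    (hS : IsCoherenceSystem (Sbook K H (H₀ ⊔ ⁅coreC U H H₀, coreC U H H₀⁆)) τ R) :
    IsCoherent (Sbook K H (H₀ ⊔ ⁅coreC U H H₀, coreC U H H₀⁆)) {1}ᶜ τ := by
  rcases Cfsg.Agent.Lib.Helper16.PFNineDI.galois_or_axis c hchief with hG | ⟨H₁, hA⟩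
  · exact core_coherent_galois c hG τ R hS
  · exact core_coherent_axis c hA (hslack H₁ hA) τ R hS

end Cfsg.Agent.Lib.Helper58.PF9
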