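import Mathlib
import Cfsg.Agent.Lib.Helper58.PFNineDefs
import Cfsg.Agent.Lib.Helper58.PFNineCnt
import Cfsg.Agent.Lib.Helper58.PFNineNDGrp
import Cfsg.Agent.Lib.Helper58.PFNineNA

/-!
# Peterfalvi (9.8): arithmetic of `a = |U : C_U(H₁/H₀)|` (helper58)

`axis_index_facts`: in the non-Galois case `1 < a`, `2 a ∣ p - 1`, `a ∣ u = |U : C|` and
`U' ≤ C`.  The divisibility `a ∣ p - 1` is obtained by counting the irreducible characters of
`K / Y I₁ ≅ Z_p ⋊ (U / I₁)` (they have degree `a` when nontrivial on `Z_p`, by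
`PF9Cnt.index_sq_mul_card_add`): `a² t + a = p a`.
-/

set_option autoImplicit false

namespace Cfsg.Agent.Lib.Helper58.PF9

open Cfsg Cfsg.Agent.Lib.Helper58.PF9ND Cfsg.Agent.Lib.Helper58.PF9Cnt
  Cfsg.Agent.Lib.Helper16.PFNineNB Cfsg.Agent.Lib.Helper16.PFNineNC

open scoped commutatorElement

universe u

variable {L : Type u} [Group L] [Fintype L] {K H U W₁ W₂ H₀ H₁ : Subgroup L} {p q : ℕ}

/-- `K` normalizes `Y I₁` -/
theorem K_le_normalizer_Yoth_sup_coreC (c : Ctx K H U W₁ W₂ H₀ p q)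
    (hA : IsAxis H U W₁ H₀ H₁ p) :
    K ≤ Subgroup.normalizer ((Yoth H₀ H₁ W₁ ⊔ coreC U H₁ H₀ : Subgroup L) : Set L) := by
  have hIU : coreC U H₁ H₀ ≤ U := coreC_le U H₁ H₀
  rw [← c.HU_sup]
  apply sup_le
  · apply le_normalizer_of_conj_mem'
    intro h hh z hz
    have hle : Yoth H₀ H₁ W₁ ⊔ coreC U H₁ H₀ ≤
        (Yoth H₀ H₁ W₁ ⊔ coreC U H₁ H₀).comap (MulAut.conj h).toMonoidHom := by
      apply sup_le
      · intro a ha
        rw [Subgroup.mem_comap]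
        exact Subgroup.mem_sup_left
          ((Subgroup.mem_normalizer_iff.mp (H_le_normalizer_Yoth c hA hh) a).mp ha)
      · intro x hx
        rw [Subgroup.mem_comap]
        have h1 : h * x * h⁻¹ = (h * x * h⁻¹ * x⁻¹) * x := by group
        show h * x * h⁻¹ ∈ _
        rw [h1]
        exact Subgroup.mul_mem _
          (Subgroup.mem_sup_left (comm_mem_symm (comm_mem_Yoth c hA hx hh)))
          (Subgroup.mem_sup_right hx)
    exact hle hz
  · exact le_normalizer_sup' (U_le_normalizer_Yoth c hA)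
      (U_le_normalizer_of_commutator_le (commutator_le_coreC_one c hA) hIU)

/-- `|K : Y I₁| = p a` -/
theorem relIndex_Yoth_sup_coreC (c : Ctx K H U W₁ W₂ H₀ p q) (hA : IsAxis H U W₁ H₀ H₁ p) :
    (Yoth H₀ H₁ W₁ ⊔ coreC U H₁ H₀).relIndex K = p * (coreC U H₁ H₀).relIndex U := by
  have hH := c.H_normal
  set Y := Yoth H₀ H₁ W₁ with hY
  set D := coreC U H₁ H₀ with hD
  have hDU : D ≤ U := coreC_le U H₁ H₀
  have hYH : Y ≤ H := Yoth_le c hA
  have hHK : H ≤ K := by rw [← c.HU_sup]; exact le_sup_left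
  have hUK : U ≤ K := by rw [← c.HU_sup]; exact le_sup_right
  have hdisj : Y ⊓ D = ⊥ := by
    apply le_antisymm _ bot_le
    rw [← c.HU_inf]
    exact inf_le_inf hYH hDU
  have h1 : Nat.card (Y ⊔ D : Subgroup L) = Nat.card Y * Nat.card D :=
    Cfsg.Agent.Lib.Helper54.card_sup_of_le_normalizer
      (le_trans hDU (U_le_normalizer_Yoth c hA)) hdisj
  have hnorm : U ≤ Subgroup.normalizer (H : Set L) := by
    rw [Subgroup.normalizer_eq_top]
    exact le_top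
  have h2 : Nat.card (H ⊔ U : Subgroup L) = Nat.card H * Nat.card U :=
    Cfsg.Agent.Lib.Helper54.card_sup_of_le_normalizer hnorm c.HU_inf
  rw [c.HU_sup] at h2
  have h3 := Cfsg.Agent.Lib.Helper54.card_mul_relIndex hYH
  rw [relIndex_Yoth c hA] at h3
  have h4 := Cfsg.Agent.Lib.Helper54.card_mul_relIndex hDU
  have h5 := Cfsg.Agent.Lib.Helper54.card_mul_relIndex
    (sup_le (le_trans hYH hHK) (le_trans hDU hUK) : Y ⊔ D ≤ K)
  have hpos : 0 < Nat.card Y * Nat.card D := Nat.mul_pos Nat.card_pos Nat.card_pos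
  have h6 : Nat.card Y * Nat.card D * (Y ⊔ D).relIndex K =
      Nat.card Y * Nat.card D * (p * D.relIndex U) := by
    calc Nat.card Y * Nat.card D * (Y ⊔ D).relIndex K
        = Nat.card (Y ⊔ D : Subgroup L) * (Y ⊔ D).relIndex K := by rw [h1]
      _ = Nat.card K := h5
      _ = Nat.card H * Nat.card U := h2
      _ = (Nat.card Y * p) * (Nat.card D * D.relIndex U) := by rw [h3, h4]
      _ = Nat.card Y * Nat.card D * (p * D.relIndex U) := by ring
  exact Nat.eq_of_mul_eq_mul_left hpos h6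

/-- `(Y I₁) ∩ H ≤ Y` -/
theorem Yoth_sup_coreC_inf_le (c : Ctx K H U W₁ W₂ H₀ p q) (hA : IsAxis H U W₁ H₀ H₁ p) :
    (Yoth H₀ H₁ W₁ ⊔ coreC U H₁ H₀) ⊓ H ≤ Yoth H₀ H₁ W₁ := by
  rintro z ⟨hz1, hz2⟩
  have hDU : coreC U H₁ H₀ ≤ U := coreC_le U H₁ H₀
  obtain ⟨y, hy, d, hd, rfl⟩ :=
    exists_mul_of_mem_sup (le_trans hDU (U_le_normalizer_Yoth c hA)) hz1
  have hd1 : d ∈ H ⊓ U := by
    refine ⟨?_, hDU hd⟩
    have : d = y⁻¹ * (y * d) := by group
    rw [this]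
    exact H.mul_mem (H.inv_mem (Yoth_le c hA hy)) hz2
  rw [c.HU_inf, Subgroup.mem_bot] at hd1
  rw [hd1, mul_one]
  exact hy

/-- `a` divides `p - 1` -/
theorem axis_index_dvd (c : Ctx K H U W₁ W₂ H₀ p q) (hA : IsAxis H U W₁ H₀ H₁ p) :
    (coreC U H₁ H₀).relIndex U ∣ p - 1 := by
  classical
  have hK := c.K_normal
  have hHn := c.H_normal
  set Y := Yoth H₀ H₁ W₁ with hYdef
  set I₁ := coreC U H₁ H₀ with hIdef
  set a := I₁.relIndex U with hadef
  have hDI : ⁅U, U⁆ ≤ I₁ := commutator_le_coreC_one c hA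
  have hIU : I₁ ≤ U := coreC_le U H₁ H₀
  have hHK : H ≤ K := by rw [← c.HU_sup]; exact le_sup_left
  have hUK : U ≤ K := by rw [← c.HU_sup]; exact le_sup_right
  have hHI_le : H ⊔ I₁ ≤ K := sup_le hHK (le_trans hIU hUK)
  have hYI_le : Y ⊔ I₁ ≤ K := sup_le (le_trans (Yoth_le c hA) hHK) (le_trans hIU hUK)
  set N : Subgroup ↥K := (Y ⊔ I₁).subgroupOf K with hNdef
  set A : Subgroup ↥K := (H ⊔ I₁).subgroupOf K with hAdef
  have hNn : N.Normal :=
    (Subgroup.normal_subgroupOf_iff_le_normalizer hYI_le).mpr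
      (K_le_normalizer_Yoth_sup_coreC c hA)
  have hAn : A.Normal :=
    (Subgroup.normal_subgroupOf_iff_le_normalizer hHI_le).mpr (K_le_normalizer_H_sup c hDI hIU)
  have hNA : N ≤ A := Subgroup.comap_mono (sup_le_sup_right (Yoth_le c hA) I₁)
  have hab : ∀ x ∈ A, ∀ y ∈ A, x * y * x⁻¹ * y⁻¹ ∈ N := by
    intro x hx y hy
    have h1 := comm_mem_Yoth_sup c hA x hx y hy
    exact sup_le_sup_left hDI Y h1
  have hgen : ∀ M : Subgroup ↥K, N ≤ M → (∃ z ∈ A, z ∈ M ∧ z ∉ N) → A ≤ M := by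
    rintro M hNM ⟨z, hzA, hzM, hzN⟩
    have hz : (z : L) ∈ H ⊔ I₁ := hzA
    rw [← SetLike.mem_coe, Subgroup.normal_mul] at hz
    obtain ⟨h, hh, d, hd, hhd⟩ := Set.mem_mul.mp hz
    have hdK : d ∈ K := hUK (hIU hd)
    have hdM : (⟨d, hdK⟩ : ↥K) ∈ M := hNM (Subgroup.mem_sup_right hd : d ∈ Y ⊔ I₁)
    have hzeq : z = ⟨h, hHK hh⟩ * ⟨d, hdK⟩ := Subtype.ext hhd.symm
    have hhM : (⟨h, hHK hh⟩ : ↥K) ∈ M := by
      have : (⟨h, hHK hh⟩ : ↥K) = z * (⟨d, hdK⟩ : ↥K)⁻¹ := by rw [hzeq]; group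
      rw [this]
      exact M.mul_mem hzM (M.inv_mem hdM)
    have hhY : h ∉ Y := by
      intro hy
      apply hzN
      show (z : L) ∈ Y ⊔ I₁
      rw [← hhd]
      exact Subgroup.mul_mem _ (Subgroup.mem_sup_left hy) (Subgroup.mem_sup_right hd)
    have hYM : Y ≤ M.map K.subtype ⊓ H := by
      intro y hy
      refine ⟨Subgroup.mem_map.mpr ⟨⟨y, hHK (Yoth_le c hA hy)⟩, hNM ?_, rfl⟩, Yoth_le c hA hy⟩
      exact (Subgroup.mem_sup_left hy : y ∈ Y ⊔ I₁)
    rcases le_or_le_of_relIndex_prime c.p_prime (relIndex_Yoth c hA) hYM inf_le_right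
      with h1 | h1
    · exact absurd (h1 ⟨Subgroup.mem_map.mpr ⟨⟨h, hHK hh⟩, hhM, rfl⟩, hh⟩) hhY
    · intro b hb
      have hb' : (b : L) ∈ H ⊔ I₁ := hb
      rw [← SetLike.mem_coe, Subgroup.normal_mul] at hb'
      obtain ⟨h', hh', d', hd', hhd'⟩ := Set.mem_mul.mp hb'
      have hd'K : d' ∈ K := hUK (hIU hd')
      have hbeq : b = ⟨h', hHK hh'⟩ * ⟨d', hd'K⟩ := Subtype.ext hhd'.symm
      rw [hbeq]
      apply M.mul_mem
      · obtain ⟨m, hm, hmy⟩ := Subgroup.mem_map.mp (h1 hh').1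
        have : m = ⟨h', hHK hh'⟩ := Subtype.ext hmy
        rwa [← this]
      · exact hNM (Subgroup.mem_sup_right hd' : d' ∈ Y ⊔ I₁)
  have hmove : ∀ g : ↥K, g ∉ A → ∃ b ∈ A, g * b * g⁻¹ * b⁻¹ ∉ N := by
    intro g hg
    obtain ⟨b, hb, hbN⟩ := exists_moved_axis c hA W₁.one_mem g.2
      (by rw [axis_one]; exact hg)
    rw [axis_one] at hb
    refine ⟨⟨b, hHK (hA.le_H hb)⟩, Subgroup.mem_sup_left (hA.le_H hb), ?_⟩
    intro hmem
    apply hbN
    -- the commutator lies in `H₁ ∩ (Y I₁) ≤ H₀`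
    have hgn : (g : L) ∈ Subgroup.normalizer (H₁ : Set L) := by
      have hKn : K ≤ Subgroup.normalizer (H₁ : Set L) := by
        rw [← c.HU_sup]
        exact sup_le (le_normalizer_of_commutator_le hA.le_H (le_trans c.comm_le hA.H₀_le))
          hA.U_norm
      exact hKn g.2
    have he1 : (g : L) * b * (g : L)⁻¹ * b⁻¹ ∈ H₁ :=
      H₁.mul_mem ((Subgroup.mem_normalizer_iff.mp hgn b).mp hb) (H₁.inv_mem hb)
    have heY : (g : L) * b * (g : L)⁻¹ * b⁻¹ ∈ Y :=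
      Yoth_sup_coreC_inf_le c hA ⟨hmem, hA.le_H he1⟩
    exact Yoth_inf_le c hA ⟨heY, he1⟩
  have hcount := index_sq_mul_card_add N A A hNA le_rfl hab hgen hmove
  have hAi : A.index = a := relIndex_H_sup c hIU
  have hNi : N.index = p * a := relIndex_Yoth_sup_coreC c hA
  rw [hAi, hNi] at hcount
  set t := (Finset.univ.filter (fun θ : IrrCharacter ↥K =>
    (∀ n ∈ N, (θ : ↥K → ℂ) n = (θ : ↥K → ℂ) 1) ∧
      ∃ b ∈ A, (θ : ↥K → ℂ) b ≠ (θ : ↥K → ℂ) 1)).card with htdef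
  have hapos : 0 < a := by
    rw [hadef, Subgroup.relIndex]
    exact Nat.pos_of_ne_zero Subgroup.index_ne_zero_of_finite
  have h1 : a * (a * t + 1) = a * p := by
    calc a * (a * t + 1) = a ^ 2 * t + a := by ring
      _ = p * a := hcount
      _ = a * p := by ring
  have h2 : a * t + 1 = p := Nat.eq_of_mul_eq_mul_left hapos h1
  exact ⟨t, by omega⟩

omit [Fintype L] in
/-- `C = C_U(H/H₀) ≤ I₁ = C_U(H₁/H₀)` -/
theorem coreC_le_coreC_axis (hA : IsAxis H U W₁ H₀ H₁ p) : coreC U H H₀ ≤ coreC U H₁ H₀ := by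
  intro x hx
  obtain ⟨hxU, -, hx0, hxc⟩ := mem_coreC.mp hx
  exact mem_coreC.mpr ⟨hxU, hA.U_norm hxU, hx0, fun h hh => hxc h (hA.le_H hh)⟩

/-- **arithmetic of `a`** in the non-Galois case -/
theorem axis_index_facts (c : Ctx K H U W₁ W₂ H₀ p q) (hA : IsAxis H U W₁ H₀ H₁ p) :
    1 < (coreC U H₁ H₀).relIndex U ∧ 2 * (coreC U H₁ H₀).relIndex U ∣ p - 1 ∧
      (coreC U H₁ H₀).relIndex U ∣ (coreC U H H₀).relIndex U ∧
      ⁅U, U⁆ ≤ coreC U H H₀ := by
  have hH₀n := c.H₀_normal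
  have hHn := c.H_normal
  set a := (coreC U H₁ H₀).relIndex U with hadef
  have hapos : 0 < a := by
    rw [hadef, Subgroup.relIndex]
    exact Nat.pos_of_ne_zero Subgroup.index_ne_zero_of_finite
  have hodd : Odd a := by
    have h1 : a ∣ Nat.card U := Subgroup.relIndex_dvd_card _ _
    have h2 : Nat.card U ∣ Nat.card L := Subgroup.card_subgroup_dvd_card U
    exact Odd.of_dvd_nat c.odd (dvd_trans h1 h2)
  have hpodd : Odd p := by
    have h1 : p ^ q ∣ Nat.card H := by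
      rw [← c.relIndex_H₀]
      exact Subgroup.relIndex_dvd_card _ _
    have h2 : p ∣ Nat.card L :=
      dvd_trans (dvd_pow_self p c.q_prime.pos.ne') (dvd_trans h1 (Subgroup.card_subgroup_dvd_card H))
    exact Odd.of_dvd_nat c.odd h2
  refine ⟨?_, ?_, ?_, commutator_le_coreC c hA⟩
  · -- `1 < a`
    by_contra hle
    have ha1 : a = 1 := by omega
    apply c.not_cent
    rw [Subgroup.commutator_le]
    intro x hx h hh
    have hall : H ≤ centMod H₀ x := by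
      rw [← hA.iSup_eq]
      apply iSup_le
      intro w g hg
      rw [mem_centMod]
      have h1 : (coreC U (axis H₁ (w : L)) H₀).relIndex U = 1 := by
        rw [relIndex_coreC_axis (c.W₁_norm_U w.2), ← hadef, ha1]
      have h2 : U ≤ coreC U (axis H₁ (w : L)) H₀ := Subgroup.relIndex_eq_one.mp h1
      exact (mem_coreC.mp (h2 hx)).2.2.2 g hg
    rw [commutatorElement_def]
    exact mem_centMod.mp (hall hh)
  · -- `2 a ∣ p - 1`
    have h1 : a ∣ p - 1 := axis_index_dvd c hA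
    have h2 : 2 ∣ p - 1 := by
      obtain ⟨k, hk⟩ := hpodd
      exact ⟨k, by omega⟩
    have hcop : Nat.Coprime 2 a := by
      rw [Nat.coprime_comm]
      exact Nat.Coprime.symm (Nat.coprime_two_left.mpr hodd)
    exact Nat.Coprime.mul_dvd_of_dvd_of_dvd hcop h2 h1
  · exact Subgroup.relIndex_dvd_of_le_left U (coreC_le_coreC_axis hA)

end Cfsg.Agent.Lib.Helper58.PF9
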