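import Mathlib
import Cfsg.Agent.Lib.Helper58.PFNineCoh

/-!
# Peterfalvi (9.11), non-Galois case: the boundary case with an intermediate degree (helper58)

`coherent_of_small_degree_mid`: the numerical core of (9.11) with the WEAK inequality
`2 b e ≤ N e²`, provided some member of `S` has a degree strictly between `e` and `b`: first all
members of degree `< b` are added to the members of degree `e` (the (5.6) test is strict for them),
then the sum of `d² / n` has become strictly larger than `N e² ≥ 2 b e`, and the members of degree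
`b` can be added.
-/

set_option autoImplicit false

namespace Cfsg.Agent.Lib.Helper58.PF9

open Cfsg

universe u v

variable {L : Type u} [Group L] [Fintype L] {G : Type v} [Group G] [Fintype G]

open Classical in
theorem coherent_of_small_degree_mid {S : Set (L → ℂ)} (hfin : S.Finite)
    {τ : (L → ℂ) → (G → ℂ)} {R : (L → ℂ) → Finset (G → ℂ)} (hS : IsCoherenceSystem S τ R)
    (e b N : ℕ) (he : 0 < e) (hN : 0 < N)
    (hdeg : ∀ φ ∈ S, ∃ k : ℕ, φ 1 = ((e * k : ℕ) : ℂ) ∧ e * k ≤ b)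
    (hnorm : ∀ φ ∈ S, ∃ m : ℕ, 0 < m ∧ classInner φ φ = (m : ℂ))
    (hcount : N ≤ {φ : L → ℂ | φ ∈ S ∧ IsIrrCharacter L φ ∧ φ 1 = (e : ℂ)}.ncard)
    (hineq : 2 * b * e ≤ N * e ^ 2)
    (hmid : ∃ φ ∈ S, ∃ k : ℕ, φ 1 = ((e * k : ℕ) : ℂ) ∧ e < e * k ∧ e * k < b) :
    IsCoherent S {1}ᶜ τ := by
  -- degree and norm functions
  let d : (L → ℂ) → ℕ := fun φ => if h : φ ∈ S then e * Classical.choose (hdeg φ h) else 0
  let n : (L → ℂ) → ℕ := fun φ => if h : φ ∈ S then Classical.choose (hnorm φ h) else 0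
  have hd : ∀ φ ∈ S, φ 1 = (d φ : ℂ) := by
    intro φ hφ
    simp only [d, dif_pos hφ]
    exact (Classical.choose_spec (hdeg φ hφ)).1
  have hdb : ∀ φ ∈ S, d φ ≤ b := by
    intro φ hφ
    simp only [d, dif_pos hφ]
    exact (Classical.choose_spec (hdeg φ hφ)).2
  have hde : ∀ φ ∈ S, e ∣ d φ := by
    intro φ hφ
    simp only [d, dif_pos hφ]
    exact Dvd.intro _ rfl
  have hn : ∀ φ ∈ S, classInner φ φ = (n φ : ℂ) := by
    intro φ hφ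
    simp only [n, dif_pos hφ]
    exact (Classical.choose_spec (hnorm φ hφ)).2
  have hnpos : ∀ φ ∈ S, 0 < n φ := by
    intro φ hφ
    simp only [n, dif_pos hφ]
    exact (Classical.choose_spec (hnorm φ hφ)).1
  have hd_eq : ∀ φ ∈ S, ∀ m : ℕ, φ 1 = (m : ℂ) → d φ = m := by
    intro φ hφ m h1
    have := hd φ hφ
    rw [h1] at this
    exact_mod_cast this.symm
  have hn_irr : ∀ φ ∈ S, IsIrrCharacter L φ → n φ = 1 := by
    intro φ hφ hirr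
    have h1 := hn φ hφ
    rw [Cfsg.Agent.Lib.Helper78.classInner_irr_self hirr] at h1
    exact_mod_cast h1.symm
  have hd_conj : ∀ φ ∈ S, d (conjFun φ) = d φ := by
    intro φ hφ
    apply hd_eq _ (hS.conj_mem φ hφ)
    simp only [conjFun, hd φ hφ, map_natCast]
  obtain ⟨φm, hφmS, km, hφm1, hkm1, hkm2⟩ := hmid
  have hdφm : d φm = e * km := hd_eq φm hφmS _ hφm1
  have heb : e < b := lt_trans hkm1 hkm2
  -- the base set
  set S₁ : Finset (L → ℂ) := hfin.toFinset.filter (fun φ => φ 1 = (e : ℂ)) with hS₁def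
  have hS₁mem : ∀ φ, φ ∈ S₁ ↔ φ ∈ S ∧ φ 1 = (e : ℂ) := by
    intro φ
    rw [hS₁def, Finset.mem_filter, Set.Finite.mem_toFinset]
  have hS₁S : (↑S₁ : Set (L → ℂ)) ⊆ S := fun φ hφ => ((hS₁mem φ).mp (Finset.mem_coe.mp hφ)).1
  set T : Finset (L → ℂ) := S₁.filter (fun φ => IsIrrCharacter L φ) with hTdef
  have hTset : (↑T : Set (L → ℂ)) = {φ : L → ℂ | φ ∈ S ∧ IsIrrCharacter L φ ∧ φ 1 = (e : ℂ)} := by
    ext φ
    simp only [hTdef, Finset.coe_filter, Set.mem_ofPred_eq, hS₁mem]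
    tauto
  have hTcard : N ≤ T.card := by
    have : T.card = {φ : L → ℂ | φ ∈ S ∧ IsIrrCharacter L φ ∧ φ 1 = (e : ℂ)}.ncard := by
      rw [← hTset, Set.ncard_coe_finset]
    rw [this]; exact hcount
  have hTne : T.Nonempty := Finset.card_pos.mp (lt_of_lt_of_le hN hTcard)
  obtain ⟨χ₁, hχ₁T⟩ := hTne
  have hχ₁S₁ : χ₁ ∈ S₁ := (Finset.mem_filter.mp hχ₁T).1
  have hχ₁' := (hS₁mem χ₁).mp hχ₁S₁
  have hdχ₁ : d χ₁ = e := hd_eq χ₁ hχ₁'.1 e hχ₁'.2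
  have hS₁c : ∀ φ ∈ S₁, conjFun φ ∈ S₁ := by
    intro φ hφ
    rw [hS₁mem] at hφ ⊢
    refine ⟨hS.conj_mem φ hφ.1, ?_⟩
    simp only [conjFun, hφ.2, map_natCast]
  have hcoh₁ : IsCoherent (↑S₁ : Set (L → ℂ)) {1}ᶜ τ := by
    refine coherent_of_uniform (coherenceSystem_subset hS hS₁S
      ⟨χ₁, Finset.mem_coe.mpr hχ₁S₁⟩ ?_) (e : ℂ) ?_
    · intro χ hχ
      exact Finset.mem_coe.mpr (hS₁c χ (Finset.mem_coe.mp hχ))
    · intro φ hφ
      exact ((hS₁mem φ).mp (Finset.mem_coe.mp hφ)).2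
  have hsum : (N : ℝ) * (e : ℝ) ^ 2 ≤ ∑ φ ∈ S₁, ((d φ : ℝ) ^ 2 / (n φ : ℝ)) := by
    have h1 : ∑ φ ∈ T, ((d φ : ℝ) ^ 2 / (n φ : ℝ)) ≤ ∑ φ ∈ S₁, ((d φ : ℝ) ^ 2 / (n φ : ℝ)) := by
      apply Finset.sum_le_sum_of_subset_of_nonneg (Finset.filter_subset _ _)
      intro φ _ _
      positivity
    have h2 : ∑ φ ∈ T, ((d φ : ℝ) ^ 2 / (n φ : ℝ)) = (T.card : ℝ) * (e : ℝ) ^ 2 := by
      rw [Finset.sum_congr rfl (g := fun _ => (e : ℝ) ^ 2)]
      · rw [Finset.sum_const, nsmul_eq_mul]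
      · intro φ hφ
        have hφ' := Finset.mem_filter.mp hφ
        have hφS := ((hS₁mem φ).mp hφ'.1)
        rw [hd_eq φ hφS.1 e hφS.2, hn_irr φ hφS.1 hφ'.2]
        simp
    have h3 : (N : ℝ) * (e : ℝ) ^ 2 ≤ (T.card : ℝ) * (e : ℝ) ^ 2 := by
      apply mul_le_mul_of_nonneg_right _ (by positivity)
      exact_mod_cast hTcard
    linarith
  have hineq' : (2 * (b : ℝ) * (e : ℝ)) ≤ (N : ℝ) * (e : ℝ) ^ 2 := by exact_mod_cast hineq
  -- the members of degree `< b`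
  set Tm : Finset (L → ℂ) := hfin.toFinset.filter (fun φ => d φ < b) with hTmdef
  have hTmmem : ∀ φ, φ ∈ Tm ↔ φ ∈ S ∧ d φ < b := by
    intro φ
    rw [hTmdef, Finset.mem_filter, Set.Finite.mem_toFinset]
  have hTmS : (↑Tm : Set (L → ℂ)) ⊆ S := fun φ hφ => ((hTmmem φ).mp (Finset.mem_coe.mp hφ)).1
  have hS₁Tm : S₁ ⊆ Tm := by
    intro φ hφ
    have hφ' := (hS₁mem φ).mp hφ
    rw [hTmmem]
    refine ⟨hφ'.1, ?_⟩
    rw [hd_eq φ hφ'.1 e hφ'.2]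
    exact heb
  have hTmc : ∀ φ ∈ Tm, conjFun φ ∈ Tm := by
    intro φ hφ
    rw [hTmmem] at hφ ⊢
    refine ⟨hS.conj_mem φ hφ.1, ?_⟩
    rw [hd_conj φ hφ.1]
    exact hφ.2
  have hsysTm : IsCoherenceSystem (↑Tm : Set (L → ℂ)) τ R :=
    coherenceSystem_subset hS hTmS ⟨χ₁, Finset.mem_coe.mpr (hS₁Tm hχ₁S₁)⟩
      (fun χ hχ => Finset.mem_coe.mpr (hTmc χ (Finset.mem_coe.mp hχ)))
  have hcohTm : IsCoherent (↑Tm : Set (L → ℂ)) {1}ᶜ τ := by
    refine coherent_of_extend Tm.finite_toSet hsysTm d n (fun φ hφ => hd φ (hTmS hφ))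
      (fun φ hφ => hn φ (hTmS hφ)) S₁ (fun φ hφ => Finset.mem_coe.mpr (hS₁Tm (Finset.mem_coe.mp hφ)))
      hS₁c hcoh₁ ?_
    intro χ hχ _
    have hχ' := (hTmmem χ).mp (Finset.mem_coe.mp hχ)
    refine ⟨χ₁, hχ₁S₁, ?_, ?_⟩
    · rw [hdχ₁]; exact hde χ hχ'.1
    · rw [hdχ₁]
      have h1 : (d χ : ℝ) + 1 ≤ (b : ℝ) := by exact_mod_cast hχ'.2
      have he' : (0 : ℝ) < (e : ℝ) := by exact_mod_cast he
      nlinarith
  -- the intermediate member increases the sum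
  have hφmTm : φm ∈ Tm := by
    rw [hTmmem]
    exact ⟨hφmS, by rw [hdφm]; exact hkm2⟩
  have hφmS₁ : φm ∉ S₁ := by
    intro h
    have h1 := ((hS₁mem φm).mp h).2
    have h2 := hd_eq φm hφmS e h1
    rw [hdφm] at h2
    omega
  have hsum2 : (N : ℝ) * (e : ℝ) ^ 2 < ∑ φ ∈ Tm, ((d φ : ℝ) ^ 2 / (n φ : ℝ)) := by
    have h1 : ∑ φ ∈ Tm, ((d φ : ℝ) ^ 2 / (n φ : ℝ)) =
        ∑ φ ∈ S₁, ((d φ : ℝ) ^ 2 / (n φ : ℝ)) + ∑ φ ∈ Tm \ S₁, ((d φ : ℝ) ^ 2 / (n φ : ℝ)) := by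
      rw [add_comm, Finset.sum_sdiff hS₁Tm]
    have h2 : (d φm : ℝ) ^ 2 / (n φm : ℝ) ≤ ∑ φ ∈ Tm \ S₁, ((d φ : ℝ) ^ 2 / (n φ : ℝ)) := by
      apply Finset.single_le_sum (f := fun φ => (d φ : ℝ) ^ 2 / (n φ : ℝ))
      · intro φ _
        positivity
      · exact Finset.mem_sdiff.mpr ⟨hφmTm, hφmS₁⟩
    have h3 : (0 : ℝ) < (d φm : ℝ) ^ 2 / (n φm : ℝ) := by
      have hdpos : (0 : ℝ) < (d φm : ℝ) := by
        have : 0 < d φm := by rw [hdφm]; omega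
        exact_mod_cast this
      have hnp : (0 : ℝ) < (n φm : ℝ) := by exact_mod_cast hnpos φm hφmS
      positivity
    linarith
  refine coherent_of_extend hfin hS d n hd hn Tm hTmS hTmc hcohTm ?_
  intro χ hχ hχTm
  have hdχ : d χ = b := by
    have h1 : ¬ d χ < b := fun h => hχTm ((hTmmem χ).mpr ⟨hχ, h⟩)
    have h2 := hdb χ hχ
    omega
  refine ⟨χ₁, hS₁Tm hχ₁S₁, ?_, ?_⟩
  · rw [hdχ₁]; exact hde χ hχ
  · rw [hdχ₁, hdχ]
    linarith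

end Cfsg.Agent.Lib.Helper58.PF9
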