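import Mathlib
import Cfsg.Agent.Lib.Helper58.PFNineDefs
import Cfsg.Agent.Lib.Helper58.PFNineT
import Cfsg.Agent.Lib.Helper58.PFNineCoh2
import Cfsg.Agent.Lib.Helper58.PFNineNA
import Cfsg.Agent.Lib.Helper58.PFNineND
import Cfsg.Agent.Lib.Helper58.PFNineIdx
import Cfsg.Agent.Lib.Helper59.PFNineG3a
import Cfsg.Agent.Lib.Helper59.PFNineSB

/-!
# Peterfalvi (9.11), non-Galois case, with an intermediate degree (helper58)

`core_coherent_axis_mid`: in the non-Galois case `S(H₀C')` is coherent as soon as it has a member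
whose degree is neither `q a` nor `q u` (no inequality needed: `2 a u ≤ (p - 1) |U : U'|` always
holds).  Together with `core_coherent_axis` this leaves open only the exactly tight configuration
`2 a = p - 1`, `C = U'`, all members of `S(H₀C')` of degree `q a` or `q u`.
-/

set_option autoImplicit false

namespace Cfsg.Agent.Lib.Helper58.PF9

open Cfsg

universe u v

variable {L : Type u} [Group L] [Fintype L] {K H U W₁ W₂ H₀ : Subgroup L} {p q : ℕ}

/-- `2 a u ≤ (p - 1) |U : U'|` always holds in the non-Galois case -/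
theorem axis_weak_slack (c : Ctx K H U W₁ W₂ H₀ p q) {H₁ : Subgroup L}
    (hA : IsAxis H U W₁ H₀ H₁ p) :
    2 * (coreC U H₁ H₀).relIndex U * (coreC U H H₀).relIndex U ≤
      (p - 1) * (⁅U, U⁆).relIndex U := by
  obtain ⟨-, h2, -, h4⟩ := axis_index_facts c hA
  have hp1 : 0 < p - 1 := Nat.sub_pos_of_lt c.p_prime.one_lt
  have h5 : 2 * (coreC U H₁ H₀).relIndex U ≤ p - 1 := Nat.le_of_dvd hp1 h2
  have h6 : (coreC U H H₀).relIndex U ∣ (⁅U, U⁆).relIndex U :=
    Subgroup.relIndex_dvd_of_le_left U h4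
  have h7 : (coreC U H H₀).relIndex U ≤ (⁅U, U⁆).relIndex U := by
    apply Nat.le_of_dvd _ h6
    rw [Subgroup.relIndex]
    exact Nat.pos_of_ne_zero Subgroup.index_ne_zero_of_finite
  exact Nat.mul_le_mul h5 h7

/-- **Peterfalvi (9.11)**, non-Galois case, when `S(H₀C')` has a member of intermediate degree. -/
theorem core_coherent_axis_mid (c : Ctx K H U W₁ W₂ H₀ p q) {H₁ : Subgroup L}
    (hA : IsAxis H U W₁ H₀ H₁ p)
    (hmid : ∃ φ ∈ Sbook K H (H₀ ⊔ ⁅coreC U H H₀, coreC U H H₀⁆),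
      φ 1 ≠ ((q * (coreC U H₁ H₀).relIndex U : ℕ) : ℂ) ∧
        φ 1 ≠ ((q * (coreC U H H₀).relIndex U : ℕ) : ℂ))
    {G : Type v} [Group G] [Fintype G] (τ : (L → ℂ) → (G → ℂ)) (R : (L → ℂ) → Finset (G → ℂ))
    (hS : IsCoherenceSystem (Sbook K H (H₀ ⊔ ⁅coreC U H H₀, coreC U H H₀⁆)) τ R) :
    IsCoherent (Sbook K H (H₀ ⊔ ⁅coreC U H H₀, coreC U H H₀⁆)) {1}ᶜ τ := by
  set C := coreC U H H₀ with hC
  set a := (coreC U H₁ H₀).relIndex U with ha
  set uu := C.relIndex U with hu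
  set N' := {φ : L → ℂ | φ ∈ Sbook K H (H₀ ⊔ ⁅U, U⁆) ∧ IsIrrCharacter L φ ∧
        φ 1 = ((q * a : ℕ) : ℂ)}.ncard with hN'
  have hfin := Cfsg.Agent.Lib.Helper59.PF9.Sbook_finite (K := K) (H := H) (H₀ ⊔ ⁅C, C⁆)
  have hCU : C ≤ U := coreC_le U H H₀
  have hsub : Sbook K H (H₀ ⊔ ⁅U, U⁆) ⊆ Sbook K H (H₀ ⊔ ⁅C, C⁆) := by
    apply Sbook_anti'
    exact sup_le_sup_left (Subgroup.commutator_mono hCU hCU) _
  have hapos : 0 < a := by
    rw [ha, Subgroup.relIndex]
    exact Nat.pos_of_ne_zero Subgroup.index_ne_zero_of_finite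
  have hqpos : 0 < q := c.q_prime.pos
  have hcount : (p - 1) * (⁅U, U⁆).relIndex U ≤ a ^ 2 * N' := axis_count_small c hA
  have hweak := axis_weak_slack c hA
  have hp1 : 0 < p - 1 := Nat.sub_pos_of_lt c.p_prime.one_lt
  have hDpos : 0 < (⁅U, U⁆).relIndex U := by
    rw [Subgroup.relIndex]
    exact Nat.pos_of_ne_zero Subgroup.index_ne_zero_of_finite
  have hN'pos : 0 < N' := by
    rcases Nat.eq_zero_or_pos N' with h | h
    · rw [h, mul_zero] at hcount
      have := Nat.mul_pos hp1 hDpos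
      omega
    · exact h
  -- degrees of the members
  have hdeg : ∀ φ ∈ Sbook K H (H₀ ⊔ ⁅C, C⁆), ∃ k : ℕ, φ 1 = ((q * a * k : ℕ) : ℂ) ∧
      q * a * k ≤ q * uu ∧ 0 < k := by
    rintro φ ⟨θ, hθ, rfl⟩
    obtain ⟨k, hk⟩ := axis_degree_dvd c hA (Xset_anti _ _ le_sup_left hθ)
    obtain ⟨d, hd1, hd2⟩ := core_degree_le c hθ
    have hak : a * k = d := by
      have := hk.symm.trans hd1
      exact_mod_cast this
    refine ⟨k, ?_, ?_, ?_⟩
    · rw [indFun_one_of_ctx c, hk]; push_cast; ring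
    · calc q * a * k = q * (a * k) := by ring
        _ = q * d := by rw [hak]
        _ ≤ q * uu := Nat.mul_le_mul_left _ hd2
    · rcases Nat.eq_zero_or_pos k with h0 | h0
      · exfalso
        rw [h0, mul_zero, Nat.cast_zero] at hk
        exact Cfsg.Agent.Lib.Helper78.IsIrrCharacter.apply_one_ne_zero hθ.1 hk
      · exact h0
  refine coherent_of_small_degree_mid hfin hS (q * a) (q * uu) N' (Nat.mul_pos hqpos hapos) hN'pos
    (fun φ hφ => by
      obtain ⟨k, h1, h2, -⟩ := hdeg φ hφ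
      exact ⟨k, h1, h2⟩) ?_ ?_ ?_ ?_
  · -- norms
    rintro φ ⟨θ, hθ, rfl⟩
    obtain ⟨h1, h2⟩ := Cfsg.Agent.Lib.Helper59.PF9.irr_iff_not_W1Inv c _ hθ
    by_cases hinv : IsW1Inv K W₁ c.K_normal θ
    · exact ⟨q, hqpos, h2 hinv⟩
    · refine ⟨1, Nat.one_pos, ?_⟩
      rw [Cfsg.Agent.Lib.Helper78.classInner_irr_self (h1.mpr hinv)]; simp
  · -- count
    apply Set.ncard_le_ncard _ (hfin.subset (fun φ hφ => hφ.1))
    rintro φ ⟨h1, h2, h3⟩
    exact ⟨hsub h1, h2, h3⟩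
  · -- weak inequality
    have h1 : 2 * a * uu ≤ a ^ 2 * N' := le_trans hweak hcount
    calc 2 * (q * uu) * (q * a) = 2 * a * uu * (q ^ 2 * 1) := by ring
      _ ≤ a ^ 2 * N' * (q ^ 2 * 1) := Nat.mul_le_mul_right _ h1
      _ = N' * (q * a) ^ 2 := by ring
  · -- the intermediate member
    obtain ⟨φ, hφ, hne1, hne2⟩ := hmid
    obtain ⟨k, h1, h2, h3⟩ := hdeg φ hφ
    refine ⟨φ, hφ, k, h1, ?_, ?_⟩
    · have hk1 : k ≠ 1 := by
        rintro rfl
        apply hne1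
        rw [h1, mul_one]
      have hk2 : 2 ≤ k := by omega
      have hqa : 0 < q * a := Nat.mul_pos hqpos hapos
      nlinarith
    · rcases Nat.lt_or_ge (q * a * k) (q * uu) with h | h
      · exact h
      · exfalso
        apply hne2
        rw [h1]
        congr 1
        omega

end Cfsg.Agent.Lib.Helper58.PF9
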