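import Mathlib

set_option autoImplicit false

namespace Cfsg.Agent.Lib.Helper58

open Module

section general
variable {K : Type*} [Field K] {V : Type*} [AddCommGroup V] [Module K V]

/-- Two linearly independent families (same index type) are related by a linear automorphism. -/
theorem exists_linearEquiv_map_family [FiniteDimensional K V] {ι : Type*} (u w : ι → V)
    (hu : LinearIndependent K u) (hw : LinearIndependent K w) :
    ∃ g : V ≃ₗ[K] V, ∀ i, g (u i) = w i := by
  let bu := Basis.span hu
  let bw := Basis.span hw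
  let f : Submodule.span K (Set.range u) ≃ₗ[K] Submodule.span K (Set.range w) :=
    bu.equiv bw (Equiv.refl ι)
  obtain ⟨g, hg⟩ := Submodule.exists_linearEquiv_restrict_eq f
  refine ⟨g, fun i => ?_⟩
  have h1 := hg (bu i)
  have h2 : f (bu i) = bw i := by simp [f, Basis.equiv_apply]
  rw [h2] at h1
  have h3 : ((bu i : Submodule.span K (Set.range u)) : V) = u i := Basis.coe_span_apply hu i
  have h4 : ((bw i : Submodule.span K (Set.range w)) : V) = w i := Basis.coe_span_apply hw i
  rw [h3, h4] at h1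
  exact h1.symm

/-- A single nonzero vector can be moved to any nonzero vector. -/
theorem exists_linearEquiv_map_vector [FiniteDimensional K V] (u w : V) (hu : u ≠ 0) (hw : w ≠ 0) :
    ∃ g : V ≃ₗ[K] V, g u = w := by
  obtain ⟨g, hg⟩ := exists_linearEquiv_map_family (K := K) (fun _ : Unit => u) (fun _ : Unit => w)
    (by rw [linearIndependent_unique_iff]; exact hu)
    (by rw [linearIndependent_unique_iff]; exact hw)
  exact ⟨g, hg ()⟩

/-- Adjusting an automorphism off a proper subspace to have determinant one. -/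
theorem exists_linearEquiv_det_one_eqOn [FiniteDimensional K V] (W : Submodule K V) (hW : W < ⊤)
    (A : V ≃ₗ[K] V) :
    ∃ A' : V ≃ₗ[K] V, LinearMap.det (A' : V →ₗ[K] V) = 1 ∧ ∀ x ∈ W, A' x = A x := by
  obtain ⟨f, hf0, hfW⟩ := Submodule.exists_dual_map_eq_bot_of_lt_top hW inferInstance
  have hfW' : ∀ x ∈ W, f x = 0 := by
    intro x hx
    have : f x ∈ W.map f := Submodule.mem_map_of_mem hx
    rw [hfW] at this
    simpa using this
  obtain ⟨e, he⟩ : ∃ e : V, f e ≠ 0 := by
    by_contra hcon
    push Not at hcon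
    exact hf0 (LinearMap.ext hcon)
  set δ : K := (LinearMap.det (A : V →ₗ[K] V))⁻¹ with hδ
  have hdetA : LinearMap.det (A : V →ₗ[K] V) ≠ 0 := by
    have := LinearEquiv.isUnit_det' A
    exact this.ne_zero
  have hδ0 : δ ≠ 0 := inv_ne_zero hdetA
  set e' : V := ((δ - 1) * (f e)⁻¹) • e with he'
  have hfe' : f e' = δ - 1 := by
    rw [he', map_smul, smul_eq_mul, mul_assoc, inv_mul_cancel₀ he, mul_one]
  set D : V →ₗ[K] V := LinearMap.transvection f e' with hD
  have hdetD : LinearMap.det D = δ := by
    rw [hD, LinearMap.transvection.det, hfe']; ring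
  set B : V →ₗ[K] V := (A : V →ₗ[K] V) ∘ₗ D with hB
  have hdetB : LinearMap.det B = 1 := by
    rw [hB, LinearMap.det_comp, hdetD, hδ, mul_inv_cancel₀ hdetA]
  have hunit : IsUnit (LinearMap.det B) := by rw [hdetB]; exact isUnit_one
  refine ⟨LinearMap.equivOfIsUnitDet hunit, ?_, ?_⟩
  · rw [LinearMap.coe_equivOfIsUnitDet, hdetB]
  · intro x hx
    rw [LinearMap.equivOfIsUnitDet_apply, hB, LinearMap.comp_apply, hD, LinearMap.transvection.apply, hfW' x hx, zero_smul,
      add_zero]
    rfl

/-- A map preserving affine combinations of two points is linear up to translation,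
when `2` is invertible. -/
theorem exists_linearMap_of_affine_comb (h2 : (2 : K) ≠ 0) (σ : V → V)
    (hσ : ∀ (x y : V) (c : K), σ (c • x + (1 - c) • y) = c • σ x + (1 - c) • σ y) :
    ∃ τ : V →ₗ[K] V, ∀ x, σ x = τ x + σ 0 := by
  have hsmul : ∀ (c : K) (x : V), σ (c • x) - σ 0 = c • (σ x - σ 0) := by
    intro c x
    have := hσ x 0 c
    rw [smul_zero, add_zero] at this
    rw [this, smul_sub, sub_smul, one_smul]
    abel
  have hadd : ∀ x y : V, σ (x + y) - σ 0 = (σ x - σ 0) + (σ y - σ 0) := by
    intro x y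
    have h1 := hσ x y (2⁻¹ : K)
    have h12 : (1 : K) - 2⁻¹ = 2⁻¹ := by
      field_simp; norm_num
    rw [h12] at h1
    have h3 := hsmul (2⁻¹ : K) (x + y)
    rw [smul_add, h1] at h3
    have h4 : σ (x + y) - σ 0 = (2 : K) • ((2⁻¹ : K) • (σ (x + y) - σ 0)) := by
      rw [smul_smul, mul_inv_cancel₀ h2, one_smul]
    rw [h4, ← h3]
    have h5 : (2 : K) • ((2⁻¹ : K) • σ x + (2⁻¹ : K) • σ y - σ 0) =
        (2 : K) • ((2⁻¹ : K) • σ x) + (2 : K) • ((2⁻¹ : K) • σ y) - (2 : K) • σ 0 := by
      rw [smul_sub, smul_add]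
    rw [h5, smul_smul, smul_smul, mul_inv_cancel₀ h2, one_smul, one_smul, two_smul]
    abel
  refine ⟨{ toFun := fun x => σ x - σ 0, map_add' := hadd, map_smul' := ?_ }, ?_⟩
  · intro c x
    simpa using hsmul c x
  · intro x
    simp

/-- A bijection preserving affine combinations of two points is an affine automorphism. -/
theorem exists_linearEquiv_of_affine_comb (h2 : (2 : K) ≠ 0) (σ : Equiv.Perm V)
    (hσ : ∀ (x y : V) (c : K), σ (c • x + (1 - c) • y) = c • σ x + (1 - c) • σ y) :
    ∃ (A : V ≃ₗ[K] V) (b : V), ∀ x, σ x = A x + b := by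
  obtain ⟨τ, hτ⟩ := exists_linearMap_of_affine_comb h2 σ hσ
  have hinj : Function.Injective τ := by
    intro x y hxy
    apply σ.injective
    rw [hτ x, hτ y, hxy]
  have hsurj : Function.Surjective τ := by
    intro y
    obtain ⟨x, hx⟩ := σ.surjective (y + σ 0)
    refine ⟨x, ?_⟩
    have := hτ x
    rw [hx] at this
    exact (add_right_cancel this).symm
  have hbij : Function.Bijective τ := ⟨hinj, hsurj⟩
  refine ⟨LinearEquiv.ofBijective τ hbij, σ 0, fun x => ?_⟩
  rw [LinearEquiv.ofBijective_apply]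
  exact hτ x

end general

end Cfsg.Agent.Lib.Helper58
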