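import Mathlib
import Cfsg.Prelude.Def_CaseTheorems
import Cfsg.Agent.S0105

/-!
# 2-automorphisms centralizing an abelian Sylow 2-subgroup are inner (from the Z*-theorem)

Let `G` be a finite group with `O(G) = 1` and an abelian Sylow 2-subgroup `P`, and let `α` be an
automorphism of 2-power order fixing `P` elementwise.  In `H = G ⋊ ⟨α⟩` the subgroup
`S = P × ⟨α⟩` is an abelian Sylow 2-subgroup; the norm `c` of `α` with respect to `N_H(S)/S` is
central in `N_H(S)`, hence isolated in `S` by Burnside's fusion theorem, hence central in `H` by the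
Z*-theorem for 2-elements (`O(H) = 1`).  Reading off the components of `c = (g, α ^ m)`, `m` odd,
shows that `α ^ m`, hence `α`, is inner.

The Z*-theorem for 2-elements is an explicit hypothesis `ZStarElemHyp`.
-/

set_option autoImplicit false
set_option linter.style.haveILetI false

namespace Cfsg.Agent.Lib.Helper58.AutInner

open Cfsg

open scoped IsMulCommutative

universe u

/-- The Z*-theorem for 2-elements, for groups in universe `u`. -/
def ZStarElemHyp : Prop :=
  ∀ (Γ : Type u) [Group Γ] [Finite Γ] (P : Sylow 2 Γ) (x : Γ), x ∈ P →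
    (∀ g : Γ, g * x * g⁻¹ ∈ P → g * x * g⁻¹ = x) →
    ∀ g : Γ, x * g * x⁻¹ * g⁻¹ ∈ Cfsg.oddCore Γ

/-- With an abelian Sylow 2-subgroup `S` and `O(H) = 1`, the elements of `S` central in `N_H(S)` are
central in `H`. -/
theorem central_of_central_in_normalizer (hZ : ZStarElemHyp.{u}) {H : Type u} [Group H] [Finite H]
    (S : Sylow 2 H) (hS : IsMulCommutative (S : Subgroup H)) (hO : Cfsg.pPrimeCore 2 H = ⊥)
    (c : H) (hcS : c ∈ S)
    (hcN : ∀ n ∈ Subgroup.normalizer ((S : Subgroup H) : Set H), n * c = c * n) (h : H) :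
    h * c = c * h := by
  haveI : Fact (Nat.Prime 2) := ⟨Nat.prime_two⟩
  haveI := hS
  have hiso : ∀ g : H, g * c * g⁻¹ ∈ S → g * c * g⁻¹ = c := by
    intro g hg
    have hg' : (g⁻¹)⁻¹ * c * g⁻¹ ∈ S := by simpa using hg
    obtain ⟨n, hn, hn2⟩ := S.conj_eq_normalizer_conj_of_mem c g⁻¹ hcS hg'
    have h1 : g * c * g⁻¹ = n⁻¹ * c * n := by simpa using hn2
    rw [h1]
    have := hcN n hn
    calc n⁻¹ * c * n = n⁻¹ * (c * n) := by group
      _ = n⁻¹ * (n * c) := by rw [this]
      _ = c := by group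
  have h1 := hZ H S c hcS hiso h
  have h2 : Cfsg.oddCore H = ⊥ := hO
  rw [h2, Subgroup.mem_bot] at h1
  calc h * c = (c * h * c⁻¹ * h⁻¹)⁻¹ * (c * h) := by group
    _ = c * h := by rw [h1]; group

section semidirect

variable {G : Type u} [Group G] (α : MulAut G)

/-- The semidirect product `G ⋊ ⟨α⟩`. -/
abbrev Hol : Type u := G ⋊[(Subgroup.zpowers α).subtype] ↥(Subgroup.zpowers α)

theorem zpowers_fix (P : Subgroup G) (hfix : ∀ x ∈ P, α x = x) (a : ↥(Subgroup.zpowers α))
    (x : G) (hx : x ∈ P) : (a : MulAut G) x = x := by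
  have h1 : Subgroup.zpowers α ≤ MulAction.stabilizer (MulAut G) x := by
    rw [Subgroup.zpowers_le, MulAction.mem_stabilizer_iff, MulAut.smul_def]
    exact hfix x hx
  have h2 := h1 a.2
  rwa [MulAction.mem_stabilizer_iff, MulAut.smul_def] at h2

/-- The subgroup `P × ⟨α⟩` of `G ⋊ ⟨α⟩`. -/
def bigS (P : Subgroup G) (hfix : ∀ x ∈ P, α x = x) : Subgroup (Hol α) where
  carrier := {x | x.left ∈ P}
  mul_mem' := by
    intro x y hx hy
    show (x * y).left ∈ P
    rw [SemidirectProduct.mul_left]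
    have : ((Subgroup.zpowers α).subtype x.right) y.left = y.left :=
      zpowers_fix α P hfix x.right y.left hy
    rw [this]
    exact P.mul_mem hx hy
  one_mem' := P.one_mem
  inv_mem' := by
    intro x hx
    show (x⁻¹).left ∈ P
    rw [SemidirectProduct.inv_left]
    have : ((Subgroup.zpowers α).subtype x.right⁻¹) x.left⁻¹ = x.left⁻¹ :=
      zpowers_fix α P hfix x.right⁻¹ x.left⁻¹ (P.inv_mem hx)
    rw [this]
    exact P.inv_mem hx

theorem mem_bigS (P : Subgroup G) (hfix : ∀ x ∈ P, α x = x) (x : Hol α) :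
    x ∈ bigS α P hfix ↔ x.left ∈ P := Iff.rfl

theorem bigS_comm (P : Subgroup G) (hfix : ∀ x ∈ P, α x = x)
    (hab : ∀ x ∈ P, ∀ y ∈ P, x * y = y * x) : IsMulCommutative (bigS α P hfix) := by
  refine ⟨⟨fun x y => ?_⟩⟩
  apply Subtype.ext
  show (x : Hol α) * (y : Hol α) = (y : Hol α) * (x : Hol α)
  have hx : (x : Hol α).left ∈ P := x.2
  have hy : (y : Hol α).left ∈ P := y.2
  refine SemidirectProduct.ext ?_ ?_
  · rw [SemidirectProduct.mul_left, SemidirectProduct.mul_left]
    have h1 : ((Subgroup.zpowers α).subtype (x : Hol α).right) (y : Hol α).left = (y : Hol α).left :=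
      zpowers_fix α P hfix _ _ hy
    have h2 : ((Subgroup.zpowers α).subtype (y : Hol α).right) (x : Hol α).left = (x : Hol α).left :=
      zpowers_fix α P hfix _ _ hx
    rw [h1, h2]
    exact hab _ hx _ hy
  · rw [SemidirectProduct.mul_right, SemidirectProduct.mul_right]
    exact (inferInstance : IsMulCommutative ↥(Subgroup.zpowers α)).is_comm.comm _ _

/-- `P × ⟨α⟩` is in bijection with the product. -/
def bigSEquiv (P : Subgroup G) (hfix : ∀ x ∈ P, α x = x) :
    ↥(bigS α P hfix) ≃ ↥P × ↥(Subgroup.zpowers α) where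
  toFun x := (⟨(x : Hol α).left, x.2⟩, (x : Hol α).right)
  invFun y := ⟨⟨(y.1 : G), y.2⟩, y.1.2⟩
  left_inv x := by
    apply Subtype.ext
    rfl
  right_inv y := by
    rfl

theorem card_bigS (P : Subgroup G) (hfix : ∀ x ∈ P, α x = x) :
    Nat.card ↥(bigS α P hfix) = Nat.card ↥P * Nat.card ↥(Subgroup.zpowers α) := by
  rw [Nat.card_congr (bigSEquiv α P hfix), Nat.card_prod]

theorem pPrimeCore_hol [Finite G] (hcore : Cfsg.pPrimeCore 2 G = ⊥)
    (hA : ∃ j : ℕ, Nat.card ↥(Subgroup.zpowers α) = 2 ^ j) :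
    Cfsg.pPrimeCore 2 (Hol α) = ⊥ := by
  unfold Cfsg.pPrimeCore
  rw [sSup_eq_bot]
  rintro N ⟨hN, hNc⟩
  haveI := hN
  obtain ⟨j, hj⟩ := hA
  -- (a) `N` lies in the kernel of the projection
  have ha : ∀ x ∈ N, (x : Hol α).right = 1 := by
    intro x hx
    have h1 : orderOf x ∣ Nat.card N := Subgroup.orderOf_dvd_natCard N hx
    have h2 : orderOf ((SemidirectProduct.rightHom : Hol α →* _) x) ∣ orderOf x :=
      orderOf_map_dvd _ x
    have h3 : orderOf ((SemidirectProduct.rightHom : Hol α →* _) x) ∣ 2 ^ j := by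
      rw [← hj]; exact _root_.orderOf_dvd_natCard _
    have h4 : orderOf ((SemidirectProduct.rightHom : Hol α →* _) x) ∣
        Nat.gcd (Nat.card N) (2 ^ j) := Nat.dvd_gcd (h2.trans h1) h3
    have h5 : Nat.gcd (Nat.card N) (2 ^ j) = 1 := Nat.Coprime.pow_right j hNc
    rw [h5, Nat.dvd_one, orderOf_eq_one_iff] at h4
    exact h4
  -- (b) the part in `G`
  have hb : N.comap (SemidirectProduct.inl : G →* Hol α) ≤ Cfsg.pPrimeCore 2 G := by
    apply le_sSup
    refine ⟨inferInstance, ?_⟩
    have hdvd : Nat.card (N.comap (SemidirectProduct.inl : G →* Hol α)) ∣ Nat.card N := by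
      let f : ↥(N.comap (SemidirectProduct.inl : G →* Hol α)) →* ↥N :=
        ((SemidirectProduct.inl : G →* Hol α).comp (Subgroup.subtype _)).codRestrict N
          (fun x => x.2)
      apply Subgroup.card_dvd_of_injective f
      intro a b hab
      have := congrArg Subtype.val hab
      exact Subtype.ext (SemidirectProduct.inl_injective this)
    exact Nat.Coprime.coprime_dvd_left hdvd hNc
  rw [hcore] at hb
  rw [Subgroup.eq_bot_iff_forall]
  intro x hx
  have h1 := ha x hx
  have h2 : x = SemidirectProduct.inl x.left := by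
    refine SemidirectProduct.ext ?_ ?_
    · simp
    · simp [h1]
  have h3 : x.left ∈ N.comap (SemidirectProduct.inl : G →* Hol α) := by
    rw [Subgroup.mem_comap, ← h2]; exact hx
  have h4 := hb h3
  rw [Subgroup.mem_bot] at h4
  rw [h2, h4, map_one]

end semidirect

/-- **Main theorem** (from the Z*-theorem for 2-elements).  If `O(G) = 1`, the Sylow 2-subgroup `P`
is abelian and `α` is an automorphism of 2-power order fixing `P` elementwise, then `α` is
inner. -/
theorem aut_inner (hZ : ZStarElemHyp.{u}) {G : Type u} [Group G] [Finite G]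
    (hcore : Cfsg.pPrimeCore 2 G = ⊥) (P : Sylow 2 G)
    (hab : IsMulCommutative (P : Subgroup G)) (α : MulAut G) (h2 : ∃ j : ℕ, orderOf α = 2 ^ j)
    (hfix : ∀ x ∈ (P : Subgroup G), α x = x) : ∃ g : G, ∀ x : G, α x = g * x * g⁻¹ := by
  classical
  haveI : Fact (Nat.Prime 2) := ⟨Nat.prime_two⟩
  obtain ⟨j, hj⟩ := h2
  have hAcard : Nat.card ↥(Subgroup.zpowers α) = 2 ^ j := by rw [Nat.card_zpowers, hj]
  haveI : Finite ↥(Subgroup.zpowers α) :=
    Nat.finite_of_card_ne_zero (by rw [hAcard]; positivity)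
  haveI : Finite (Hol α) := Finite.of_equiv _ SemidirectProduct.equivProd.symm
  set S0 : Subgroup (Hol α) := bigS α (P : Subgroup G) hfix with hS0
  obtain ⟨k, hk⟩ := P.isPGroup'.exists_card_eq
  have hS0card : Nat.card S0 = 2 ^ (k + j) := by
    rw [hS0, card_bigS, hk, hAcard, pow_add]
  have hS0p : IsPGroup 2 S0 := IsPGroup.of_card hS0card
  have hidx : S0.index = (P : Subgroup G).index := by
    have h1 : Nat.card S0 * S0.index = Nat.card (Hol α) := Subgroup.card_mul_index S0
    have h3 : Nat.card (P : Subgroup G) * (P : Subgroup G).index = Nat.card G :=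
      Subgroup.card_mul_index _
    rw [SemidirectProduct.card, ← h3, hS0card, hk, hAcard] at h1
    have : 2 ^ (k + j) * S0.index = 2 ^ (k + j) * (P : Subgroup G).index := by
      rw [h1, pow_add]; ring
    exact Nat.eq_of_mul_eq_mul_left (by positivity) this
  have hnd : ¬ 2 ∣ S0.index := by rw [hidx]; exact P.not_dvd_index
  have hScoe : ((hS0p.toSylow hnd : Sylow 2 (Hol α)) : Subgroup (Hol α)) = S0 :=
    IsPGroup.toSylow_coe hS0p hnd
  haveI hS0comm : IsMulCommutative S0 :=
    bigS_comm α _ hfix (fun x hx y hy =>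
      congrArg Subtype.val (hab.is_comm.comm ⟨x, hx⟩ ⟨y, hy⟩))
  haveI : Fintype (↥(Subgroup.normalizer (S0 : Set (Hol α))) ⧸
      S0.subgroupOf (Subgroup.normalizer (S0 : Set (Hol α)))) := Fintype.ofFinite _
  set a0 : Hol α := SemidirectProduct.inr ⟨α, Subgroup.mem_zpowers α⟩ with ha0
  have ha0S : a0 ∈ S0 := by
    show a0.left ∈ (P : Subgroup G)
    rw [ha0, SemidirectProduct.left_inr]
    exact Subgroup.one_mem _
  set c : ↥S0 := Cfsg.Agent.S0105.normMap S0 ⟨a0, ha0S⟩ with hc
  set m : ℕ := Fintype.card (↥(Subgroup.normalizer (S0 : Set (Hol α))) ⧸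
      S0.subgroupOf (Subgroup.normalizer (S0 : Set (Hol α)))) with hm
  -- `m` is odd
  have hmodd : Nat.Coprime m 2 := by
    have h2 : m ∣ S0.index := by
      rw [hm, ← Nat.card_eq_fintype_card, ← Subgroup.index_eq_card]
      exact Subgroup.relIndex_dvd_index_of_le Subgroup.le_normalizer
    have h3 : Nat.Coprime S0.index 2 := by
      rw [Nat.coprime_comm, Nat.Prime.coprime_iff_not_dvd Nat.prime_two]; exact hnd
    exact Nat.Coprime.coprime_dvd_left h2 h3
  -- `c` is central in the normalizer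
  have hcN : ∀ n ∈ Subgroup.normalizer (S0 : Set (Hol α)), n * (c : Hol α) = (c : Hol α) * n := by
    intro n hn
    have h1 := Cfsg.Agent.S0105.normMap_invariant S0 ⟨n, hn⟩ ⟨a0, ha0S⟩
    have h2 : n * (c : Hol α) * n⁻¹ = (c : Hol α) := congrArg Subtype.val h1
    calc n * (c : Hol α) = (n * (c : Hol α) * n⁻¹) * n := by group
      _ = (c : Hol α) * n := by rw [h2]
  -- the right component of `c`
  have hright : (c : Hol α).right = (⟨α, Subgroup.mem_zpowers α⟩ : ↥(Subgroup.zpowers α)) ^ m := by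
    let ρ : ↥S0 →* ↥(Subgroup.zpowers α) :=
      (SemidirectProduct.rightHom : Hol α →* _).comp S0.subtype
    have h1 : ρ c = ∏ q : (↥(Subgroup.normalizer (S0 : Set (Hol α))) ⧸
        S0.subgroupOf (Subgroup.normalizer (S0 : Set (Hol α)))),
        ρ (Cfsg.Agent.S0105.quotAction S0 q ⟨a0, ha0S⟩) := by
      rw [hc, Cfsg.Agent.S0105.normMap_apply, map_prod]
    have h2 : ∀ q : (↥(Subgroup.normalizer (S0 : Set (Hol α))) ⧸
        S0.subgroupOf (Subgroup.normalizer (S0 : Set (Hol α)))),
        ρ (Cfsg.Agent.S0105.quotAction S0 q ⟨a0, ha0S⟩) =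
          (⟨α, Subgroup.mem_zpowers α⟩ : ↥(Subgroup.zpowers α)) := by
      intro q
      induction q using QuotientGroup.induction_on with
      | H n =>
        rw [Cfsg.Agent.S0105.quotAction_mk]
        show ((n : Hol α) * a0 * (n : Hol α)⁻¹).right = _
        rw [SemidirectProduct.mul_right, SemidirectProduct.mul_right, SemidirectProduct.inv_right,
          ha0, SemidirectProduct.right_inr]
        have := (inferInstance : IsMulCommutative ↥(Subgroup.zpowers α)).is_comm.comm
          (n : Hol α).right (⟨α, Subgroup.mem_zpowers α⟩ : ↥(Subgroup.zpowers α))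
        rw [this, mul_inv_cancel_right]
    have h3 : ρ c = (c : Hol α).right := rfl
    rw [← h3, h1]
    simp_rw [h2]
    rw [Finset.prod_const, Finset.card_univ]
  -- `c` is central
  have hcen : ∀ h : Hol α, h * (c : Hol α) = (c : Hol α) * h := by
    intro h
    refine central_of_central_in_normalizer hZ (hS0p.toSylow hnd) ?_
      (pPrimeCore_hol α hcore ⟨j, hAcard⟩) (c : Hol α) ?_ ?_ h
    · rw [hScoe]; exact hS0comm
    · show (c : Hol α) ∈ ((hS0p.toSylow hnd : Sylow 2 (Hol α)) : Subgroup (Hol α))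
      rw [hScoe]; exact c.2
    · rw [hScoe]; exact hcN
  -- reading off components
  set g : G := (c : Hol α).left with hg
  have hpow : ∀ x : G, (α ^ m) x = g⁻¹ * x * g := by
    intro x
    have h1 := hcen (SemidirectProduct.inl x)
    have h2 := congrArg SemidirectProduct.left h1
    rw [SemidirectProduct.mul_left, SemidirectProduct.mul_left, SemidirectProduct.left_inl,
      SemidirectProduct.right_inl, map_one, MulAut.one_apply, hright] at h2
    have h3 : ((Subgroup.zpowers α).subtype
        ((⟨α, Subgroup.mem_zpowers α⟩ : ↥(Subgroup.zpowers α)) ^ m)) = α ^ m := by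
      rw [map_pow]; rfl
    rw [h3] at h2
    -- h2 : x * g = g * (α ^ m) x
    calc (α ^ m) x = g⁻¹ * (g * (α ^ m) x) := by group
      _ = g⁻¹ * (x * g) := by rw [← h2]
      _ = g⁻¹ * x * g := by group
  have hpow' : α ^ m = MulAut.conj g⁻¹ := by
    ext x
    rw [hpow x, MulAut.conj_apply, inv_inv]
  -- `α` is a power of `α ^ m`
  have hcop : Nat.Coprime (orderOf α) m := by
    rw [hj]; exact (Nat.Coprime.pow_right j hmodd).symm
  have hmem : α ∈ Subgroup.zpowers (α ^ m) := by
    have h1 : Subgroup.zpowers (α ^ m) ≤ Subgroup.zpowers α := by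
      rw [Subgroup.zpowers_le]; exact Subgroup.pow_mem _ (Subgroup.mem_zpowers α) m
    have h2 : Nat.card (Subgroup.zpowers α) ≤ Nat.card (Subgroup.zpowers (α ^ m)) := by
      rw [Nat.card_zpowers, Nat.card_zpowers, Nat.Coprime.orderOf_pow hcop]
    have h3 := Subgroup.eq_of_le_of_card_ge h1 h2
    rw [h3]; exact Subgroup.mem_zpowers α
  obtain ⟨b, hb⟩ := Subgroup.mem_zpowers_iff.mp hmem
  refine ⟨g⁻¹ ^ b, fun x => ?_⟩
  have h1 : α = MulAut.conj (g⁻¹ ^ b) := by
    rw [← hb, hpow', map_zpow]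
  rw [h1, MulAut.conj_apply]

end Cfsg.Agent.Lib.Helper58.AutInner
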