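import Mathlib

set_option autoImplicit false

universe u

namespace Cfsg.Agent.Lib.Helper58

open Module

/-- the automorphism group of a finite field over its prime field is cyclic of order the degree -/
theorem gal_cyclic_card (p : ℕ) [Fact p.Prime] (R : Type*) [CommRing R] [IsDomain R]
    [Algebra (ZMod p) R] [Finite R] :
    IsCyclic (R ≃ₐ[ZMod p] R) ∧ Nat.card (R ≃ₐ[ZMod p] R) = Module.finrank (ZMod p) R := by
  classical
  have : Fintype R := Fintype.ofFinite R
  let iF : Field R := Fintype.fieldOfDomain R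
  constructor
  · exact inferInstanceAs (IsCyclic Gal(R/ZMod p))
  · have h := FiniteField.bijective_frobeniusAlgEquivOfAlgebraic_pow (ZMod p) R
    have h2 := Nat.card_eq_of_bijective _ h
    rw [← h2]
    simp

section core

variable {p : ℕ} [hp : Fact p.Prime] {M : Type u} [AddCommGroup M] [Module (ZMod p) M]
variable (S : Set (Module.End (ZMod p) M))

theorem adjoin_comm (hcomm : ∀ a ∈ S, ∀ b ∈ S, a * b = b * a) {r s : Module.End (ZMod p) M}
    (hr : r ∈ Algebra.adjoin (ZMod p) S) (hs : s ∈ Algebra.adjoin (ZMod p) S) : r * s = s * r := by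
  have h := Algebra.isMulCommutative_adjoin (ZMod p) hcomm
  have h1 := h.is_comm.comm ⟨r, hr⟩ ⟨s, hs⟩
  exact congrArg Subtype.val h1

variable (hcomm : ∀ a ∈ S, ∀ b ∈ S, a * b = b * a)
  (hcyc : ∀ x : M, x ≠ 0 → ∀ y : M, ∃ r ∈ Algebra.adjoin (ZMod p) S, r x = y)

include hcomm hcyc in
theorem eq_zero_of_apply_eq_zero {r : Module.End (ZMod p) M}
    (hr : r ∈ Algebra.adjoin (ZMod p) S) {x : M} (hx : x ≠ 0) (h : r x = 0) : r = 0 := by
  apply LinearMap.ext
  intro y
  obtain ⟨r', hr', rfl⟩ := hcyc x hx y
  have h1 := adjoin_comm S hcomm hr hr'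
  calc r (r' x) = (r * r') x := rfl
    _ = (r' * r) x := by rw [h1]
    _ = r' (r x) := rfl
    _ = 0 := by rw [h, map_zero]

include hcomm hcyc in
theorem adjoin_mul_eq_zero {r s : Module.End (ZMod p) M}
    (hr : r ∈ Algebra.adjoin (ZMod p) S) (h : r * s = 0) : r = 0 ∨ s = 0 := by
  by_cases hs0 : s = 0
  · right
    exact hs0
  · left
    obtain ⟨x, hx⟩ : ∃ x, s x ≠ 0 := by
      by_contra hcon
      push Not at hcon
      exact hs0 (LinearMap.ext hcon)
    refine eq_zero_of_apply_eq_zero S hcomm hcyc hr hx ?_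
    change (r * s) x = 0
    rw [h]
    rfl

/-- conjugation by an invertible endomorphism, on a subalgebra stable under it -/
def conjAlgHom (R : Subalgebra (ZMod p) (Module.End (ZMod p) M)) (u v : Module.End (ZMod p) M)
    (huv : u * v = 1) (hvu : v * u = 1) (hst : ∀ r ∈ R, u * r * v ∈ R) : R →ₐ[ZMod p] R where
  toFun r := ⟨u * r * v, hst r r.2⟩
  map_one' := Subtype.ext (by
    change u * 1 * v = 1
    rw [mul_one, huv])
  map_mul' a b := Subtype.ext (by
    change u * ((a : Module.End (ZMod p) M) * b) * v = (u * a * v) * (u * b * v)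
    calc u * ((a : Module.End (ZMod p) M) * b) * v = u * a * 1 * b * v := by
          rw [mul_one]; simp only [mul_assoc]
      _ = u * a * (v * u) * b * v := by rw [hvu]
      _ = (u * a * v) * (u * b * v) := by simp only [mul_assoc])
  map_zero' := Subtype.ext (by
    change u * 0 * v = 0
    rw [mul_zero, zero_mul])
  map_add' a b := Subtype.ext (by
    change u * ((a : Module.End (ZMod p) M) + b) * v = u * a * v + u * b * v
    rw [mul_add, add_mul])
  commutes' c := Subtype.ext (by
    change u * (algebraMap (ZMod p) (Module.End (ZMod p) M) c) * v =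
      algebraMap (ZMod p) (Module.End (ZMod p) M) c
    rw [← Algebra.commutes c u, mul_assoc, huv, mul_one])

theorem conjAlgHom_apply (R : Subalgebra (ZMod p) (Module.End (ZMod p) M))
    (u v : Module.End (ZMod p) M) (huv : u * v = 1) (hvu : v * u = 1)
    (hst : ∀ r ∈ R, u * r * v ∈ R) (r : R) :
    ((conjAlgHom R u v huv hvu hst r : R) : Module.End (ZMod p) M) = u * r * v := rfl

open scoped IsMulCommutative in
include hcomm hcyc in
/-- the ring-theoretic core of the structure theorem for soluble extremely primitive groups -/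
theorem cyclic_core [Finite M] [Nontrivial M] (d : ℕ) (hM : Nat.card M = p ^ d)
    {Hg : Type*} [Group Hg] [Finite Hg] (Φ : Hg →* Module.End (ZMod p) M) (T : Subgroup Hg)
    [hT : T.Normal] (hS : S = {s | ∃ t ∈ T, Φ t = s}) (hinj : ∀ t ∈ T, Φ t = 1 → t = 1) :
    IsCyclic T ∧ (∀ i : ℕ, 0 < i → (∀ t ∈ T, Φ t ^ (p ^ i) = Φ t) → d ≤ i) ∧
    ∃ (C : Type u) (_ : Group C) (_ : IsCyclic C) (ρ : Hg →* C), Nat.card C = d ∧
      ∀ h : Hg, ρ h = 1 ↔ ∀ t ∈ T, Φ h * Φ t = Φ t * Φ h := by
  classical
  haveI hmc : IsMulCommutative (Algebra.adjoin (ZMod p) S) :=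
    Algebra.isMulCommutative_adjoin (ZMod p) hcomm
  haveI hfinE : Finite (Module.End (ZMod p) M) :=
    Finite.of_injective (fun f : Module.End (ZMod p) M => (f : M → M)) DFunLike.coe_injective
  haveI hfinR : Finite (Algebra.adjoin (ZMod p) S) :=
    Finite.of_injective (fun r : Algebra.adjoin (ZMod p) S => (r : Module.End (ZMod p) M))
      Subtype.val_injective
  haveI hnzd : NoZeroDivisors (Algebra.adjoin (ZMod p) S) := ⟨fun {a b} hab => by
    have h1 := adjoin_mul_eq_zero S hcomm hcyc a.2 (s := (b : Module.End (ZMod p) M))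
      (congrArg Subtype.val hab)
    rcases h1 with h | h
    · left
      exact Subtype.ext h
    · right
      exact Subtype.ext h⟩
  obtain ⟨x₀, hx₀⟩ := exists_ne (0 : M)
  haveI hnt : Nontrivial (Algebra.adjoin (ZMod p) S) := ⟨⟨0, 1, fun h => by
    have h1 : (0 : Module.End (ZMod p) M) = 1 := congrArg Subtype.val h
    have h2 := LinearMap.congr_fun h1 x₀
    rw [LinearMap.zero_apply, Module.End.one_apply] at h2
    exact hx₀ h2.symm⟩⟩
  haveI hdom : IsDomain (Algebra.adjoin (ZMod p) S) := NoZeroDivisors.to_isDomain _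
  -- cardinality
  have hcardR : Nat.card (Algebra.adjoin (ZMod p) S) = p ^ d := by
    rw [← hM]
    apply Nat.card_eq_of_bijective (fun r : Algebra.adjoin (ZMod p) S => (r : Module.End (ZMod p) M) x₀)
    constructor
    · intro r r' h
      have h1 : ((r : Module.End (ZMod p) M) - r') x₀ = 0 := by
        rw [LinearMap.sub_apply]
        exact sub_eq_zero.mpr h
      have h2 := eq_zero_of_apply_eq_zero S hcomm hcyc (Subalgebra.sub_mem _ r.2 r'.2) hx₀ h1
      exact Subtype.ext (sub_eq_zero.mp h2)
    · intro y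
      obtain ⟨r, hr, hry⟩ := hcyc x₀ hx₀ y
      exact ⟨⟨r, hr⟩, hry⟩
  have hmemS : ∀ t : Hg, t ∈ T → Φ t ∈ Algebra.adjoin (ZMod p) S := fun t ht =>
    Algebra.subset_adjoin (by rw [hS]; exact ⟨t, ht, rfl⟩)
  refine ⟨?_, ?_, ?_⟩
  · -- cyclic
    let f : T →* Algebra.adjoin (ZMod p) S :=
      { toFun := fun t => ⟨Φ t, hmemS t t.2⟩
        map_one' := Subtype.ext (by simp)
        map_mul' := fun a b => Subtype.ext (by simp) }
    have hf : Function.Injective f := by
      intro a b hab
      have h1 : Φ (a : Hg) = Φ (b : Hg) := congrArg Subtype.val hab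
      have h2 : Φ ((a : Hg) * (b : Hg)⁻¹) = 1 := by
        rw [map_mul, h1, ← map_mul, mul_inv_cancel, map_one]
      have h3 := hinj _ (T.mul_mem a.2 (T.inv_mem b.2)) h2
      exact Subtype.ext (mul_inv_eq_one.mp h3)
    exact isCyclic_of_injective_ringHom f hf
  · -- the Frobenius argument
    intro i hi hfix
    have hchar : CharP (Module.End (ZMod p) M) p :=
      charP_of_injective_algebraMap (algebraMap (ZMod p) (Module.End (ZMod p) M)).injective p
    have hall : ∀ r ∈ Algebra.adjoin (ZMod p) S, r ^ (p ^ i) = r := by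
      intro r hr
      induction hr using Algebra.adjoin_induction with
      | mem x hx =>
        rw [hS] at hx
        obtain ⟨t, ht, rfl⟩ := hx
        exact hfix t ht
      | algebraMap c =>
        rw [← map_pow, ZMod.pow_card_pow]
      | add x y hx hy ihx ihy =>
        rw [add_pow_char_pow_of_commute p i (adjoin_comm S hcomm hx hy), ihx, ihy]
      | mul x y hx hy ihx ihy =>
        rw [(show Commute x y from adjoin_comm S hcomm hx hy).mul_pow, ihx, ihy]
    have hall' : ∀ r : Algebra.adjoin (ZMod p) S, r ^ (p ^ i) = r := fun r =>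
      Subtype.ext (hall r r.2)
    haveI : Fintype (Algebra.adjoin (ZMod p) S) := Fintype.ofFinite _
    have hp1 : 1 < p := hp.out.one_lt
    have h2 : 1 < p ^ i := Nat.one_lt_pow (Nat.pos_iff_ne_zero.mp hi) hp1
    have hdeg : (Polynomial.X ^ p ^ i - Polynomial.X :
        Polynomial (Algebra.adjoin (ZMod p) S)).natDegree = p ^ i := by
      rw [Polynomial.natDegree_sub_eq_left_of_natDegree_lt]
      · exact Polynomial.natDegree_X_pow _
      · rw [Polynomial.natDegree_X, Polynomial.natDegree_X_pow]
        exact h2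
    have hne : (Polynomial.X ^ p ^ i - Polynomial.X :
        Polynomial (Algebra.adjoin (ZMod p) S)) ≠ 0 := by
      intro h0
      rw [h0, Polynomial.natDegree_zero] at hdeg
      omega
    have hle := Polynomial.card_le_degree_of_subset_roots
      (p := (Polynomial.X ^ p ^ i - Polynomial.X : Polynomial (Algebra.adjoin (ZMod p) S)))
      (Z := Finset.univ) (by
        intro r _
        rw [Polynomial.mem_roots hne, Polynomial.IsRoot, Polynomial.eval_sub, Polynomial.eval_pow,
          Polynomial.eval_X, hall' r, sub_self])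
    rw [hdeg, Finset.card_univ, ← Nat.card_eq_fintype_card, hcardR] at hle
    exact (Nat.pow_le_pow_iff_right hp1).mp hle
  · -- the Galois argument
    have hst : ∀ h : Hg, ∀ r ∈ Algebra.adjoin (ZMod p) S,
        Φ h * r * Φ h⁻¹ ∈ Algebra.adjoin (ZMod p) S := by
      intro h r hr
      have huv : Φ h⁻¹ * Φ h = 1 := by rw [← map_mul, inv_mul_cancel, map_one]
      induction hr using Algebra.adjoin_induction with
      | mem x hx =>
        rw [hS] at hx
        obtain ⟨t, ht, rfl⟩ := hx
        have h1 : Φ h * Φ t * Φ h⁻¹ = Φ (h * t * h⁻¹) := by rw [map_mul, map_mul]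
        rw [h1]
        exact hmemS _ (hT.conj_mem t ht h)
      | algebraMap c =>
        rw [← Algebra.commutes c (Φ h), mul_assoc, ← map_mul, mul_inv_cancel, map_one, mul_one]
        exact Subalgebra.algebraMap_mem _ c
      | add x y hx hy ihx ihy =>
        rw [mul_add, add_mul]
        exact Subalgebra.add_mem _ ihx ihy
      | mul x y hx hy ihx ihy =>
        have h1 : Φ h * (x * y) * Φ h⁻¹ = (Φ h * x * Φ h⁻¹) * (Φ h * y * Φ h⁻¹) := by
          calc Φ h * (x * y) * Φ h⁻¹ = Φ h * x * 1 * y * Φ h⁻¹ := by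
                rw [mul_one]; simp only [mul_assoc]
            _ = Φ h * x * (Φ h⁻¹ * Φ h) * y * Φ h⁻¹ := by rw [huv]
            _ = (Φ h * x * Φ h⁻¹) * (Φ h * y * Φ h⁻¹) := by simp only [mul_assoc]
        rw [h1]
        exact Subalgebra.mul_mem _ ihx ihy
    have huv : ∀ h : Hg, Φ h * Φ h⁻¹ = 1 := fun h => by rw [← map_mul, mul_inv_cancel, map_one]
    have hvu : ∀ h : Hg, Φ h⁻¹ * Φ h = 1 := fun h => by rw [← map_mul, inv_mul_cancel, map_one]
    let ρ₀ : Hg →* (Algebra.adjoin (ZMod p) S →ₐ[ZMod p] Algebra.adjoin (ZMod p) S) :=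
      { toFun := fun h => conjAlgHom (Algebra.adjoin (ZMod p) S) (Φ h) (Φ h⁻¹) (huv h) (hvu h)
          (hst h)
        map_one' := by
          apply AlgHom.ext
          intro r
          apply Subtype.ext
          rw [conjAlgHom_apply]
          simp
        map_mul' := fun a b => by
          apply AlgHom.ext
          intro r
          apply Subtype.ext
          rw [AlgHom.mul_apply, conjAlgHom_apply, conjAlgHom_apply, conjAlgHom_apply, mul_inv_rev,
            map_mul, map_mul]
          simp only [mul_assoc] }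
    have hρ₀ : ∀ (h : Hg) (r : Algebra.adjoin (ZMod p) S),
        ((ρ₀ h r : Algebra.adjoin (ZMod p) S) : Module.End (ZMod p) M) = Φ h * r * Φ h⁻¹ :=
      fun h r => rfl
    let ρ : Hg →* (Algebra.adjoin (ZMod p) S ≃ₐ[ZMod p] Algebra.adjoin (ZMod p) S) :=
      (AlgEquiv.algHomUnitsEquiv (ZMod p) (Algebra.adjoin (ZMod p) S)).toMonoidHom.comp
        ρ₀.toHomUnits
    have hρ : ∀ (h : Hg) (r : Algebra.adjoin (ZMod p) S),
        ((ρ h r : Algebra.adjoin (ZMod p) S) : Module.End (ZMod p) M) = Φ h * r * Φ h⁻¹ :=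
      fun h r => rfl
    obtain ⟨hcycC, hcardC⟩ := gal_cyclic_card p (Algebra.adjoin (ZMod p) S)
    refine ⟨_, inferInstance, hcycC, ρ, ?_, ?_⟩
    · rw [hcardC]
      have h1 := Module.natCard_eq_pow_finrank (K := ZMod p) (V := Algebra.adjoin (ZMod p) S)
      rw [Nat.card_zmod, hcardR] at h1
      exact (Nat.pow_right_injective hp.out.two_le h1).symm
    · intro h
      constructor
      · intro h1 t ht
        have h2 := hρ h ⟨Φ t, hmemS t ht⟩
        rw [h1] at h2
        change Φ t = Φ h * Φ t * Φ h⁻¹ at h2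
        calc Φ h * Φ t = (Φ h * Φ t * Φ h⁻¹) * Φ h := by
              rw [mul_assoc, mul_assoc, hvu, mul_one]
          _ = Φ t * Φ h := by rw [← h2]
      · intro h1
        apply AlgEquiv.ext
        intro r
        apply Subtype.ext
        rw [hρ]
        change Φ h * (r : Module.End (ZMod p) M) * Φ h⁻¹ = r
        have h2 : ∀ r ∈ Algebra.adjoin (ZMod p) S, Φ h * r = r * Φ h := by
          intro r hr
          induction hr using Algebra.adjoin_induction with
          | mem x hx =>
            rw [hS] at hx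
            obtain ⟨t, ht, rfl⟩ := hx
            exact h1 t ht
          | algebraMap c => exact (Algebra.commutes c (Φ h)).symm
          | add x y hx hy ihx ihy => rw [mul_add, add_mul, ihx, ihy]
          | mul x y hx hy ihx ihy => rw [← mul_assoc, ihx, mul_assoc, ihy, mul_assoc]
        rw [h2 r r.2, mul_assoc, huv, mul_one]

end core

end Cfsg.Agent.Lib.Helper58
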