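import Mathlib

/-!
# Ring-theoretic core for fixed-point-free automorphisms of order four

Let `R` be a ring in which the odd number `n = 2k+1` is not a zero divisor, `σ t u` units with
`1 + σ + σ² + σ³ = 0`, `t σ = σ u`, `u σ = σ t⁻¹`, `t u = u t`, `t ^ n = 1`.  Then `t = 1`.
-/

set_option autoImplicit false

namespace Cfsg.Agent.Lib.Helper58.Fpf4

variable {R : Type*} [Ring R]

/-- semisimplicity step -/
theorem semisimple_step (n : ℕ) (htf : ∀ Y : R, (n : R) * Y = 0 → Y = 0) (s X : R)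
    (hs : s ^ n = 1) (h : (1 - s) * ((1 - s) * X) = 0) : (1 - s) * X = 0 := by
  set Y := (1 - s) * X with hY
  have hsY : s * Y = Y := by
    have h1 : Y - s * Y = 0 := by rw [← h]; noncomm_ring
    exact (sub_eq_zero.mp h1).symm
  have hpow : ∀ i : ℕ, s ^ i * Y = Y := by
    intro i
    induction i with
    | zero => simp
    | succ i ih => rw [pow_succ, mul_assoc, hsY, ih]
  have hsum : (∑ i ∈ Finset.range n, s ^ i) * Y = (n : R) * Y := by
    rw [Finset.sum_mul]
    simp [hpow]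
  have hgeom : (∑ i ∈ Finset.range n, s ^ i) * (1 - s) = 0 := by
    rw [geom_sum_mul_neg, hs, sub_self]
  apply htf
  rw [← hsum, hY, ← mul_assoc, hgeom, zero_mul]

/-- group-theoretic conjugation lemma -/
theorem conj_lemma {Γ : Type*} [Group Γ] (k : ℕ) (σ s s' : Γ) (h1 : s * σ = σ * s')
    (h2 : s' * σ = σ * s⁻¹) (hc : s * s' = s' * s) (hsn : s ^ (2 * k + 1) = 1) :
    (s' * s) ^ k * σ = σ * s * (s' * s) ^ k := by
  have hcs : Commute s s' := hc
  have hsemi : SemiconjBy σ (s⁻¹ * s') (s' * s) := by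
    show σ * (s⁻¹ * s') = s' * s * σ
    calc σ * (s⁻¹ * s') = (σ * s⁻¹) * s' := by group
      _ = s' * σ * s' := by rw [h2]
      _ = s' * (σ * s') := by group
      _ = s' * (s * σ) := by rw [h1]
      _ = s' * s * σ := by group
  have h3 := (hsemi.pow_right k).eq
  rw [← h3, mul_assoc]
  congr 1
  rw [hcs.inv_left.mul_pow, hcs.symm.mul_pow]
  have h4 : (s⁻¹) ^ k = s ^ (k + 1) := by
    rw [inv_pow]
    apply inv_eq_of_mul_eq_one_left
    rw [← pow_add]
    have : k + 1 + k = 2 * k + 1 := by ring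
    rw [this, hsn]
  rw [h4]
  have h5 : Commute (s ^ (k + 1)) (s' ^ k) := (hcs.pow_left (k + 1)).pow_right k
  have h6 : Commute s (s' ^ k) := hcs.pow_right k
  rw [h5.eq, ← mul_assoc, h6.eq, mul_assoc, ← pow_succ']

/-- the identity `(1 - s)(1 - s') = 0` for a pair `s, s' = s^σ` with `s'^σ = s⁻¹`. -/
theorem pair_identity (k : ℕ) (htf : ∀ Y : R, ((2 * k + 1 : ℕ) : R) * Y = 0 → Y = 0)
    (σ s s' : Rˣ) (hN : (1 : R) + σ + (σ : R) ^ 2 + (σ : R) ^ 3 = 0)
    (h1 : s * σ = σ * s') (h2 : s' * σ = σ * s⁻¹) (hc : s * s' = s' * s)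
    (hsn : s ^ (2 * k + 1) = 1) : ((1 : R) - s) * (1 - s') = 0 := by
  -- (a) the conjugate `σ s` of `σ` also has vanishing norm
  set r : Rˣ := (s' * s) ^ k with hr
  have hconj : r * σ = σ * s * r := conj_lemma k σ s s' h1 h2 hc hsn
  have hsemi : SemiconjBy (r : R) (σ : R) ((σ * s : Rˣ) : R) := by
    show (r : R) * σ = ((σ * s : Rˣ) : R) * r
    rw [← Units.val_mul, ← Units.val_mul, hconj]
  have hNs : (1 : R) + ((σ * s : Rˣ) : R) + ((σ * s : Rˣ) : R) ^ 2 + ((σ * s : Rˣ) : R) ^ 3 = 0 := by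
    have e1 : (r : R) * ((1 : R) + σ + (σ : R) ^ 2 + (σ : R) ^ 3)
        = ((1 : R) + ((σ * s : Rˣ) : R) + ((σ * s : Rˣ) : R) ^ 2 + ((σ * s : Rˣ) : R) ^ 3) * r := by
      rw [mul_add, mul_add, mul_add, add_mul, add_mul, add_mul, mul_one, one_mul, hsemi.eq,
        (hsemi.pow_right 2).eq, (hsemi.pow_right 3).eq]
    rw [hN, mul_zero] at e1
    exact (Units.mul_left_eq_zero r).mp e1.symm
  have I2 : (σ * s) ^ 2 = σ ^ 2 * (s' * s) := by
    calc (σ * s) ^ 2 = σ * (s * σ) * s := by rw [pow_two]; group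
      _ = σ * (σ * s') * s := by rw [h1]
      _ = σ ^ 2 * (s' * s) := by rw [pow_two]; group
  have hs' : s⁻¹ * s' * s = s' := by
    rw [mul_assoc, ← hc, ← mul_assoc, inv_mul_cancel, one_mul]
  have I3 : (σ * s) ^ 3 = σ ^ 3 * s' := by
    calc (σ * s) ^ 3 = (σ * s) ^ 2 * (σ * s) := pow_succ _ 2
      _ = σ ^ 2 * s' * (s * σ) * s := by rw [I2]; group
      _ = σ ^ 2 * s' * (σ * s') * s := by rw [h1]
      _ = σ ^ 2 * (s' * σ) * s' * s := by group
      _ = σ ^ 2 * (σ * s⁻¹) * s' * s := by rw [h2]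
      _ = σ ^ 3 * (s⁻¹ * s' * s) := by rw [pow_succ σ 2]; group
      _ = σ ^ 3 * s' := by rw [hs']
  have hNs' : (1 : R) + (σ : R) * s + (σ : R) ^ 2 * ((s' : R) * s) + (σ : R) ^ 3 * s' = 0 := by
    have e2 : ((σ * s : Rˣ) : R) ^ 2 = (σ : R) ^ 2 * ((s' : R) * s) := by
      rw [← Units.val_pow_eq_pow_val, I2]; simp
    have e3 : ((σ * s : Rˣ) : R) ^ 3 = (σ : R) ^ 3 * s' := by
      rw [← Units.val_pow_eq_pow_val, I3]; simp
    rw [e2, e3, Units.val_mul] at hNs
    exact hNs
  -- (b) multiply by `e = 1 + σ²`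
  set e : R := 1 + (σ : R) ^ 2 with he
  have he1 : e * σ = -e := by
    have : e * σ + e = (1 : R) + σ + (σ : R) ^ 2 + (σ : R) ^ 3 := by rw [he]; noncomm_ring
    rw [hN] at this
    exact eq_neg_of_add_eq_zero_left this
  have hσ4 : (σ : R) ^ 4 = 1 := by
    have : (σ : R) ^ 4 - 1 = ((σ : R) - 1) * ((1 : R) + σ + (σ : R) ^ 2 + (σ : R) ^ 3) := by
      noncomm_ring
    rw [hN, mul_zero] at this
    exact sub_eq_zero.mp this
  have he2 : e * (σ : R) ^ 2 = e := by
    have : e * (σ : R) ^ 2 = (σ : R) ^ 2 + (σ : R) ^ 4 := by rw [he]; noncomm_ring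
    rw [this, hσ4, he, add_comm]
  have he3 : e * (σ : R) ^ 3 = -e := by
    rw [pow_succ, ← mul_assoc, he2, he1]
  have hcR : (s : R) * s' = s' * s := by
    rw [← Units.val_mul, ← Units.val_mul, hc]
  set D : R := ((1 : R) - s) * (1 - s') with hD
  have heD : e * D = 0 := by
    have e4 : e * D = e * 1 + (e * σ) * s + (e * (σ : R) ^ 2) * ((s' : R) * s)
        + (e * (σ : R) ^ 3) * s' := by
      rw [he1, he2, he3, hD]
      have : ((1 : R) - s) * (1 - s') = 1 - s - s' + s' * s := by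
        rw [← hcR]; noncomm_ring
      rw [this]; noncomm_ring
    have e5 : e * 1 + (e * σ) * s + (e * (σ : R) ^ 2) * ((s' : R) * s) + (e * (σ : R) ^ 3) * s'
        = e * ((1 : R) + (σ : R) * s + (σ : R) ^ 2 * ((s' : R) * s) + (σ : R) ^ 3 * s') := by
      noncomm_ring
    rw [e4, e5, hNs', mul_zero]
  -- (c) `s D = D`
  have hσ2D : (σ : R) ^ 2 * D = -D := by
    have : e * D = D + (σ : R) ^ 2 * D := by rw [he]; noncomm_ring
    rw [heD] at this
    exact (neg_eq_of_add_eq_zero_right this.symm).symm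
  have hsD : Commute (s : R) D := by
    have c1 : Commute (s : R) ((1 : R) - s) := (Commute.one_right _).sub_right (Commute.refl _)
    have c2 : Commute (s : R) ((1 : R) - s') := (Commute.one_right _).sub_right hcR
    exact c1.mul_right c2
  have hgrp : σ ^ 2 * s = s⁻¹ * σ ^ 2 := by
    have g1 : s * σ ^ 2 = σ ^ 2 * s⁻¹ := by
      calc s * σ ^ 2 = (s * σ) * σ := by rw [pow_two]; group
        _ = σ * (s' * σ) := by rw [h1]; group
        _ = σ ^ 2 * s⁻¹ := by rw [h2, pow_two]; group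
    calc σ ^ 2 * s = s⁻¹ * (s * σ ^ 2) * s := by group
      _ = s⁻¹ * σ ^ 2 := by rw [g1]; group
  have hgrpR : (σ : R) ^ 2 * s = ((s⁻¹ : Rˣ) : R) * (σ : R) ^ 2 := by
    have := congrArg Units.val hgrp
    simpa using this
  have hss : (s : R) * D = ((s⁻¹ : Rˣ) : R) * D := by
    have e6 : e * ((s : R) * D) = 0 := by
      rw [hsD.eq, ← mul_assoc, heD, zero_mul]
    have e7 : e * ((s : R) * D) = (s : R) * D + ((σ : R) ^ 2 * s) * D := by
      rw [he]; noncomm_ring
    rw [e7, hgrpR, mul_assoc, hσ2D, mul_neg] at e6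
    exact sub_eq_zero.mp (by rw [sub_eq_add_neg]; exact e6)
  have hs2D : (s : R) * ((s : R) * D) = D := by
    rw [hss, ← mul_assoc, Units.mul_inv, one_mul]
  have hpowD : ∀ i : ℕ, (s : R) ^ (2 * i) * D = D := by
    intro i
    induction i with
    | zero => simp
    | succ i ih =>
      have : 2 * (i + 1) = 2 * i + 1 + 1 := by ring
      rw [this, pow_succ, pow_succ, mul_assoc, mul_assoc, hs2D, ih]
  have hsD1 : (s : R) * D = D := by
    have h7 := hpowD (k + 1)
    have : 2 * (k + 1) = (2 * k + 1) + 1 := by ring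
    rw [this, pow_succ, ← Units.val_pow_eq_pow_val, hsn, Units.val_one, one_mul] at h7
    exact h7
  -- (d)
  have hfin : ((1 : R) - s) * D = 0 := by
    rw [sub_mul, one_mul, hsD1, sub_self]
  have hsnR : (s : R) ^ (2 * k + 1) = 1 := by
    rw [← Units.val_pow_eq_pow_val, hsn, Units.val_one]
  exact semisimple_step (2 * k + 1) htf (s : R) (1 - s') hsnR hfin

/-- **Ring core**: `t = 1`. -/
theorem ring_core (k : ℕ) (htf : ∀ Y : R, ((2 * k + 1 : ℕ) : R) * Y = 0 → Y = 0)
    (σ t u : Rˣ) (hN : (1 : R) + σ + (σ : R) ^ 2 + (σ : R) ^ 3 = 0)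
    (h1 : t * σ = σ * u) (h2 : u * σ = σ * t⁻¹) (hc : t * u = u * t)
    (htn : t ^ (2 * k + 1) = 1) : t = 1 := by
  have hct : Commute t u := hc
  have A1 := pair_identity k htf σ t u hN h1 h2 hc htn
  have h1' : t * u * σ = σ * (u * t⁻¹) := by
    calc t * u * σ = t * (u * σ) := by group
      _ = (t * σ) * t⁻¹ := by rw [h2]; group
      _ = σ * (u * t⁻¹) := by rw [h1]; group
  have h3 : t⁻¹ * σ = σ * u⁻¹ := by
    calc t⁻¹ * σ = t⁻¹ * (σ * u) * u⁻¹ := by group
      _ = σ * u⁻¹ := by rw [← h1]; group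
  have h2' : u * t⁻¹ * σ = σ * (t * u)⁻¹ := by
    calc u * t⁻¹ * σ = u * (t⁻¹ * σ) := by group
      _ = (u * σ) * u⁻¹ := by rw [h3]; group
      _ = σ * (u * t)⁻¹ := by rw [h2]; group
      _ = σ * (t * u)⁻¹ := by rw [hc]
  have hc' : t * u * (u * t⁻¹) = u * t⁻¹ * (t * u) := by
    have hcc : Commute t (u * u) := hct.mul_right hct
    calc t * u * (u * t⁻¹) = t * (u * u) * t⁻¹ := by group
      _ = u * u * t * t⁻¹ := by rw [hcc.eq]
      _ = u * t⁻¹ * (t * u) := by group
  have hun : u ^ (2 * k + 1) = 1 := by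
    have hs : SemiconjBy σ u t := h1.symm
    have := (hs.pow_right (2 * k + 1)).eq
    rw [htn, one_mul] at this
    exact mul_left_cancel (this.trans (mul_one σ).symm)
  have hsn' : (t * u) ^ (2 * k + 1) = 1 := by
    rw [hct.mul_pow, htn, hun, one_mul]
  have A2 := pair_identity k htf σ (t * u) (u * t⁻¹) hN h1' h2' hc' hsn'
  rw [Units.val_mul, Units.val_mul] at A2
  -- ring computation
  set T : R := (t : R) with hT
  set U : R := (u : R) with hU
  set Ti : R := ((t⁻¹ : Rˣ) : R) with hTi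
  set B : R := 1 - T with hB
  have hTU : T * U = U * T := by
    rw [hT, hU, ← Units.val_mul, ← Units.val_mul, hc]
  have hTTi : T * Ti = 1 := Units.mul_inv t
  have hUTi : U * Ti = Ti * U := by
    have : Commute u t⁻¹ := hct.symm.inv_right
    rw [hU, hTi, ← Units.val_mul, ← Units.val_mul, this.eq]
  have hUB : U * B = B := by
    have hcm : Commute ((1 : R) - T) (1 - U) := by
      have c1 : Commute T ((1 : R) - U) := (Commute.one_right _).sub_right hTU
      exact (Commute.one_left _).sub_left c1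
    have : ((1 : R) - U) * (1 - T) = 0 := by rw [← hcm.eq]; exact A1
    have h4 : B - U * B = 0 := by rw [← this, hB]; noncomm_ring
    exact (sub_eq_zero.mp h4).symm
  set Y : R := B - Ti * B with hY
  have hUY : U * Y = Y := by
    rw [hY, mul_sub, ← mul_assoc, hUTi, mul_assoc, hUB]
  have hY1 : ((1 : R) - U * Ti) * B = Y := by
    rw [sub_mul, one_mul, hUTi, mul_assoc, hUB]
  have hX : ((1 : R) - T) * Y = 0 := by
    have : ((1 : R) - T * U) * (((1 : R) - U * Ti) * B) = 0 := by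
      rw [← mul_assoc, A2, zero_mul]
    rw [hY1, sub_mul, one_mul, mul_assoc, hUY] at this
    rw [sub_mul, one_mul]; exact this
  have hTY : T * Y = -(((1 : R) - T) * B) := by
    rw [hY, mul_sub, ← mul_assoc, hTTi, one_mul]; noncomm_ring
  have hcT : Commute T ((1 : R) - T) := (Commute.one_right _).sub_right (Commute.refl _)
  have hcube : ((1 : R) - T) * (((1 : R) - T) * ((1 : R) - T)) = 0 := by
    have h5 : ((1 : R) - T) * (T * Y) = 0 := by
      rw [← mul_assoc, ← hcT.eq, mul_assoc, hX, mul_zero]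
    rw [hTY, mul_neg, neg_eq_zero] at h5
    exact h5
  have hTn : T ^ (2 * k + 1) = 1 := by
    rw [hT, ← Units.val_pow_eq_pow_val, htn, Units.val_one]
  have hsq := semisimple_step (2 * k + 1) htf T (1 - T) hTn hcube
  have hsq' : ((1 : R) - T) * (((1 : R) - T) * 1) = 0 := by rw [mul_one]; exact hsq
  have hlin := semisimple_step (2 * k + 1) htf T 1 hTn hsq'
  rw [mul_one] at hlin
  apply Units.ext
  rw [Units.val_one]
  exact (sub_eq_zero.mp hlin).symm

section Mul

variable {V : Type*} [CommGroup V]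

/-- automorphisms of `V` as endomorphisms of `Additive V` -/
def toEnd : MulAut V →* AddMonoid.End (Additive V) where
  toFun α := MonoidHom.toAdditive α.toMonoidHom
  map_one' := rfl
  map_mul' _ _ := rfl

theorem toEnd_apply (α : MulAut V) (v : Additive V) :
    toEnd α v = Additive.ofMul (α (Additive.toMul v)) := rfl

/-- **Module lemma**, multiplicative form. -/
theorem mulAut_core [Finite V] (σ t u : MulAut V) (hσ4 : σ ^ 4 = 1)
    (hfpf : ∀ v : V, σ v = v → v = 1)
    (h1 : t * σ = σ * u) (h2 : u * σ = σ * t⁻¹) (hc : t * u = u * t) (n : ℕ) (hodd : Odd n)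
    (hcop : n.Coprime (Nat.card V)) (htn : t ^ n = 1) : t = 1 := by
  obtain ⟨k, rfl⟩ := hodd
  let φ : MulAut V →* (AddMonoid.End (Additive V))ˣ := (toEnd (V := V)).toHomUnits
  have hφ : ∀ α : MulAut V, ((φ α : (AddMonoid.End (Additive V))ˣ) : AddMonoid.End (Additive V))
      = toEnd α := fun α => rfl
  set S : AddMonoid.End (Additive V) := toEnd σ with hS
  have hS4 : S ^ 4 = 1 := by rw [hS, ← map_pow, hσ4, map_one]
  have hN : (1 : AddMonoid.End (Additive V)) + S + S ^ 2 + S ^ 3 = 0 := by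
    have hfix : S * (1 + S + S ^ 2 + S ^ 3) = 1 + S + S ^ 2 + S ^ 3 := by
      have : S * (1 + S + S ^ 2 + S ^ 3) = S + S ^ 2 + S ^ 3 + S ^ 4 := by noncomm_ring
      rw [this, hS4]; abel
    ext v
    have h3 : S ((1 + S + S ^ 2 + S ^ 3 : AddMonoid.End (Additive V)) v)
        = (1 + S + S ^ 2 + S ^ 3 : AddMonoid.End (Additive V)) v := by
      have := congrArg (fun f : AddMonoid.End (Additive V) => f v) hfix
      exact this
    rw [hS, toEnd_apply] at h3
    have h4 := hfpf _ (congrArg Additive.toMul h3)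
    exact congrArg Additive.ofMul h4
  have htf : ∀ Y : AddMonoid.End (Additive V),
      ((2 * k + 1 : ℕ) : AddMonoid.End (Additive V)) * Y = 0 → Y = 0 := by
    intro Y hY
    ext v
    have h3 : (2 * k + 1) • (Y v) = 0 := by
      have := congrArg (fun f : AddMonoid.End (Additive V) => f v) hY
      exact this
    have h4 : addOrderOf (Y v) ∣ 2 * k + 1 := addOrderOf_dvd_of_nsmul_eq_zero h3
    have h5 : addOrderOf (Y v) ∣ Nat.card V := by
      have := addOrderOf_dvd_natCard (Y v)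
      exact this
    have h6 : addOrderOf (Y v) = 1 := Nat.eq_one_of_dvd_coprimes hcop h4 h5
    exact AddMonoid.addOrderOf_eq_one_iff.mp h6
  have key := ring_core k htf (φ σ) (φ t) (φ u) hN
    (by rw [← map_mul, h1, map_mul]) (by rw [← map_mul, h2, map_mul, map_inv])
    (by rw [← map_mul, hc, map_mul]) (by rw [← map_pow, htn, map_one])
  ext v
  have h7 : toEnd t = 1 := by
    rw [← hφ t, key]; rfl
  have := congrArg (fun f : AddMonoid.End (Additive V) => f (Additive.ofMul v)) h7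
  exact congrArg Additive.toMul this

end Mul

end Cfsg.Agent.Lib.Helper58.Fpf4
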