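import Mathlib
import Cfsg.Agent.Lib.Helper1.ThompsonFpf
import Cfsg.Agent.Lib.Helper70.FrattiniFaithful
import Cfsg.Agent.Lib.Helper97.PStable2
import Cfsg.Agent.Lib.Helper58.Fpf4Ring

/-!
# The action of `G/F` on `F/Φ(F)` and fixed-point-free automorphisms of order four
-/

set_option autoImplicit false
set_option linter.style.haveILetI false
set_option linter.unusedSectionVars false

namespace Cfsg.Agent.Lib.Helper58.Fpf4

open Cfsg.Agent.Lib.Helper1 Cfsg.Agent.Lib.Helper70

section Act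

theorem frattini_autInv {P : Type*} [Group P] (α : MulAut P) : AutInv α (frattini P) :=
  Subgroup.characteristic_iff_map_eq.mp inferInstance α

/-- functoriality of the Frattini quotient -/
noncomputable def autQuot (P : Type*) [Group P] : MulAut P →* MulAut (P ⧸ frattini P) where
  toFun α := quotAut α (frattini P) (frattini_autInv α)
  map_one' := by
    ext x
    induction x using QuotientGroup.induction_on with
    | H x => rw [quotAut_mk]; rfl
  map_mul' α β := by
    ext x
    induction x using QuotientGroup.induction_on with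
    | H x => rw [MulAut.mul_apply, quotAut_mk, quotAut_mk, quotAut_mk]; rfl

theorem autQuot_mk (P : Type*) [Group P] (α : MulAut P) (x : P) :
    autQuot P α (x : P ⧸ frattini P) = ((α x : P) : P ⧸ frattini P) :=
  quotAut_mk α _ (frattini_autInv α) x

variable {G : Type*} [Group G] (F : Subgroup G) [hFn : F.Normal]

/-- the action of `G` on `F/Φ(F)` -/
noncomputable def rho : G →* MulAut (↥F ⧸ frattini ↥F) :=
  (autQuot ↥F).comp (MulAut.conjNormal (H := F))

theorem rho_mk (g : G) (x : F) :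
    rho F g (x : ↥F ⧸ frattini ↥F) = ((MulAut.conjNormal g x : F) : ↥F ⧸ frattini ↥F) :=
  autQuot_mk _ _ _

end Act

section Main

variable {G : Type*} [Group G] [Finite G] {p : ℕ} [Fact p.Prime] (F : Subgroup G) [hFn : F.Normal]

open scoped commutatorElement in
/-- `F/Φ(F)` is abelian -/
theorem frat_comm (hFp : IsPGroup p F) (a b : ↥F ⧸ frattini ↥F) : a * b = b * a := by
  induction a using QuotientGroup.induction_on with
  | H x =>
  induction b using QuotientGroup.induction_on with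
  | H y =>
    have h := Cfsg.Agent.Lib.Helper97.commutatorElement_mem_frattini hFp y⁻¹ x⁻¹
    rw [← QuotientGroup.mk_mul, ← QuotientGroup.mk_mul, QuotientGroup.eq]
    have e : (x * y)⁻¹ * (y * x) = ⁅y⁻¹, x⁻¹⁆ := by
      rw [commutatorElement_def]; group
    rw [e]; exact h

theorem rho_of_mem (hFp : IsPGroup p F) (f : G) (hf : f ∈ F) : rho F f = 1 := by
  ext v
  induction v using QuotientGroup.induction_on with
  | H x =>
    rw [rho_mk, MulAut.one_apply]
    have : (MulAut.conjNormal f x : F) = ⟨f, hf⟩ * x * (⟨f, hf⟩ : F)⁻¹ := by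
      apply Subtype.ext; simp [MulAut.conjNormal_apply]
    rw [this, QuotientGroup.mk_mul, QuotientGroup.mk_mul, QuotientGroup.mk_inv,
      frat_comm F hFp ((⟨f, hf⟩ : F) : ↥F ⧸ frattini ↥F), mul_assoc, mul_inv_cancel, mul_one]

/-- the action of `G/F` on `F/Φ(F)` -/
noncomputable def rhoBar (hFp : IsPGroup p F) : G ⧸ F →* MulAut (↥F ⧸ frattini ↥F) :=
  QuotientGroup.lift F (rho F) (fun f hf => rho_of_mem F hFp f hf)

theorem rhoBar_mk (hFp : IsPGroup p F) (g : G) : rhoBar F hFp (g : G ⧸ F) = rho F g := rfl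

theorem rhoBar_faithful (hFp : IsPGroup p F)
    (hcent : Subgroup.centralizer (F : Set G) ≤ F)
    (hmax : ∀ N : Subgroup G, N.Normal → IsPGroup p N → N ≤ F) :
    ∀ x : G ⧸ F, rhoBar F hFp x = 1 → x = 1 := by
  intro x hx
  induction x using QuotientGroup.induction_on with
  | H g =>
    rw [rhoBar_mk] at hx
    rw [QuotientGroup.eq_one_iff]
    apply trivOnFrattiniQuot_le F hFp hcent hmax
    rw [mem_trivOnFrattiniQuot]
    intro r hr
    have h1 := congrArg (fun α : MulAut (↥F ⧸ frattini ↥F) =>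
      α ((⟨r, hr⟩ : F) : ↥F ⧸ frattini ↥F)) hx
    simp only [MulAut.one_apply] at h1
    rw [rho_mk] at h1
    have h2 : (MulAut.conjNormal g ⟨r, hr⟩ : F) * (⟨r, hr⟩ : F)⁻¹ ∈ frattini ↥F := by
      rw [← QuotientGroup.eq_one_iff, QuotientGroup.mk_mul, QuotientGroup.mk_inv, h1,
        mul_inv_cancel]
    exact ⟨_, h2, by simp [MulAut.conjNormal_apply]⟩

/-- the automorphism induced by `σ` on `F/Φ(F)` -/
noncomputable def sigmaV (σ : MulAut G) (hFinv : AutInv σ F) : MulAut (↥F ⧸ frattini ↥F) :=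
  autQuot ↥F (restrictAut σ F hFinv)

theorem sigmaV_mk (σ : MulAut G) (hFinv : AutInv σ F) (x : F) :
    sigmaV F σ hFinv (x : ↥F ⧸ frattini ↥F)
      = ((restrictAut σ F hFinv x : F) : ↥F ⧸ frattini ↥F) :=
  autQuot_mk _ _ _

theorem sigmaV_pow_four (σ : MulAut G) (hFinv : AutInv σ F) (hσ4 : σ ^ 4 = 1) :
    sigmaV F σ hFinv ^ 4 = 1 := by
  unfold sigmaV
  rw [← map_pow, restrictAut_pow_eq_one σ F hFinv 4 hσ4, map_one]

theorem sigmaV_fpf (σ : MulAut G) (hFinv : AutInv σ F) (hfpf : ∀ g : G, σ g = g → g = 1) :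
    ∀ v : ↥F ⧸ frattini ↥F, sigmaV F σ hFinv v = v → v = 1 :=
  quotAut_fpf (restrictAut σ F hFinv : MulAut ↥F) (restrictAut_fpf σ F hFinv hfpf) (frattini ↥F)
    (frattini_autInv _)

theorem sigmaV_rhoBar (hFp : IsPGroup p F) (σ : MulAut G) (hFinv : AutInv σ F) (x : G ⧸ F) :
    sigmaV F σ hFinv * rhoBar F hFp x
      = rhoBar F hFp (quotAut σ F hFinv x) * sigmaV F σ hFinv := by
  induction x using QuotientGroup.induction_on with
  | H g =>
    rw [quotAut_mk, rhoBar_mk, rhoBar_mk]
    ext v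
    induction v using QuotientGroup.induction_on with
    | H y =>
      rw [MulAut.mul_apply, MulAut.mul_apply, rho_mk, sigmaV_mk, sigmaV_mk, rho_mk]
      congr 1
      apply Subtype.ext
      simp [MulAut.conjNormal_apply]

/-- **Key consequence of the module lemma**: `σ²` centralizes every `σ`-invariant abelian
subgroup of odd `p'`-order of `G/F`. -/
theorem tau_fixed (hFp : IsPGroup p F)
    (hcent : Subgroup.centralizer (F : Set G) ≤ F)
    (hmax : ∀ N : Subgroup G, N.Normal → IsPGroup p N → N ≤ F)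
    (σ : MulAut G) (hσ4 : σ ^ 4 = 1) (hfpf : ∀ g : G, σ g = g → g = 1) (hFinv : AutInv σ F)
    (A : Subgroup (G ⧸ F)) (hAinv : AutInv (quotAut σ F hFinv) A)
    (hAab : ∀ a ∈ A, ∀ b ∈ A, a * b = b * a) (hAodd : Odd (Nat.card A))
    (hAcop : (Nat.card A).Coprime p) :
    ∀ a ∈ A, quotAut σ F hFinv (quotAut σ F hFinv a) = a := by
  intro a ha
  set s := quotAut σ F hFinv with hs
  have hs4 : ∀ x, s (s (s (s x))) = x := by
    intro x
    have h := quotAut_pow_eq_one σ F hFinv 4 hσ4
    have h2 := congrArg (fun α : MulAut (G ⧸ F) => α x) h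
    simpa [pow_succ, MulAut.mul_apply] using h2
  set t := a⁻¹ * s (s a) with ht
  have htA : t ∈ A :=
    A.mul_mem (A.inv_mem ha) ((hAinv.mem_iff _).mpr ((hAinv.mem_iff _).mpr ha))
  have hτt : s (s t) = t⁻¹ := by
    rw [ht, map_mul, map_mul, map_inv, map_inv, hs4]; group
  set u := s t⁻¹ with hu
  have huA : u ∈ A := (hAinv.mem_iff _).mpr (A.inv_mem htA)
  have hsu : s u = t := by
    rw [hu, map_inv, map_inv, hτt, inv_inv]
  letI : CommGroup (↥F ⧸ frattini ↥F) :=
    { (inferInstance : Group (↥F ⧸ frattini ↥F)) with mul_comm := frat_comm F hFp }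
  have h1 : rhoBar F hFp t * sigmaV F σ hFinv = sigmaV F σ hFinv * rhoBar F hFp u := by
    rw [sigmaV_rhoBar F hFp σ hFinv u, ← hs, hsu]
  have h2 : rhoBar F hFp u * sigmaV F σ hFinv = sigmaV F σ hFinv * (rhoBar F hFp t)⁻¹ := by
    rw [← map_inv, sigmaV_rhoBar F hFp σ hFinv t⁻¹, ← hs, ← hu]
  have hc : rhoBar F hFp t * rhoBar F hFp u = rhoBar F hFp u * rhoBar F hFp t := by
    rw [← map_mul, ← map_mul, hAab t htA u huA]
  have htn : rhoBar F hFp t ^ Nat.card A = 1 := by
    rw [← map_pow]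
    have h3 : t ^ Nat.card A = 1 := by
      have h4 := pow_card_eq_one' (G := A) (x := ⟨t, htA⟩)
      exact congrArg Subtype.val h4
    rw [h3, map_one]
  have hcop : (Nat.card A).Coprime (Nat.card (↥F ⧸ frattini ↥F)) := by
    have hV : IsPGroup p (↥F ⧸ frattini ↥F) := hFp.to_quotient (frattini ↥F)
    obtain ⟨m, hm⟩ := IsPGroup.iff_card.mp hV
    rw [hm]
    exact Nat.Coprime.pow_right m hAcop
  have key := mulAut_core (V := ↥F ⧸ frattini ↥F) (sigmaV F σ hFinv) (rhoBar F hFp t)
    (rhoBar F hFp u) (sigmaV_pow_four F σ hFinv hσ4) (sigmaV_fpf F σ hFinv hfpf) h1 h2 hc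
    (Nat.card A) hAodd hcop htn
  have ht1 : t = 1 := rhoBar_faithful F hFp hcent hmax t key
  rw [ht] at ht1
  exact (inv_mul_eq_one.mp ht1).symm

end Main

end Cfsg.Agent.Lib.Helper58.Fpf4
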