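import Mathlib
import Cfsg.Agent.Lib.Helper1.FpfBasic

/-!
# Endgame for fixed-point-free automorphisms of order four

A finite group `H` of odd order of class at most two with a fixed-point-free automorphism `σ`,
`σ⁴ = 1`, whose proper `σ`-invariant subgroups are abelian and whose `σ`-invariant abelian normal
subgroups are central and centralized by `σ²`, is abelian.
-/

set_option autoImplicit false

namespace Cfsg.Agent.Lib.Helper58.Fpf4

open Cfsg.Agent.Lib.Helper1
open scoped commutatorElement

variable {H : Type*} [Group H]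

theorem normal_of_commutator_le (L : Subgroup H) (h : commutator H ≤ L) : L.Normal := by
  constructor
  intro n hn g
  have h1 : ⁅g, n⁆ ∈ L := by
    apply h
    rw [commutator_def]
    exact Subgroup.commutator_mem_commutator (Subgroup.mem_top g) (Subgroup.mem_top n)
  have h2 : g * n * g⁻¹ = ⁅g, n⁆ * n := by
    rw [commutatorElement_def]; group
  rw [h2]
  exact L.mul_mem h1 hn

theorem eq_one_of_mul_self_of_odd [Finite H] (hodd : Odd (Nat.card H)) (c : H) (hc : c * c = 1) :
    c = 1 := by
  have h1 : orderOf c ∣ 2 := orderOf_dvd_of_pow_eq_one (by rw [pow_two]; exact hc)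
  have h2 : orderOf c ∣ Nat.card H := orderOf_dvd_natCard c
  have h3 : Nat.Coprime 2 (Nat.card H) := Nat.coprime_two_left.mpr hodd
  exact orderOf_eq_one_iff.mp (Nat.eq_one_of_dvd_coprimes h3 h1 h2)

/-- the fixed points of an automorphism -/
def fixedSub (τ : MulAut H) : Subgroup H where
  carrier := {h | τ h = h}
  one_mem' := map_one τ
  mul_mem' := by
    intro a b ha hb
    show τ (a * b) = a * b
    rw [map_mul, ha, hb]
  inv_mem' := by
    intro a ha
    show τ a⁻¹ = a⁻¹
    rw [map_inv, ha]

theorem mem_fixedSub (τ : MulAut H) (h : H) : h ∈ fixedSub τ ↔ τ h = h := Iff.rfl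

theorem endgame [Finite H] (σ : MulAut H) (hσ4 : σ ^ 4 = 1) (hfpf : ∀ g : H, σ g = g → g = 1)
    (hodd : Odd (Nat.card H))
    (hE1 : ∀ A : Subgroup H, A.Normal → AutInv σ A → (∀ a ∈ A, ∀ b ∈ A, a * b = b * a) →
        A ≤ Subgroup.center H ∧ ∀ a ∈ A, (σ ^ 2) a = a)
    (hE2 : ∀ K : Subgroup H, AutInv σ K → K ≠ ⊤ → ∀ a ∈ K, ∀ b ∈ K, a * b = b * a)
    (hE3 : commutator H ≤ Subgroup.center H) :
    ∀ a b : H, a * b = b * a := by
  by_contra hnc
  push Not at hnc
  obtain ⟨a₀, b₀, hab⟩ := hnc
  set Z := Subgroup.center H with hZ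
  have hZinv : AutInv σ Z := Subgroup.characteristic_iff_map_eq.mp inferInstance σ
  have hZcomm : ∀ a ∈ Z, ∀ b ∈ Z, a * b = b * a := by
    intro a ha b _
    exact ((Subgroup.mem_center_iff.mp ha) b).symm
  have hZτ : ∀ z ∈ Z, (σ ^ 2) z = z := (hE1 Z inferInstance hZinv hZcomm).2
  have hτ : ∀ g : H, (σ ^ 2) g = σ (σ g) := by
    intro g; rw [pow_two, MulAut.mul_apply]
  have hτ2 : ∀ g : H, (σ ^ 2) ((σ ^ 2) g) = g := by
    intro g
    rw [← MulAut.mul_apply, ← pow_add, hσ4, MulAut.one_apply]
  -- (a)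
  have hprop : ∀ K : Subgroup H, AutInv σ K → K ≠ ⊤ → K ≤ Z := by
    intro K hK hKt
    have hKab := hE2 K hK hKt
    by_cases hsup : K ⊔ Z = ⊤
    · have h1 : K ⊔ Z ≤ Subgroup.centralizer (K : Set H) := by
        apply sup_le
        · intro k hk
          rw [Subgroup.mem_centralizer_iff]
          intro h hh
          exact hKab h hh k hk
        · exact Subgroup.center_le_centralizer _
      rw [hsup] at h1
      intro k hk
      rw [hZ, Subgroup.mem_center_iff]
      intro g
      have := Subgroup.mem_centralizer_iff.mp (h1 (Subgroup.mem_top g)) k hk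
      exact this.symm
    · have hn : (K ⊔ Z).Normal := normal_of_commutator_le _ (hE3.trans le_sup_right)
      have hab := hE2 (K ⊔ Z) (hK.sup hZinv) hsup
      exact le_sup_left.trans (hE1 (K ⊔ Z) hn (hK.sup hZinv) hab).1
  -- (b)
  set C := fixedSub (σ ^ 2) with hC
  have hCinv : AutInv σ C := by
    apply autInv_of_forall_mem
    intro x hx
    rw [hC, mem_fixedSub] at hx ⊢
    rw [hτ, ← hτ x, hx]
  have hCZ : C ≤ Z := by
    apply hprop C hCinv
    intro hCtop
    let φ : ↥C →* ↥C := (restrictAut σ C hCinv).toMonoidHom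
    have hφ : MonoidHom.FixedPointFree φ := fun x hx => restrictAut_fpf σ C hCinv hfpf x hx
    have h2 : Function.Involutive φ := by
      intro x
      apply Subtype.ext
      show σ (σ (x : H)) = x
      rw [← hτ]; exact x.2
    have hc := hφ.commute_all_of_involutive h2
    apply hab
    have ha : a₀ ∈ C := by rw [hCtop]; exact Subgroup.mem_top _
    have hb : b₀ ∈ C := by rw [hCtop]; exact Subgroup.mem_top _
    have := hc ⟨a₀, ha⟩ ⟨b₀, hb⟩
    exact congrArg Subtype.val this
  -- (c)
  have hw : ∀ g : H, g * (σ ^ 2) g ∈ Z := by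
    intro g
    apply hCZ
    rw [hC, mem_fixedSub]
    set τ := σ ^ 2 with hτdef
    set w := g * τ g with hwdef
    set c := w⁻¹ * τ w with hcdef
    have hcZ : c ∈ Z := by
      apply hE3
      have : c = ⁅(τ g)⁻¹, g⁻¹⁆ := by
        rw [hcdef, hwdef, commutatorElement_def, map_mul, hτ2]; group
      rw [this, commutator_def]
      exact Subgroup.commutator_mem_commutator (Subgroup.mem_top _) (Subgroup.mem_top _)
    have h1 : τ c = c := hZτ c hcZ
    have h2 : τ c = c⁻¹ := by
      rw [hcdef, map_mul, map_inv, hτ2]; group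
    have h3 : c * c = 1 := by
      have : c = c⁻¹ := h1.symm.trans h2
      calc c * c = c * c⁻¹ := by rw [← this]
        _ = 1 := mul_inv_cancel c
    have h4 : c = 1 := eq_one_of_mul_self_of_odd hodd c h3
    rw [hcdef] at h4
    exact (inv_mul_eq_one.mp h4).symm
  -- (d)
  have hcomm : ∀ x : H, x * σ x = σ x * x := by
    intro x
    set y := σ x with hy
    set w := x * (σ ^ 2) x with hwdef
    have hwZ : w ∈ Z := hw x
    have hwc : ∀ g : H, w * g = g * w := fun g => ((Subgroup.mem_center_iff.mp hwZ) g).symm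
    have hσy : σ y = x⁻¹ * w := by
      rw [hwdef, hτ, ← hy]; group
    set c := ⁅x, y⁆ with hcdef
    have hcZ : c ∈ Z := by
      apply hE3
      rw [commutator_def]
      exact Subgroup.commutator_mem_commutator (Subgroup.mem_top _) (Subgroup.mem_top _)
    have hcc : ∀ g : H, c * g = g * c := fun g => ((Subgroup.mem_center_iff.mp hcZ) g).symm
    have h1 : σ c = x⁻¹ * c * x := by
      rw [hcdef, commutatorElement_def, map_mul, map_mul, map_mul, map_inv, map_inv, ← hy, hσy]
      calc y * (x⁻¹ * w) * y⁻¹ * (x⁻¹ * w)⁻¹ = y * x⁻¹ * (w * y⁻¹) * w⁻¹ * x := by group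
        _ = y * x⁻¹ * (y⁻¹ * w) * w⁻¹ * x := by rw [hwc]
        _ = x⁻¹ * (x * y * x⁻¹ * y⁻¹) * x := by group
    have h2 : σ c = c := by
      rw [h1, mul_assoc, hcc, ← mul_assoc, inv_mul_cancel, one_mul]
    have h3 : c = 1 := hfpf c h2
    rw [hcdef, commutatorElement_eq_one_iff_mul_comm] at h3
    exact h3
  -- (e)
  have hall : ∀ x : H, x ∈ Z := by
    intro x
    set S : Set H := Set.range (fun i : ℕ => (σ ^ i) x) with hS
    set K := Subgroup.centralizer S with hK
    have hKinv : AutInv σ K := by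
      apply autInv_of_forall_mem
      intro k hk
      rw [hK, Subgroup.mem_centralizer_iff] at hk ⊢
      rintro _ ⟨i, rfl⟩
      have h1 := hk ((σ ^ (i + 3)) x) ⟨i + 3, rfl⟩
      have h2 : σ ((σ ^ (i + 3)) x) = (σ ^ i) x := by
        rw [← MulAut.mul_apply, ← pow_succ', show i + 3 + 1 = i + 4 by ring, pow_add, hσ4,
          mul_one]
      have h3 := congrArg σ h1
      rw [map_mul, map_mul, h2] at h3
      exact h3
    have hxK : x ∈ K := by
      rw [hK, Subgroup.mem_centralizer_iff]
      rintro _ ⟨i, rfl⟩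
      show (σ ^ i) x * x = x * (σ ^ i) x
      rw [pow_eq_pow_mod i hσ4]
      have hi : i % 4 < 4 := Nat.mod_lt _ (by norm_num)
      interval_cases (i % 4)
      · simp
      · rw [pow_one]; exact (hcomm x).symm
      · have h1 := hw x
        have h2 := (Subgroup.mem_center_iff.mp h1) x
        -- h2 : x * (x * τ x) = x * τ x * x
        have h3 : x * (x * (σ ^ 2) x) = x * ((σ ^ 2) x * x) := by rw [h2, mul_assoc]
        exact (mul_left_cancel h3).symm
      · have h1 := hcomm ((σ ^ 3) x)
        have h2 : σ ((σ ^ 3) x) = x := by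
          rw [← MulAut.mul_apply, ← pow_succ', hσ4, MulAut.one_apply]
        rw [h2] at h1
        exact h1
    by_cases hKt : K = ⊤
    · rw [hZ, Subgroup.mem_center_iff]
      intro g
      have hg : g ∈ K := by rw [hKt]; exact Subgroup.mem_top g
      rw [hK, Subgroup.mem_centralizer_iff] at hg
      have := hg x ⟨0, by simp⟩
      exact this.symm
    · exact hprop K hKinv hKt hxK
  apply hab
  exact ((Subgroup.mem_center_iff.mp (hall b₀)) a₀)

end Cfsg.Agent.Lib.Helper58.Fpf4
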