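import Mathlib

set_option autoImplicit false

namespace Cfsg.Agent.Lib.Helper58

/-- the semidirect product of an additive `K`-module `W` by the group `K` -/
@[ext] structure SD (W K : Type) where
  /-- the module component -/
  w : W
  /-- the group component -/
  k : K

/-- the set of element orders of the alternating group of degree 10 -/
def specA10 : Finset ℕ := {1, 2, 3, 4, 5, 6, 7, 8, 9, 10, 12, 15, 21}

theorem specA10_of_dvd : ∀ m ∈ ({2, 4, 6, 8, 10, 12, 9, 15, 21} : Finset ℕ),
    ∀ n ∈ Nat.divisors m, n ∈ specA10 := by decide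

theorem specA10_cover : ∀ n ∈ specA10, ∃ m ∈ ({8, 9, 10, 12, 15, 21} : Finset ℕ), n ∣ m := by
  decide

namespace SD

variable {W K : Type} [AddCommGroup W] [Group K] [DistribMulAction K W]

instance : Mul (SD W K) := ⟨fun a b => ⟨a.w + a.k • b.w, a.k * b.k⟩⟩
instance : One (SD W K) := ⟨⟨0, 1⟩⟩
instance : Inv (SD W K) := ⟨fun a => ⟨-(a.k⁻¹ • a.w), a.k⁻¹⟩⟩

@[simp] theorem mul_w (a b : SD W K) : (a * b).w = a.w + a.k • b.w := rfl
@[simp] theorem mul_k (a b : SD W K) : (a * b).k = a.k * b.k := rfl
@[simp] theorem one_w : (1 : SD W K).w = 0 := rfl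
@[simp] theorem one_k : (1 : SD W K).k = 1 := rfl
@[simp] theorem inv_w (a : SD W K) : (a⁻¹).w = -(a.k⁻¹ • a.w) := rfl
@[simp] theorem inv_k (a : SD W K) : (a⁻¹).k = a.k⁻¹ := rfl

instance : Group (SD W K) where
  mul_assoc a b c := by ext <;> simp [mul_smul, add_assoc, mul_assoc]
  one_mul a := by ext <;> simp
  mul_one a := by ext <;> simp
  inv_mul_cancel a := by ext <;> simp

/-- the partial norm `1 + x + ... + x ^ (n - 1)` applied to `w` -/
def nsum (x : K) (n : ℕ) (w : W) : W := ∑ i ∈ Finset.range n, x ^ i • w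

theorem pow_k (a : SD W K) (n : ℕ) : (a ^ n).k = a.k ^ n := by
  induction n with
  | zero => simp
  | succ n ih => rw [pow_succ, mul_k, ih, pow_succ]

theorem pow_w (a : SD W K) (n : ℕ) : (a ^ n).w = nsum a.k n a.w := by
  induction n with
  | zero => simp [nsum]
  | succ n ih =>
    rw [pow_succ', mul_w, ih, nsum, nsum, Finset.sum_range_succ', Finset.smul_sum, pow_zero,
      one_smul, add_comm]
    congr 1
    apply Finset.sum_congr rfl
    intro i _
    rw [pow_succ', mul_smul]

theorem pow_eq_one (a : SD W K) (n : ℕ) (hk : a.k ^ n = 1) (hw : nsum a.k n a.w = 0) :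
    a ^ n = 1 := by
  ext
  · rw [pow_w, hw, one_w]
  · rw [pow_k, hk, one_k]

theorem nsum_one (n : ℕ) (w : W) : nsum (1 : K) n w = n • w := by
  simp [nsum]

theorem nsum_two_mul (x : K) (j : ℕ) (w : W) :
    nsum x (2 * j) w = nsum x j w + x ^ j • nsum x j w := by
  rw [two_mul, nsum, Finset.sum_range_add, nsum, Finset.smul_sum]
  congr 1
  apply Finset.sum_congr rfl
  intro i _
  rw [pow_add, mul_smul]

/-- if `a ^ n` lies in the module part and is killed by `m`, then `a ^ (n * m) = 1` -/
theorem pow_mul_eq_one (a : SD W K) (n m : ℕ) (hk : a.k ^ n = 1)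
    (hw : m • nsum a.k n a.w = 0) : a ^ (n * m) = 1 := by
  rw [pow_mul]
  apply pow_eq_one
  · rw [pow_k, hk, one_pow]
  · rw [pow_k, hk, nsum_one, pow_w, hw]

/-- the embedding of `K` -/
def ofK : K →* SD W K where
  toFun x := ⟨0, x⟩
  map_one' := rfl
  map_mul' x y := by ext <;> simp

theorem ofK_injective : Function.Injective (ofK : K →* SD W K) := by
  intro x y h
  exact congrArg SD.k h

section spectrum

variable (z : K) (hz2 : z ^ 2 = 1) (hzW : ∀ w : W, z • w = -w) (h21 : ∀ w : W, 21 • w = 0)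
  (hcert : ∀ x : K, x = 1 ∨ (∃ j : ℕ, 1 ≤ j ∧ j ≤ 6 ∧ x ^ j = z) ∨
    (x ^ 3 = 1 ∧ ∀ w : W, 3 • nsum x 3 w = 0) ∨ (x ^ 5 = 1 ∧ ∀ w : W, 3 • nsum x 5 w = 0))

include hz2 hzW h21 hcert in
theorem orderOf_mem (a : SD W K) : orderOf a ∈ specA10 := by
  have key : ∀ m ∈ ({2, 4, 6, 8, 10, 12, 9, 15, 21} : Finset ℕ), a ^ m = 1 → orderOf a ∈ specA10 := by
    intro m hm h
    apply specA10_of_dvd m hm
    rw [Nat.mem_divisors]
    refine ⟨orderOf_dvd_of_pow_eq_one h, ?_⟩
    intro h0
    rw [h0] at hm
    revert hm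
    decide
  rcases hcert a.k with h | ⟨j, hj1, hj6, hj⟩ | ⟨h3, hw⟩ | ⟨h5, hw⟩
  · apply key 21 (by decide)
    apply pow_eq_one
    · rw [h, one_pow]
    · rw [h, nsum_one, h21]
  · have hpow : a ^ (2 * j) = 1 := by
      apply pow_eq_one
      · rw [mul_comm, pow_mul, hj, hz2]
      · rw [nsum_two_mul, hj, hzW, add_neg_cancel]
    interval_cases j
    · exact key 2 (by decide) hpow
    · exact key 4 (by decide) hpow
    · exact key 6 (by decide) hpow
    · exact key 8 (by decide) hpow
    · exact key 10 (by decide) hpow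
    · exact key 12 (by decide) hpow
  · exact key 9 (by decide) (pow_mul_eq_one a 3 3 h3 (hw a.w))
  · exact key 15 (by decide) (pow_mul_eq_one a 5 3 h5 (hw a.w))

include hz2 hzW h21 hcert in
/-- the generic computation of the spectrum of the semidirect product -/
theorem range_orderOf (x8 x10 x12 : K) (h8 : orderOf x8 = 8) (h10 : orderOf x10 = 10)
    (h12 : orderOf x12 = 12)
    (x3 : K) (w9 : W) (hx3 : x3 ^ 3 = 1) (hw9 : nsum x3 3 w9 ≠ 0) (hw9' : 3 • nsum x3 3 w9 = 0)
    (x5 : K) (w15 : W) (hx5 : x5 ^ 5 = 1) (hx5' : x5 ^ 3 ≠ 1) (hw15 : nsum x5 5 w15 ≠ 0)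
    (hw15' : 3 • nsum x5 5 w15 = 0)
    (w21 : W) (hw7 : 7 • w21 ≠ 0) (hw3 : 3 • w21 ≠ 0) :
    Set.range (orderOf : SD W K → ℕ) = ↑specA10 := by
  ext n
  constructor
  · rintro ⟨a, rfl⟩
    exact orderOf_mem z hz2 hzW h21 hcert a
  · intro hn
    have hn' : n ∈ specA10 := hn
    -- the witnesses
    have wit : ∀ m ∈ ({8, 9, 10, 12, 15, 21} : Finset ℕ), ∃ a : SD W K, orderOf a = m := by
      intro m hm
      simp only [Finset.mem_insert, Finset.mem_singleton] at hm
      rcases hm with rfl | rfl | rfl | rfl | rfl | rfl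
      · exact ⟨ofK x8, by rw [orderOf_injective ofK ofK_injective, h8]⟩
      · refine ⟨⟨w9, x3⟩, ?_⟩
        apply orderOf_eq_prime_pow (p := 3) (n := 1)
        · intro h
          apply hw9
          have h1 := congrArg SD.w h
          rw [pow_one, pow_w, one_w] at h1
          exact h1
        · exact pow_mul_eq_one ⟨w9, x3⟩ 3 3 hx3 hw9'
      · exact ⟨ofK x10, by rw [orderOf_injective ofK ofK_injective, h10]⟩
      · exact ⟨ofK x12, by rw [orderOf_injective ofK ofK_injective, h12]⟩
      · refine ⟨⟨w15, x5⟩, ?_⟩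
        apply orderOf_eq_of_pow_and_pow_div_prime (by norm_num)
        · exact pow_mul_eq_one ⟨w15, x5⟩ 5 3 hx5 hw15'
        · intro p hp hpd
          have hple : p ≤ 15 := Nat.le_of_dvd (by norm_num) hpd
          interval_cases p <;> try (exfalso; revert hp; decide)
          all_goals try (exfalso; revert hpd; decide)
          · intro h
            apply hw15
            have h1 := congrArg SD.w h
            rw [pow_w, one_w] at h1
            exact h1
          · intro h
            apply hx5'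
            have h1 := congrArg SD.k h
            rw [pow_k, one_k] at h1
            exact h1
      · refine ⟨⟨w21, 1⟩, ?_⟩
        have hpw : ∀ m : ℕ, (⟨w21, 1⟩ : SD W K) ^ m = ⟨m • w21, 1⟩ := by
          intro m
          ext
          · rw [pow_w, nsum_one]
          · rw [pow_k, one_pow]
        apply orderOf_eq_of_pow_and_pow_div_prime (by norm_num)
        · rw [hpw, h21]
          rfl
        · intro p hp hpd
          have hple : p ≤ 21 := Nat.le_of_dvd (by norm_num) hpd
          interval_cases p <;> try (exfalso; revert hp; decide)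
          all_goals try (exfalso; revert hpd; decide)
          · intro h
            apply hw7
            rw [hpw] at h
            exact congrArg SD.w h
          · intro h
            apply hw3
            rw [hpw] at h
            exact congrArg SD.w h
    obtain ⟨m, hm, hdvd⟩ := specA10_cover n hn'
    obtain ⟨a, ha⟩ := wit m hm
    have hm0 : m ≠ 0 := by
      rintro rfl
      revert hm
      decide
    have hn0 : n ≠ 0 := by
      rintro rfl
      revert hn'
      decide
    obtain ⟨e, he⟩ := hdvd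
    have he0 : e ≠ 0 := by
      rintro rfl
      exact hm0 (by rw [he, mul_zero])
    refine ⟨a ^ e, ?_⟩
    rw [orderOf_pow_of_dvd he0 (by rw [ha, he]; exact dvd_mul_left e n), ha, he]
    exact Nat.mul_div_cancel n (Nat.pos_of_ne_zero he0)

end spectrum

end SD

end Cfsg.Agent.Lib.Helper58
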