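import Mathlib
import Cfsg.Agent.Lib.Helper58.SemiOrder

set_option autoImplicit false

namespace Cfsg.Agent.Lib.Helper58

/-- the twisted regular module: functions `f : K → ZMod 3` with `f (z * k) = - f k` -/
def TwReg (K : Type) [Group K] (z : K) : AddSubgroup (K → ZMod 3) where
  carrier := {f | ∀ k, f (z * k) = - f k}
  zero_mem' := by
    intro k
    simp
  add_mem' := by
    intro f g hf hg k
    simp only [Pi.add_apply, hf k, hg k, neg_add]
  neg_mem' := by
    intro f hf k
    simp only [Pi.neg_apply, hf k]

namespace TwReg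

variable {K : Type} [Group K] {z : K}

instance instSMul : SMul K (TwReg K z) :=
  ⟨fun x f => ⟨fun k => f.1 (k * x), fun k => by
    have h := f.2 (k * x)
    rw [← mul_assoc] at h
    exact h⟩⟩

theorem smul_apply (x : K) (f : TwReg K z) (k : K) : (x • f).1 k = f.1 (k * x) := rfl

instance instDistribMulAction : DistribMulAction K (TwReg K z) where
  one_smul f := Subtype.ext (funext fun k => by rw [smul_apply, mul_one])
  mul_smul x y f := Subtype.ext (funext fun k => by
    rw [smul_apply, smul_apply, smul_apply, mul_assoc])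
  smul_zero x := Subtype.ext (funext fun k => rfl)
  smul_add x f g := Subtype.ext (funext fun k => rfl)

theorem three_nsmul (f : TwReg K z) : 3 • f = 0 := by
  apply Subtype.ext
  funext k
  change (3 • f.1) k = 0
  rw [Pi.smul_apply, nsmul_eq_mul]
  have h3 : ((3 : ℕ) : ZMod 3) = 0 := by decide
  rw [h3, zero_mul]

theorem central_smul (hz : ∀ k : K, k * z = z * k) (f : TwReg K z) : z • f = -f := by
  apply Subtype.ext
  funext k
  change f.1 (k * z) = - f.1 k
  rw [hz k]
  exact f.2 k

open Classical in
/-- the signed indicator function of `{1, z}` -/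
noncomputable def delta (hz1 : z ≠ 1) (hz2 : z * z = 1) : TwReg K z :=
  ⟨fun k => if k = 1 then 1 else if k = z then -1 else 0, by
    intro k
    by_cases h1 : k = 1
    · subst h1
      simp [hz1]
    · by_cases h2 : k = z
      · subst h2
        simp [hz2, hz1]
      · have h3 : z * k ≠ 1 := by
          intro h
          apply h2
          have h4 : z * (z * k) = z := by rw [h, mul_one]
          rw [← mul_assoc, hz2, one_mul] at h4
          exact h4
        have h4 : z * k ≠ z := by
          intro h
          apply h1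
          exact mul_left_cancel (a := z) (by rw [h, mul_one])
        simp [h1, h2, h3, h4]⟩

theorem delta_apply_one (hz1 : z ≠ 1) (hz2 : z * z = 1) : (delta hz1 hz2).1 1 = 1 := by
  simp [delta]

theorem delta_apply_of_ne (hz1 : z ≠ 1) (hz2 : z * z = 1) (k : K) (h1 : k ≠ 1) (h2 : k ≠ z) :
    (delta hz1 hz2).1 k = 0 := by
  simp [delta, h1, h2]

/-- the partial norm of `delta` is non-zero for elements whose proper powers avoid `{1, z}` -/
theorem nsum_delta_ne_zero (hz1 : z ≠ 1) (hz2 : z * z = 1) (x : K) (n : ℕ) (hn : 0 < n)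
    (hx : ∀ i, 0 < i → i < n → x ^ i ≠ 1 ∧ x ^ i ≠ z) :
    SD.nsum x n (delta hz1 hz2) ≠ 0 := by
  intro h
  have h1 : (SD.nsum x n (delta hz1 hz2)).1 1 = 1 := by
    rw [SD.nsum, AddSubgroup.val_finsetSum, Finset.sum_apply]
    rw [Finset.sum_eq_single_of_mem 0 (Finset.mem_range.mpr hn)]
    · rw [pow_zero, one_smul, delta_apply_one]
    · intro i hi hi0
      rw [smul_apply, one_mul]
      have hi' := hx i (Nat.pos_of_ne_zero hi0) (Finset.mem_range.mp hi)
      exact delta_apply_of_ne hz1 hz2 _ hi'.1 hi'.2
  rw [h] at h1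
  exact zero_ne_one h1

end TwReg

end Cfsg.Agent.Lib.Helper58
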