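import Cfsg.Agent.Lib.Helper58.TwoS5
import Cfsg.Agent.Lib.Helper58.TwReg

set_option autoImplicit false

namespace Cfsg.Agent.Lib.Helper58.TwoS5

open M4 Cfsg.Agent.Lib.Helper58

/-- the group `2.S₅⁻` as a type -/
abbrev KG : Type := ↥K

theorem negOne_mem : (-1 : Matˣ) ∈ K := by
  have h : (-1 : Matˣ) = X8 ^ 4 := Units.ext (by
    rw [Units.val_pow_eq_pow_val, X8_pow]
    rfl)
  rw [h]
  exact K.pow_mem X8_mem 4

/-- the central involution -/
def zK : KG := ⟨-1, negOne_mem⟩

theorem zK_sq : zK ^ 2 = 1 := by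
  apply Subtype.ext
  change (-1 : Matˣ) ^ 2 = 1
  exact neg_one_sq

theorem zK_mul_self : zK * zK = 1 := by
  rw [← pow_two]
  exact zK_sq

theorem neg_one_ne_one_mat : (-1 : Mat) ≠ 1 := by
  intro h
  have h1 := congrFun (congrFun h 0) 0
  simp only [Matrix.neg_apply, Matrix.one_apply_eq] at h1
  revert h1
  decide

theorem one_ne_zero_mat : (1 : Mat) ≠ 0 := by
  intro h
  have h1 := congrFun (congrFun h 0) 0
  simp only [Matrix.one_apply_eq, Matrix.zero_apply] at h1
  revert h1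
  decide

theorem zK_ne_one : zK ≠ 1 := by
  intro h
  have h1 : ((zK : Matˣ) : Mat) = ((1 : KG) : Matˣ) := by rw [h]
  exact neg_one_ne_one_mat h1

theorem zK_central (x : KG) : x * zK = zK * x := by
  apply Subtype.ext
  change (x : Matˣ) * (-1) = (-1) * (x : Matˣ)
  rw [mul_neg, mul_one, neg_mul, one_mul]

/-- equality in `KG` from equality of matrices -/
theorem ext_mat {x y : KG} (h : ((x : Matˣ) : Mat) = ((y : Matˣ) : Mat)) : x = y :=
  Subtype.ext (Units.ext h)

theorem coe_pow_mat (x : KG) (n : ℕ) : (((x ^ n : KG) : Matˣ) : Mat) = ((x : Matˣ) : Mat) ^ n := by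
  rw [Subgroup.coe_pow, Units.val_pow_eq_pow_val]

theorem coe_zK : ((zK : Matˣ) : Mat) = -1 := rfl

/-- the element of order 8 -/
def x8 : KG := ⟨X8, X8_mem⟩
/-- the element of order 10 -/
def x10 : KG := ⟨X10, X10_mem⟩
/-- the element of order 12 -/
def x12 : KG := ⟨X12, X12_mem⟩

theorem x8_pow : x8 ^ 4 = zK := ext_mat (by rw [coe_pow_mat, coe_zK]; exact X8_pow)
theorem x10_pow : x10 ^ 5 = zK := ext_mat (by rw [coe_pow_mat, coe_zK]; exact X10_pow)
theorem x12_pow : x12 ^ 6 = zK := ext_mat (by rw [coe_pow_mat, coe_zK]; exact X12_pow)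

theorem orderOf_x8 : orderOf x8 = 8 := by
  apply orderOf_eq_prime_pow (p := 2) (n := 2)
  · rw [show (2 : ℕ) ^ 2 = 4 from rfl, x8_pow]
    exact zK_ne_one
  · rw [show (2 : ℕ) ^ (2 + 1) = 4 * 2 from rfl, pow_mul, x8_pow]
    exact zK_sq

theorem x10_ne_zK : x10 ≠ zK := by
  intro h
  have h1 : ((x10 : Matˣ) : Mat) = -1 := by rw [h]; rfl
  have h2 := congrFun (congrFun h1 0) 2
  change g10.toMat 0 2 = (-1 : Mat) 0 2 at h2
  simp [toMat, g10] at h2
  exact absurd h2 (by decide)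

theorem orderOf_x10 : orderOf x10 = 10 := by
  have h10 : x10 ^ 10 = 1 := by
    rw [show 10 = 5 * 2 from rfl, pow_mul, x10_pow]
    exact zK_sq
  apply orderOf_eq_of_pow_and_pow_div_prime (by norm_num) h10
  intro p hp hpd
  have hple : p ≤ 10 := Nat.le_of_dvd (by norm_num) hpd
  interval_cases p <;> try (exfalso; revert hp; decide)
  all_goals try (exfalso; revert hpd; decide)
  · rw [show 10 / 2 = 5 from rfl, x10_pow]
    exact zK_ne_one
  · rw [show 10 / 5 = 2 from rfl]
    intro h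
    apply x10_ne_zK
    calc x10 = x10 ^ 5 * ((x10 ^ 2) ^ 2)⁻¹ := by rw [← pow_mul]; group
      _ = zK := by rw [h, x10_pow, one_pow, inv_one, mul_one]

theorem x12_sq_ne_zK : x12 ^ 2 ≠ zK := by
  intro h
  have h1 : ((x12 : Matˣ) : Mat) ^ 2 = -1 := by rw [← coe_pow_mat, h]; rfl
  have h3 : ((x12 : Matˣ) : Mat) ^ 2 = (mul g12 g12).toMat := by
    rw [toMat_mul, pow_two]
    rfl
  rw [h3, g12_sq] at h1
  have h2 := congrFun (congrFun h1 0) 1
  simp [toMat] at h2
  exact absurd h2 (by decide)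

theorem orderOf_x12 : orderOf x12 = 12 := by
  have h12 : x12 ^ 12 = 1 := by
    rw [show 12 = 6 * 2 from rfl, pow_mul, x12_pow]
    exact zK_sq
  apply orderOf_eq_of_pow_and_pow_div_prime (by norm_num) h12
  intro p hp hpd
  have hple : p ≤ 12 := Nat.le_of_dvd (by norm_num) hpd
  interval_cases p <;> try (exfalso; revert hp; decide)
  all_goals try (exfalso; revert hpd; decide)
  · rw [show 12 / 2 = 6 from rfl, x12_pow]
    exact zK_ne_one
  · rw [show 12 / 3 = 4 from rfl]
    intro h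
    apply x12_sq_ne_zK
    calc x12 ^ 2 = x12 ^ 6 * (x12 ^ 4)⁻¹ := by group
      _ = zK := by rw [h, x12_pow, inv_one, mul_one]

/-- the module: `k` copies of the matrices over `𝔽₇` and the twisted regular module over `𝔽₃` -/
abbrev Wk (k : ℕ) : Type := (Fin k → Mat) × TwReg KG zK

theorem smul_mat (x : KG) (u : Mat) : x • u = ((x : Matˣ) : Mat) * u := rfl

theorem nsum_fst {k : ℕ} (x : KG) (n : ℕ) (w : Wk k) : (SD.nsum x n w).1 = SD.nsum x n w.1 := by
  simp only [SD.nsum, Prod.fst_sum, Prod.smul_fst]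

theorem nsum_snd {k : ℕ} (x : KG) (n : ℕ) (w : Wk k) : (SD.nsum x n w).2 = SD.nsum x n w.2 := by
  simp only [SD.nsum, Prod.snd_sum, Prod.smul_snd]

theorem nsum_pi {k : ℕ} (x : KG) (n : ℕ) (u : Fin k → Mat) :
    SD.nsum x n u = fun i => (∑ j ∈ Finset.range n, ((x : Matˣ) : Mat) ^ j) * u i := by
  funext i
  simp only [SD.nsum, Finset.sum_apply, Pi.smul_apply, smul_mat, coe_pow_mat, Finset.sum_mul]

theorem nsum_eq_zero_of_sum {k : ℕ} (x : KG) (n : ℕ)
    (h : ∑ j ∈ Finset.range n, ((x : Matˣ) : Mat) ^ j = 0) (w : Wk k) :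
    3 • SD.nsum x n w = 0 := by
  apply Prod.ext
  · rw [Prod.smul_fst, nsum_fst, nsum_pi, h]
    funext i
    simp
  · rw [Prod.smul_snd, nsum_snd]
    exact TwReg.three_nsmul _

theorem pow_eq_one_of_sum (x : KG) (n : ℕ)
    (h : ∑ j ∈ Finset.range n, ((x : Matˣ) : Mat) ^ j = 0) : x ^ n = 1 := by
  apply ext_mat
  rw [coe_pow_mat]
  have h1 := mul_geom_sum ((x : Matˣ) : Mat) n
  rw [h, mul_zero] at h1
  have h2 := sub_eq_zero.mp h1.symm
  rw [h2]
  rfl

theorem hcert (k : ℕ) (x : KG) :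
    x = 1 ∨ (∃ j : ℕ, 1 ≤ j ∧ j ≤ 6 ∧ x ^ j = zK) ∨
    (x ^ 3 = 1 ∧ ∀ w : Wk k, 3 • SD.nsum x 3 w = 0) ∨
    (x ^ 5 = 1 ∧ ∀ w : Wk k, 3 • SD.nsum x 5 w = 0) := by
  rcases cert_K (x : Matˣ) x.2 with h | ⟨j, hj1, hj6, hj⟩ | h | h
  · left
    exact ext_mat h
  · right; left
    exact ⟨j, hj1, hj6, ext_mat (by rw [coe_pow_mat, hj]; rfl)⟩
  · right; right; left
    have hs : ∑ j ∈ Finset.range 3, ((x : Matˣ) : Mat) ^ j = 0 := by
      rw [Finset.sum_range_succ, Finset.sum_range_succ, Finset.sum_range_one, pow_zero, pow_one]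
      exact h
    exact ⟨pow_eq_one_of_sum x 3 hs, nsum_eq_zero_of_sum x 3 hs⟩
  · right; right; right
    have hs : ∑ j ∈ Finset.range 5, ((x : Matˣ) : Mat) ^ j = 0 := by
      rw [Finset.sum_range_succ, Finset.sum_range_succ, Finset.sum_range_succ,
        Finset.sum_range_succ, Finset.sum_range_one, pow_zero, pow_one]
      exact h
    exact ⟨pow_eq_one_of_sum x 5 hs, nsum_eq_zero_of_sum x 5 hs⟩

theorem hzW (k : ℕ) (w : Wk k) : zK • w = -w := by
  apply Prod.ext
  · funext i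
    change ((zK : Matˣ) : Mat) * w.1 i = -(w.1 i)
    rw [coe_zK, neg_one_mul]
  · exact TwReg.central_smul zK_central w.2

theorem h21 (k : ℕ) (w : Wk k) : 21 • w = 0 := by
  apply Prod.ext
  · funext i
    change 21 • (w.1 i) = 0
    have h7 : (7 : ℕ) • (w.1 i) = 0 := by
      rw [nsmul_eq_mul]
      have : ((7 : ℕ) : Mat) = 0 := CharP.cast_eq_zero Mat 7
      rw [this, zero_mul]
    rw [show 21 = 3 * 7 from rfl, mul_nsmul', h7, nsmul_zero]
  · change 21 • w.2 = 0
    rw [show 21 = 7 * 3 from rfl, mul_nsmul', TwReg.three_nsmul, nsmul_zero]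

/-- the vector `delta` of the twisted regular module -/
noncomputable def dl : TwReg KG zK := TwReg.delta zK_ne_one zK_mul_self

theorem dl_ne_zero : dl ≠ 0 := by
  intro h
  have h1 := TwReg.delta_apply_one zK_ne_one zK_mul_self
  change dl.1 1 = 1 at h1
  rw [h] at h1
  exact zero_ne_one h1

theorem pow_x12_ne (a b : ℕ) (h : ¬ a ≡ b [MOD 12]) : x12 ^ a ≠ x12 ^ b := by
  intro h1
  rw [pow_eq_pow_iff_modEq, orderOf_x12] at h1
  exact h h1

theorem pow_x10_ne (a b : ℕ) (h : ¬ a ≡ b [MOD 10]) : x10 ^ a ≠ x10 ^ b := by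
  intro h1
  rw [pow_eq_pow_iff_modEq, orderOf_x10] at h1
  exact h h1

theorem nsum_zero_fst {k : ℕ} (x : KG) (n : ℕ) (v : TwReg KG zK) :
    SD.nsum x n ((0, v) : Wk k) = (0, SD.nsum x n v) := by
  apply Prod.ext
  · rw [nsum_fst]
    simp [SD.nsum]
  · rw [nsum_snd]

/-- the semidirect product has the same set of element orders as the alternating group of
degree 10 -/
theorem range_orderOf_SD (k : ℕ) (hk : 0 < k) :
    Set.range (orderOf : SD (Wk k) KG → ℕ) = ↑specA10 := by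
  have hx3 : (x12 ^ 4) ^ 3 = 1 := by
    rw [← pow_mul]
    exact (pow_eq_pow_iff_modEq.mpr (by rw [orderOf_x12]; decide : 4 * 3 ≡ 0 [MOD orderOf x12])).trans
      (pow_zero _)
  have hx5 : (x10 ^ 2) ^ 5 = 1 := by
    rw [← pow_mul]
    exact (pow_eq_pow_iff_modEq.mpr (by rw [orderOf_x10]; decide : 2 * 5 ≡ 0 [MOD orderOf x10])).trans
      (pow_zero _)
  refine SD.range_orderOf zK zK_sq (hzW k) (h21 k) (hcert k) x8 x10 x12 orderOf_x8 orderOf_x10
    orderOf_x12 (x12 ^ 4) (0, dl) hx3 ?_ ?_ (x10 ^ 2) (0, dl) hx5 ?_ ?_ ?_ (fun _ => 1, dl) ?_ ?_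
  · rw [nsum_zero_fst]
    intro h
    have h1 := congrArg Prod.snd h
    refine TwReg.nsum_delta_ne_zero zK_ne_one zK_mul_self (x12 ^ 4) 3 (by norm_num) ?_ h1
    intro i hi0 hi3
    rw [← pow_mul, ← x12_pow]
    constructor
    · rw [← pow_zero x12]
      apply pow_x12_ne
      interval_cases i <;> decide
    · apply pow_x12_ne
      interval_cases i <;> decide
  · rw [nsum_zero_fst]
    apply Prod.ext
    · simp
    · exact TwReg.three_nsmul _
  · rw [← pow_mul, ← pow_zero x10]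
    apply pow_x10_ne
    decide
  · rw [nsum_zero_fst]
    intro h
    have h1 := congrArg Prod.snd h
    refine TwReg.nsum_delta_ne_zero zK_ne_one zK_mul_self (x10 ^ 2) 5 (by norm_num) ?_ h1
    intro i hi0 hi5
    rw [← pow_mul, ← x10_pow]
    constructor
    · rw [← pow_zero x10]
      apply pow_x10_ne
      interval_cases i <;> decide
    · apply pow_x10_ne
      interval_cases i <;> decide
  · rw [nsum_zero_fst]
    apply Prod.ext
    · simp
    · exact TwReg.three_nsmul _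
  · intro h
    have h1 : 7 • dl = 0 := congrArg Prod.snd h
    have h7 : (7 : ℕ) • dl = (2 * 3 + 1) • dl := rfl
    rw [h7, add_nsmul, mul_nsmul', TwReg.three_nsmul, nsmul_zero, zero_add, one_nsmul] at h1
    exact dl_ne_zero h1
  · intro h
    have h1 : (3 : ℕ) • (fun _ : Fin k => (1 : Mat)) = 0 := congrArg Prod.fst h
    have h2 := congrFun (congrFun (congrFun h1 ⟨0, hk⟩) 0) 0
    simp only [Pi.smul_apply, Matrix.smul_apply, Matrix.one_apply_eq, Pi.zero_apply,
      Matrix.zero_apply] at h2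
    revert h2
    decide

/-- arbitrarily large finite groups with the spectrum of the alternating group of degree 10 -/
theorem exists_isospectral (N : ℕ) : ∃ (H : Type) (_ : Group H) (_ : Fintype H),
    N < Fintype.card H ∧ Set.range (orderOf : H → ℕ) = ↑specA10 := by
  classical
  haveI : Fintype (Wk (N + 1)) := Fintype.ofFinite _
  haveI : Fintype KG := Fintype.ofFinite _
  let e : SD (Wk (N + 1)) KG ≃ Wk (N + 1) × KG :=
    { toFun := fun a => (a.w, a.k)
      invFun := fun p => ⟨p.1, p.2⟩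
      left_inv := fun _ => rfl
      right_inv := fun _ => rfl }
  haveI : Fintype (SD (Wk (N + 1)) KG) := Fintype.ofEquiv _ e.symm
  refine ⟨SD (Wk (N + 1)) KG, inferInstance, inferInstance, ?_, range_orderOf_SD (N + 1) (by omega)⟩
  -- cardinality
  let ι : (Fin (N + 1) → Fin 2) → SD (Wk (N + 1)) KG :=
    fun f => ⟨(fun i => if f i = 0 then 0 else 1, 0), 1⟩
  have hι : Function.Injective ι := by
    intro f g h
    have h1 := congrArg (fun a => a.w.1) h
    funext i
    have h2 := congrFun h1 i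
    simp only [ι] at h2
    by_cases hf : f i = 0 <;> by_cases hg : g i = 0
    · rw [hf, hg]
    · exfalso
      rw [if_pos hf, if_neg hg] at h2
      exact one_ne_zero_mat h2.symm
    · exfalso
      rw [if_neg hf, if_pos hg] at h2
      exact one_ne_zero_mat h2
    · have hf' : f i = 1 := by omega
      have hg' : g i = 1 := by omega
      rw [hf', hg']
  have hle := Fintype.card_le_of_injective ι hι
  rw [Fintype.card_fun, Fintype.card_fin, Fintype.card_fin] at hle
  have h2 : N + 1 < 2 ^ (N + 1) := Nat.lt_two_pow_self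
  omega

end Cfsg.Agent.Lib.Helper58.TwoS5
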