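import Mathlib
import Cfsg.Prelude.Def_CaseTheorems
import Cfsg.Prelude.Def_TwoFusion
import Cfsg.Agent.S0215
import Cfsg.Agent.S0276
import Cfsg.Agent.S0111
import Cfsg.Agent.Lib.Helper29.ZStarElement
import Cfsg.Agent.Lib.Helper58.AutInner
import Cfsg.Agent.Lib.Helper98.PSL2Fusion

/-!
# Groups of Janko–Ree type: no 2-covers and 2-automorphisms centralizing a Sylow 2-subgroup

Auxiliary material for S3206.
-/

set_option autoImplicit false
set_option linter.style.haveILetI false

namespace Cfsg.Agent.Lib.Helper58.JankoRee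

open Cfsg

open scoped IsMulCommutative
open scoped commutatorElement

universe u v

/-- The Z*-theorem for 2-elements (Glauberman), in the form used by `AutInner`. -/
theorem zstarHyp : Cfsg.Agent.Lib.Helper58.AutInner.ZStarElemHyp.{u} :=
  fun _ _ _ Q x hx h => Cfsg.Agent.Lib.Helper29.zstar_element
    (fun _ _ _ R t h1 h2 h3 => Cfsg.Agent.S0215.result R t h1 h2 h3) Q x hx h

/-- A finite simple group of even order has trivial odd core. -/
theorem pPrimeCore_eq_bot_of_simple {G : Type u} [Group G] [Finite G] [IsSimpleGroup G]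
    (h2 : 2 ∣ Nat.card G) : Cfsg.pPrimeCore 2 G = ⊥ := by
  unfold Cfsg.pPrimeCore
  rw [eq_bot_iff]
  apply sSup_le
  rintro K ⟨hKn, hKc⟩
  rcases hKn.eq_bot_or_eq_top with h | h
  · exact h.le
  · exfalso
    rw [h, Subgroup.card_top] at hKc
    have := Nat.Coprime.eq_one_of_dvd hKc.symm h2
    omega

section PSLTwoFacts

variable {F : Type v} [Field F] [Fintype F]

local notation "PSL2" => Matrix.ProjectiveSpecialLinearGroup (Fin 2) F

theorem exists_sq_ne_one (hF3 : 3 < Fintype.card F) : ∃ a : F, a ≠ 0 ∧ a ^ 2 ≠ 1 := by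
  classical
  by_contra hcon
  push Not at hcon
  have h1 : (Finset.univ : Finset F) ⊆ {0, 1, -1} := by
    intro a _
    by_cases ha : a = 0
    · simp [ha]
    · have h2 := hcon a ha
      have h3 : (a - 1) * (a + 1) = 0 := by ring_nf; rw [h2]; ring
      rcases mul_eq_zero.mp h3 with h4 | h4
      · have : a = 1 := by linear_combination h4
        simp [this]
      · have : a = -1 := by linear_combination h4
        simp [this]
  have h2 := Finset.card_le_card h1
  have h3 : ({0, 1, -1} : Finset F).card ≤ 3 := Finset.card_le_three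
  rw [Finset.card_univ] at h2
  omega

theorem psl2_simple (hF3 : 3 < Fintype.card F) : IsSimpleGroup PSL2 := by
  apply Matrix.ProjectiveSpecialLinearGroup.rank_two_simple
  rw [Nat.card_eq_fintype_card]
  omega

theorem psl2_perfect (hF3 : 3 < Fintype.card F) : _root_.commutator PSL2 = ⊤ :=
  SL2Simple.PSL_commutator_eq_top (exists_sq_ne_one hF3)

theorem sixteen_dvd {q : ℕ} (hq : q % 8 = 1 ∨ q % 8 = 7) : 16 ∣ q ^ 2 - 1 := by
  have h1 : q ^ 2 % 16 = 1 := by
    have h2 : q % 16 = 1 ∨ q % 16 = 7 ∨ q % 16 = 9 ∨ q % 16 = 15 := by omega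
    rw [Nat.pow_mod]
    rcases h2 with h | h | h | h <;> rw [h]
  omega

/-- An abelian Sylow 2-subgroup of `PSL(2, q)`, `q > 3` odd, has order 4. -/
theorem psl2_abelian_sylow_card (hFo : Odd (Fintype.card F)) (hF3 : 3 < Fintype.card F)
    (P : Sylow 2 PSL2) (hP : IsMulCommutative (P : Subgroup PSL2)) :
    Nat.card (P : Subgroup PSL2) = 4 := by
  haveI : Fact (Nat.Prime 2) := ⟨Nat.prime_two⟩
  have hodd : Fintype.card F % 2 = 1 := Nat.odd_iff.mp hFo
  have h8 : (Fintype.card F % 8 = 3 ∨ Fintype.card F % 8 = 5) ∨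
      (Fintype.card F % 8 = 1 ∨ Fintype.card F % 8 = 7) := by omega
  rcases h8 with h8 | h8
  · haveI := Cfsg.Agent.S0276.result (F := F) rfl h8 P
    exact IsKleinFour.card_four
  · exfalso
    have h16 := sixteen_dvd h8
    have hN := Cfsg.Agent.Lib.Helper98.PSL2Fusion.normalizer_sylow_eq hodd h16 P
    have hne := (Cfsg.Agent.Lib.Helper98.PSL2Fusion.sylow_gen_involutions hodd P).1
    haveI := psl2_simple hF3
    have hNC : Subgroup.normalizer ((P : Subgroup PSL2) : Set PSL2) ≤
        Subgroup.centralizer ((P : Subgroup PSL2) : Set PSL2) := by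
      rw [hN]
      intro x hx y hy
      have := hP.is_comm.comm ⟨y, hy⟩ ⟨x, hx⟩
      exact congrArg Subtype.val this
    have hcomp := MonoidHom.ker_transferSylow_isComplement' P hNC
    rcases (MonoidHom.normal_ker (MonoidHom.transferSylow P hNC)).eq_bot_or_eq_top with h | h
    · rw [h, Subgroup.isComplement'_bot_left] at hcomp
      -- PSL2 = P is abelian, contradiction with perfectness
      have hperf := psl2_perfect hF3
      have hcomm : _root_.commutator PSL2 = ⊥ := by
        rw [_root_.commutator, Subgroup.commutator_eq_bot_iff_le_centralizer]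
        intro x _ y _
        have hx : x ∈ (P : Subgroup PSL2) := by rw [hcomp]; trivial
        have hy : y ∈ (P : Subgroup PSL2) := by rw [hcomp]; trivial
        have := hP.is_comm.comm ⟨y, hy⟩ ⟨x, hx⟩
        exact congrArg Subtype.val this
      rw [hperf] at hcomm
      exact hne (by rw [hcomp]; exact hcomm)
    · rw [h, Subgroup.isComplement'_top_left] at hcomp
      exact hne hcomp

end PSLTwoFacts

section Generic

/-- Elements of a join of two elementwise-commuting subgroups are products. -/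
theorem exists_mul_of_mem_sup {G : Type u} [Group G] (A B : Subgroup G)
    (hc : ∀ a ∈ A, ∀ b ∈ B, a * b = b * a) {x : G} (hx : x ∈ A ⊔ B) :
    ∃ a ∈ A, ∃ b ∈ B, x = a * b := by
  have comm : ∀ (a : A) (b : B), Commute (A.subtype a) (B.subtype b) := fun a b => hc a a.2 b b.2
  have h := MonoidHom.noncommCoprod_range A.subtype B.subtype comm
  rw [Subgroup.range_subtype, Subgroup.range_subtype] at h
  rw [← h] at hx
  obtain ⟨⟨a, b⟩, rfl⟩ := hx
  exact ⟨a, a.2, b, b.2, by simp⟩

theorem eq_one_or_eq_of_mem_zpowers {G : Type u} [Group G] {t x : G} (ht : orderOf t = 2)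
    (hx : x ∈ Subgroup.zpowers t) : x = 1 ∨ x = t := by
  obtain ⟨k, rfl⟩ := Subgroup.mem_zpowers_iff.mp hx
  have h2 : t ^ (2 : ℤ) = 1 := by
    have := pow_orderOf_eq_one t
    rw [ht] at this
    exact_mod_cast this
  rcases Int.even_or_odd' k with ⟨m, rfl | rfl⟩
  · left
    rw [zpow_mul, h2, one_zpow]
  · right
    rw [zpow_add, zpow_mul, h2, one_zpow, one_mul, zpow_one]

/-- A finite simple group of even order isomorphic to ... : transport of the Sylow order. -/
theorem abelian_sylow_card_of_equiv {A : Type u} [Group A] [Finite A]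
    {F : Type v} [Field F] [Fintype F] (hFo : Odd (Fintype.card F)) (hF3 : 3 < Fintype.card F)
    (e : A ≃* Matrix.ProjectiveSpecialLinearGroup (Fin 2) F)
    (Q : Sylow 2 A) (hQ : IsMulCommutative (Q : Subgroup A)) :
    Nat.card (Q : Subgroup A) = 4 := by
  have hr : (Q : Subgroup A) ≤ (e.symm.toMonoidHom).range := by
    intro x _
    exact ⟨e x, by simp⟩
  set P := Q.comapOfInjective e.symm.toMonoidHom e.symm.injective hr with hP
  have hPc : (P : Subgroup _) = (Q : Subgroup A).comap e.symm.toMonoidHom :=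
    Sylow.coe_comapOfInjective Q _ _ _
  have hPab : IsMulCommutative (P : Subgroup (Matrix.ProjectiveSpecialLinearGroup (Fin 2) F)) := by
    refine ⟨⟨?_⟩⟩
    rintro ⟨x, hx⟩ ⟨y, hy⟩
    rw [hPc, Subgroup.mem_comap] at hx hy
    have h1 := hQ.is_comm.comm ⟨_, hx⟩ ⟨_, hy⟩
    have h2 : e.symm.toMonoidHom x * e.symm.toMonoidHom y =
        e.symm.toMonoidHom y * e.symm.toMonoidHom x := congrArg Subtype.val h1
    apply Subtype.ext
    show x * y = y * x
    apply e.symm.injective
    simpa using h2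
  have h4 := psl2_abelian_sylow_card hFo hF3 P hPab
  have h5 : Nat.card (P : Subgroup (Matrix.ProjectiveSpecialLinearGroup (Fin 2) F)) =
      Nat.card (Q : Subgroup A) := by
    rw [hPc]
    have : (Q : Subgroup A).comap e.symm.toMonoidHom = (Q : Subgroup A).map e.toMonoidHom := by
      ext x
      simp [Subgroup.mem_map, Subgroup.mem_comap]
      constructor
      · intro h
        exact ⟨_, h, by simp⟩
      · rintro ⟨y, hy, rfl⟩
        simpa using hy
    rw [this]
    exact Subgroup.card_map_of_injective e.injective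
  rw [← h5]
  exact h4

/-- Lemma E1: with `N` normal simple of even order with abelian Sylow 2-subgroup `Q` and trivial
centralizer, every 2-element centralizing `Q` lies in `N`. -/
theorem mem_of_centralizes_sylow {H : Type u} [Group H] [Finite H] (N : Subgroup H) [N.Normal]
    [IsSimpleGroup ↥N] (h2 : 2 ∣ Nat.card ↥N) (hNc : Subgroup.centralizer (N : Set H) = ⊥)
    (Q : Sylow 2 ↥N) (hQab : IsMulCommutative (Q : Subgroup ↥N))
    (v : H) (hv2 : ∃ j : ℕ, orderOf v = 2 ^ j)
    (hvQ : ∀ x ∈ (Q : Subgroup ↥N), v * (x : H) = (x : H) * v) : v ∈ N := by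
  set α : MulAut ↥N := MulAut.conjNormal v with hα
  obtain ⟨j, hj⟩ := hv2
  have ho : ∃ i : ℕ, orderOf α = 2 ^ i := by
    have h1 : orderOf α ∣ orderOf v := orderOf_map_dvd (MulAut.conjNormal (H := N)) v
    rw [hj] at h1
    obtain ⟨i, _, hi⟩ := (Nat.dvd_prime_pow Nat.prime_two).mp h1
    exact ⟨i, hi⟩
  have hfix : ∀ x ∈ (Q : Subgroup ↥N), α x = x := by
    intro x hx
    apply Subtype.ext
    rw [hα, MulAut.conjNormal_apply, hvQ x hx]
    group
  obtain ⟨n, hn⟩ := Cfsg.Agent.Lib.Helper58.AutInner.aut_inner zstarHyp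
    (pPrimeCore_eq_bot_of_simple h2) Q hQab α ho hfix
  have hc : (n : H)⁻¹ * v ∈ Subgroup.centralizer (N : Set H) := by
    rw [Subgroup.mem_centralizer_iff]
    intro x hx
    have h1 := congrArg Subtype.val (hn ⟨x, hx⟩)
    rw [hα, MulAut.conjNormal_apply] at h1
    have h3 : v * x * v⁻¹ = (n : H) * x * (n : H)⁻¹ := by simpa using h1
    have h4 : v * x = (n : H) * x * (n : H)⁻¹ * v := by rw [← h3]; group
    calc x * ((n : H)⁻¹ * v) = (n : H)⁻¹ * ((n : H) * x * (n : H)⁻¹ * v) := by group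
      _ = (n : H)⁻¹ * (v * x) := by rw [h4]
      _ = (n : H)⁻¹ * v * x := by group
  rw [hNc, Subgroup.mem_bot] at hc
  have : v = (n : H) := by
    calc v = (n : H) * ((n : H)⁻¹ * v) := by group
      _ = (n : H) := by rw [hc, mul_one]
  rw [this]
  exact n.2

end Generic

section Structure

/-- `PSL(2, q)`, `q` odd, has even order. -/
theorem psl2_even {F : Type v} [Field F] [Fintype F] (hFo : Odd (Fintype.card F)) :
    2 ∣ Nat.card (Matrix.ProjectiveSpecialLinearGroup (Fin 2) F) := by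
  haveI : Fact (Nat.Prime 2) := ⟨Nat.prime_two⟩
  have hodd : Fintype.card F % 2 = 1 := Nat.odd_iff.mp hFo
  let P : Sylow 2 (Matrix.ProjectiveSpecialLinearGroup (Fin 2) F) := default
  have hne := (Cfsg.Agent.Lib.Helper98.PSL2Fusion.sylow_gen_involutions hodd P).1
  obtain ⟨k, hk⟩ := P.isPGroup'.exists_card_eq
  have hk0 : k ≠ 0 := by
    rintro rfl
    rw [pow_zero, Subgroup.card_eq_one] at hk
    exact hne hk
  have h1 : 2 ∣ Nat.card ↥(P : Subgroup (Matrix.ProjectiveSpecialLinearGroup (Fin 2) F)) := by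
    rw [hk]
    exact dvd_pow_self 2 hk0
  exact h1.trans (Subgroup.card_subgroup_dvd_card _)

/-- The 2-structure of a group of Janko–Ree type. -/
theorem sylow_structure {G : Type u} [Group G] [Finite G] [IsSimpleGroup G]
    (hG : ¬ IsMulCommutative G) (hab : ∀ S : Sylow 2 G, IsMulCommutative ↥(S : Subgroup G))
    (t : G) (ht : orderOf t = 2)
    (E : Subgroup G)
    (hE : Cfsg.IsInternalDirectProduct (Subgroup.zpowers t) E (Subgroup.centralizer ({t} : Set G)))
    {F : Type v} [Field F] [Fintype F] (hFo : Odd (Fintype.card F)) (hF3 : 3 < Fintype.card F)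
    (N : Subgroup ↥E) [N.Normal] (e : ↥N ≃* Matrix.ProjectiveSpecialLinearGroup (Fin 2) F)
    (hNc : Subgroup.centralizer (N : Set ↥E) = ⊥) :
    ∃ (S : Sylow 2 G) (D QG : Subgroup G) (g : G),
      D ≤ Subgroup.centralizer ({t} : Set G) ∧ ⁅D, D⁆ = D ∧ QG ≤ D ∧ QG ≤ (S : Subgroup G) ∧
      t ∈ (S : Subgroup G) ∧ t ∉ QG ∧ Nat.card QG = 4 ∧
      (∀ s ∈ (S : Subgroup G), s ∈ QG ∨ t * s ∈ QG) ∧ g * t * g⁻¹ ∈ QG := by
  classical
  haveI : Fact (Nat.Prime 2) := ⟨Nat.prime_two⟩
  obtain ⟨hzC, hEC, hcomm, hinf, hsup⟩ := hE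
  haveI hPSLs := psl2_simple (F := F) hF3
  haveI : Nontrivial ↥N := e.toEquiv.nontrivial
  haveI hNs : IsSimpleGroup ↥N :=
    IsSimpleGroup.isSimpleGroup_of_surjective e.symm.toMonoidHom e.symm.surjective
  have hN2 : 2 ∣ Nat.card ↥N := by
    rw [Nat.card_congr e.toEquiv]
    exact psl2_even hFo
  let Q : Sylow 2 ↥N := default
  set QE : Subgroup ↥E := (Q : Subgroup ↥N).map N.subtype with hQE
  set QG : Subgroup G := QE.map E.subtype with hQG
  set D : Subgroup G := N.map E.subtype with hD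
  have hQEN : QE ≤ N := Subgroup.map_subtype_le _
  have hQD : QG ≤ D := Subgroup.map_mono hQEN
  have hDE : D ≤ E := Subgroup.map_subtype_le _
  have hQGE : QG ≤ E := hQD.trans hDE
  have hQG2 : IsPGroup 2 ↥QG := (Q.isPGroup'.map _).map _
  have hz2 : IsPGroup 2 ↥(Subgroup.zpowers t) := by
    apply IsPGroup.of_card (n := 1)
    rw [Nat.card_zpowers, ht, pow_one]
  have hznorm : Subgroup.zpowers t ≤ Subgroup.normalizer (QG : Set G) := by
    refine le_trans ?_ (Subgroup.centralizer_le_normalizer _)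
    intro a ha
    rw [Subgroup.mem_centralizer_iff]
    intro b hb
    exact (hcomm a ha b (hQGE hb)).symm
  have hT0 : IsPGroup 2 ↥(Subgroup.zpowers t ⊔ QG) :=
    IsPGroup.to_sup_of_normal_right' hz2 hQG2 hznorm
  obtain ⟨S, hS⟩ := hT0.exists_le_sylow
  have hSab := hab S
  have htS : t ∈ (S : Subgroup G) := hS (Subgroup.mem_sup_left (Subgroup.mem_zpowers t))
  have hQS : QG ≤ (S : Subgroup G) := le_sup_right.trans hS
  have hScomm : ∀ x ∈ (S : Subgroup G), ∀ y ∈ (S : Subgroup G), x * y = y * x := by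
    intro x hx y hy
    exact congrArg Subtype.val (hSab.is_comm.comm ⟨x, hx⟩ ⟨y, hy⟩)
  have ht1 : t ≠ 1 := by
    rintro rfl
    rw [orderOf_one] at ht
    omega
  have htQ : t ∉ QG := by
    intro h
    have : t ∈ Subgroup.zpowers t ⊓ E := ⟨Subgroup.mem_zpowers t, hQGE h⟩
    rw [hinf, Subgroup.mem_bot] at this
    exact ht1 this
  -- `Q` is abelian
  have hmemQG : ∀ x : ↥N, x ∈ (Q : Subgroup ↥N) → ((x : ↥E) : G) ∈ QG := by
    intro x hx
    exact ⟨(x : ↥E), ⟨x, hx, rfl⟩, rfl⟩
  have hQab : IsMulCommutative (Q : Subgroup ↥N) := by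
    refine ⟨⟨?_⟩⟩
    rintro ⟨x, hx⟩ ⟨y, hy⟩
    have := hScomm _ (hQS (hmemQG x hx)) _ (hQS (hmemQG y hy))
    apply Subtype.ext
    apply Subtype.ext
    apply Subtype.ext
    exact this
  have hcardQ : Nat.card (Q : Subgroup ↥N) = 4 := abelian_sylow_card_of_equiv hFo hF3 e Q hQab
  have hcardQG : Nat.card QG = 4 := by
    rw [hQG, Subgroup.card_map_of_injective E.subtype_injective, hQE,
      Subgroup.card_map_of_injective N.subtype_injective]
    exact hcardQ
  -- `S ⊓ E ≤ QG`
  have hSE : ∀ b ∈ (S : Subgroup G), b ∈ E → b ∈ QG := by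
    intro b hbS hbE
    set v : ↥E := ⟨b, hbE⟩ with hv
    have hv2 : ∃ j : ℕ, orderOf v = 2 ^ j := by
      obtain ⟨k, hk⟩ := S.isPGroup' ⟨b, hbS⟩
      have h1 : b ^ 2 ^ k = 1 := by
        have := congrArg Subtype.val hk
        simpa using this
      have h2 : v ^ 2 ^ k = 1 := by
        apply Subtype.ext
        simpa using h1
      obtain ⟨j, _, hj⟩ := (Nat.dvd_prime_pow Nat.prime_two).mp (orderOf_dvd_of_pow_eq_one h2)
      exact ⟨j, hj⟩
    have hvQ : ∀ x ∈ (Q : Subgroup ↥N), v * (x : ↥E) = (x : ↥E) * v := by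
      intro x hx
      apply Subtype.ext
      exact hScomm _ hbS _ (hQS (hmemQG x hx))
    have hvN : v ∈ N := mem_of_centralizes_sylow N hN2 hNc Q hQab v hv2 hvQ
    -- maximality of the Sylow subgroup `Q`
    set R : Subgroup ↥N := ((S : Subgroup G).comap E.subtype).comap N.subtype with hR
    have hR2 : IsPGroup 2 ↥R :=
      (S.isPGroup'.comap_of_injective E.subtype E.subtype_injective).comap_of_injective
        N.subtype N.subtype_injective
    have hQR : (Q : Subgroup ↥N) ≤ R := by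
      intro x hx
      exact hQS (hmemQG x hx)
    have hRQ := Q.is_maximal' hR2 hQR
    have hvR : (⟨v, hvN⟩ : ↥N) ∈ R := hbS
    rw [hRQ] at hvR
    exact hmemQG _ hvR
  have hall : ∀ s ∈ (S : Subgroup G), s ∈ QG ∨ t * s ∈ QG := by
    intro s hs
    have hsC : s ∈ Subgroup.centralizer ({t} : Set G) := by
      rw [Subgroup.mem_centralizer_singleton_iff]
      exact hScomm s hs t htS
    rw [← hsup] at hsC
    obtain ⟨a, ha, b, hb, rfl⟩ := exists_mul_of_mem_sup _ _ hcomm hsC
    have haS : a ∈ (S : Subgroup G) := hS (Subgroup.mem_sup_left ha)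
    have hbS : b ∈ (S : Subgroup G) := by
      have : b = a⁻¹ * (a * b) := by group
      rw [this]
      exact mul_mem (inv_mem haS) hs
    have hbQ := hSE b hbS hb
    rcases eq_one_or_eq_of_mem_zpowers ht ha with rfl | rfl
    · left
      simpa using hbQ
    · right
      have htt : a * a = 1 := by
        have := pow_orderOf_eq_one a
        rw [ht, pow_two] at this
        exact this
      rw [← mul_assoc, htt, one_mul]
      exact hbQ
  -- the relative index of `QG` in `S`
  have hrel : QG.relIndex (S : Subgroup G) = 2 := by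
    rw [Subgroup.relIndex, Subgroup.index_eq_two_iff]
    refine ⟨⟨t, htS⟩, ?_⟩
    rintro ⟨s, hs⟩
    rw [Subgroup.mem_subgroupOf, Subgroup.mem_subgroupOf]
    show Xor (s * t ∈ QG) (s ∈ QG)
    rcases hall s hs with h | h
    · right
      refine ⟨h, ?_⟩
      intro h2
      apply htQ
      have : t = s⁻¹ * (s * t) := by group
      rw [this]
      exact mul_mem (inv_mem h) h2
    · left
      rw [hScomm s hs t htS]
      refine ⟨h, ?_⟩
      intro h2
      apply htQ
      have : t = (t * s) * s⁻¹ := by group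
      rw [this]
      exact mul_mem h (inv_mem h2)
  -- Thompson transfer
  have hfus : ∃ g : G, g * t * g⁻¹ ∈ QG := by
    rcases Cfsg.Agent.S0111.result S QG hQS hrel t ht htS htQ with ⟨M, hMn, hMi, _⟩ | h
    · exfalso
      rcases hMn.eq_bot_or_eq_top with rfl | rfl
      · rw [Subgroup.index_bot] at hMi
        haveI := isCyclic_of_prime_card hMi
        apply hG
        exact ⟨⟨fun a b => IsCyclic.commGroup.mul_comm a b⟩⟩
      · rw [Subgroup.index_top] at hMi
        omega
    · exact h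
  obtain ⟨g, hg⟩ := hfus
  -- `D` is perfect
  have hDperf : ⁅D, D⁆ = D := by
    have h1 : _root_.commutator ↥N = ⊤ := by
      have h2 := psl2_perfect (F := F) hF3
      have h3 : (_root_.commutator (Matrix.ProjectiveSpecialLinearGroup (Fin 2) F)).map
          e.symm.toMonoidHom = ⊤ := by
        rw [h2, ← MonoidHom.range_eq_map, MonoidHom.range_eq_top]
        exact e.symm.surjective
      rw [_root_.commutator, Subgroup.map_commutator, ← MonoidHom.range_eq_map,
        MonoidHom.range_eq_top.mpr e.symm.surjective] at h3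
      exact h3
    have h4 : Subgroup.map (E.subtype.comp N.subtype) ⁅(⊤ : Subgroup ↥N), (⊤ : Subgroup ↥N)⁆ = D := by
      have h1' : ⁅(⊤ : Subgroup ↥N), ⊤⁆ = ⊤ := h1
      rw [h1', ← MonoidHom.range_eq_map, hD, MonoidHom.range_comp, Subgroup.range_subtype]
    rw [Subgroup.map_commutator, ← MonoidHom.range_eq_map, MonoidHom.range_comp,
      Subgroup.range_subtype] at h4
    exact h4
  exact ⟨S, D, QG, g, hDE.trans hEC, hDperf, hQD, hQS, htS, htQ, hcardQG, hall, hg⟩

end Structure

section Cover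

universe w

variable {L : Type w} {G : Type u} [Group L] [Group G]

/-- Commutation with a fixed element `c`, as a homomorphism into a central subgroup. -/
def commHom (Z K : Subgroup L) (hZ : Z ≤ Subgroup.center L) (c : L)
    (hK : ∀ y ∈ K, y * c * y⁻¹ * c⁻¹ ∈ Z) : ↥K →* ↥Z where
  toFun y := ⟨(y : L) * c * (y : L)⁻¹ * c⁻¹, hK y y.2⟩
  map_one' := by
    apply Subtype.ext
    simp
  map_mul' := by
    intro a b
    apply Subtype.ext
    have hb := Subgroup.mem_center_iff.mp (hZ (hK b b.2))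
    show ((a : L) * (b : L)) * c * ((a : L) * (b : L))⁻¹ * c⁻¹ =
      ((a : L) * c * (a : L)⁻¹ * c⁻¹) * ((b : L) * c * (b : L)⁻¹ * c⁻¹)
    rw [hb ((a : L) * c * (a : L)⁻¹ * c⁻¹)]
    have h2 := hb (a : L)
    calc ((a : L) * (b : L)) * c * ((a : L) * (b : L))⁻¹ * c⁻¹
        = ((a : L) * ((b : L) * c * (b : L)⁻¹ * c⁻¹)) * (c * (a : L)⁻¹ * c⁻¹) := by group
      _ = (((b : L) * c * (b : L)⁻¹ * c⁻¹) * (a : L)) * (c * (a : L)⁻¹ * c⁻¹) := by rw [h2]
      _ = ((b : L) * c * (b : L)⁻¹ * c⁻¹) * ((a : L) * c * (a : L)⁻¹ * c⁻¹) := by group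

theorem commHom_apply (Z K : Subgroup L) (hZ : Z ≤ Subgroup.center L) (c : L)
    (hK : ∀ y ∈ K, y * c * y⁻¹ * c⁻¹ ∈ Z) (y : ↥K) :
    ((commHom Z K hZ c hK y : ↥Z) : L) = (y : L) * c * (y : L)⁻¹ * c⁻¹ := rfl

/-- Any lift of `t` to a central 2-extension commutes with the full preimage of `C_G(t)`. -/
theorem lift_commutes [Finite L] [Finite G] (π : L →* G) (hπ : Function.Surjective π)
    (hker : π.ker ≤ Subgroup.center L) (hker2 : IsPGroup 2 ↥π.ker)
    (S : Sylow 2 G) (t : G) (D : Subgroup G) (hDt : D ≤ Subgroup.centralizer ({t} : Set G))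
    (hDperf : ⁅D, D⁆ = D)
    (hSt : ∀ s ∈ (S : Subgroup G), s * t = t * s)
    (hS : ∀ s ∈ (S : Subgroup G), s ∈ D ∨ t * s ∈ D)
    (c : L) (hc : π c = t) (y : L) (hy : π y * t = t * π y) : y * c = c * y := by
  classical
  haveI : Fact (Nat.Prime 2) := ⟨Nat.prime_two⟩
  set K : Subgroup L := (Subgroup.centralizer ({t} : Set G)).comap π with hKdef
  have hK : ∀ y ∈ K, y * c * y⁻¹ * c⁻¹ ∈ π.ker := by
    intro y hy
    rw [hKdef, Subgroup.mem_comap, Subgroup.mem_centralizer_singleton_iff] at hy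
    rw [MonoidHom.mem_ker]
    simp only [map_mul, map_inv, hc]
    rw [hy]
    group
  set f := commHom π.ker K hker c hK with hf
  have hkercomm : ∀ a b : ↥π.ker, a * b = b * a := by
    intro a b
    exact Subtype.ext (Subgroup.mem_center_iff.mp (hker b.2) a)
  -- `D` is covered by the centralizer of `c`
  have hDc : D ≤ (Subgroup.centralizer ({c} : Set L)).map π := by
    rw [← hDperf, Subgroup.commutator_le]
    intro a ha b hb
    obtain ⟨a', rfl⟩ := hπ a
    obtain ⟨b', rfl⟩ := hπ b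
    have ha' : a' ∈ K := hDt ha
    have hb' : b' ∈ K := hDt hb
    refine ⟨⁅a', b'⁆, ?_, map_commutatorElement π a' b'⟩
    have h1 : f ⁅(⟨a', ha'⟩ : ↥K), ⟨b', hb'⟩⁆ = 1 := by
      rw [map_commutatorElement, commutatorElement_eq_one_iff_commute]
      exact hkercomm _ _
    have h2 := congrArg Subtype.val h1
    rw [hf, commHom_apply] at h2
    show ⁅a', b'⁆ ∈ Subgroup.centralizer ({c} : Set L)
    rw [Subgroup.mem_centralizer_singleton_iff]
    have h3 : ⁅a', b'⁆ * c * ⁅a', b'⁆⁻¹ * c⁻¹ = 1 := h2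
    calc ⁅a', b'⁆ * c = (⁅a', b'⁆ * c * ⁅a', b'⁆⁻¹ * c⁻¹) * (c * ⁅a', b'⁆) := by group
      _ = c * ⁅a', b'⁆ := by rw [h3, one_mul]
  -- lifts of elements of `D` commute with `c`
  have hDlift : ∀ x : L, π x ∈ D → x * c = c * x := by
    intro x hx
    obtain ⟨x', hx', hxx⟩ := hDc hx
    have hx'' : x' ∈ Subgroup.centralizer ({c} : Set L) := hx'
    rw [Subgroup.mem_centralizer_singleton_iff] at hx''
    have hz : x'⁻¹ * x ∈ π.ker := by
      rw [MonoidHom.mem_ker, map_mul, map_inv, hxx]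
      group
    have hzc := Subgroup.mem_center_iff.mp (hker hz) c
    calc x * c = x' * ((x'⁻¹ * x) * c) := by group
      _ = x' * (c * (x'⁻¹ * x)) := by rw [hzc]
      _ = (x' * c) * (x'⁻¹ * x) := by group
      _ = (c * x') * (x'⁻¹ * x) := by rw [hx'']
      _ = c * x := by group
  set S' : Subgroup L := (S : Subgroup G).comap π with hS'
  have hS'K : S' ≤ K := by
    intro x hx
    rw [hKdef, Subgroup.mem_comap, Subgroup.mem_centralizer_singleton_iff]
    exact hSt _ hx
  have hS'c : ∀ x ∈ S', x * c = c * x := by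
    intro x hx
    rcases hS (π x) hx with h | h
    · exact hDlift x h
    · have h1 : π (c * x) ∈ D := by rw [map_mul, hc]; exact h
      have h2 := hDlift (c * x) h1
      have h3 : c * (x * c) = c * (c * x) := by rw [← mul_assoc, h2]
      exact mul_left_cancel h3
  have hle : S'.subgroupOf K ≤ f.ker := by
    intro x hx
    rw [Subgroup.mem_subgroupOf] at hx
    rw [MonoidHom.mem_ker]
    apply Subtype.ext
    rw [hf, commHom_apply, hS'c _ hx]
    simp
  have hodd : ¬ 2 ∣ f.ker.index := by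
    intro h
    have h1 : f.ker.index ∣ (S'.subgroupOf K).index := Subgroup.index_dvd_of_le hle
    have h2 : (S'.subgroupOf K).index ∣ S'.index := Subgroup.relIndex_dvd_index_of_le hS'K
    have h3 : S'.index = (S : Subgroup G).index := Subgroup.index_comap_of_surjective _ hπ
    rw [h3] at h2
    exact S.not_dvd_index (h.trans (h1.trans h2))
  have hpow : ∃ n : ℕ, f.ker.index = 2 ^ n := by
    rw [Subgroup.index_ker]
    exact (IsPGroup.iff_card.mp (hker2.to_subgroup f.range))
  obtain ⟨n, hn⟩ := hpow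
  have hn0 : n = 0 := by
    by_contra h
    apply hodd
    rw [hn]
    exact dvd_pow_self 2 h
  rw [hn0, pow_zero, Subgroup.index_eq_one] at hn
  have hyK : y ∈ K := by
    rw [hKdef, Subgroup.mem_comap, Subgroup.mem_centralizer_singleton_iff]
    exact hy
  have hfy : (⟨y, hyK⟩ : ↥K) ∈ f.ker := by rw [hn]; trivial
  rw [MonoidHom.mem_ker] at hfy
  have h2 := congrArg Subtype.val hfy
  rw [hf, commHom_apply] at h2
  have h3 : y * c * y⁻¹ * c⁻¹ = 1 := h2
  calc y * c = (y * c * y⁻¹ * c⁻¹) * (c * y) := by group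
    _ = c * y := by rw [h3, one_mul]

/-- A perfect central extension by a 2-group of a group with the 2-structure of a group of
Janko–Ree type is trivial. -/
theorem no_two_cover [Finite L] [Finite G] (π : L →* G) (hπ : Function.Surjective π)
    (hker : π.ker ≤ Subgroup.center L) (hker2 : IsPGroup 2 ↥π.ker)
    (hperf : _root_.commutator L = ⊤)
    (S : Sylow 2 G) (hSab : IsMulCommutative ↥(S : Subgroup G)) (t : G) (ht : orderOf t = 2)
    (D QG : Subgroup G) (g : G)
    (hDt : D ≤ Subgroup.centralizer ({t} : Set G)) (hDperf : ⁅D, D⁆ = D) (hQD : QG ≤ D)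
    (hQS : QG ≤ (S : Subgroup G)) (htS : t ∈ (S : Subgroup G))
    (hcard : Nat.card QG = 4) (hall : ∀ s ∈ (S : Subgroup G), s ∈ QG ∨ t * s ∈ QG)
    (hg : g * t * g⁻¹ ∈ QG) : π.ker = ⊥ := by
  classical
  haveI : Fact (Nat.Prime 2) := ⟨Nat.prime_two⟩
  have hScomm : ∀ x ∈ (S : Subgroup G), ∀ y ∈ (S : Subgroup G), x * y = y * x := by
    intro x hx y hy
    exact congrArg Subtype.val (hSab.is_comm.comm ⟨x, hx⟩ ⟨y, hy⟩)
  set S' : Subgroup L := (S : Subgroup G).comap π with hS'
  have hI : ∀ c, π c = t → ∀ y, π y * t = t * π y → y * c = c * y :=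
    fun c hc y hy => lift_commutes π hπ hker hker2 S t D hDt hDperf
      (fun s hs => hScomm s hs t htS)
      (fun s hs => (hall s hs).imp (fun h => hQD h) (fun h => hQD h)) c hc y hy
  set v : G := g * t * g⁻¹ with hv
  have hII : ∀ c, π c = v → ∀ y, π y * v = v * π y → y * c = c * y := by
    intro c hc y hy
    obtain ⟨g', hg'⟩ := hπ g
    have h1 : π (g'⁻¹ * c * g') = t := by
      simp only [map_mul, map_inv, hc, hg', hv]
      group
    have h2 : π (g'⁻¹ * y * g') * t = t * π (g'⁻¹ * y * g') := by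
      simp only [map_mul, map_inv, hg']
      calc g⁻¹ * π y * g * t = g⁻¹ * (π y * (g * t * g⁻¹)) * g := by group
        _ = g⁻¹ * ((g * t * g⁻¹) * π y) * g := by rw [← hv, hy]
        _ = t * (g⁻¹ * π y * g) := by group
    have h3 := hI _ h1 _ h2
    calc y * c = g' * ((g'⁻¹ * y * g') * (g'⁻¹ * c * g')) * g'⁻¹ := by group
      _ = g' * ((g'⁻¹ * c * g') * (g'⁻¹ * y * g')) * g'⁻¹ := by rw [h3]
      _ = c * y := by group
  have hkerC : ∀ z ∈ π.ker, ∀ y, y * z = z * y :=
    fun z hz y => Subgroup.mem_center_iff.mp (hker hz) y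
  have hvS : v ∈ (S : Subgroup G) := hQS hg
  have hv2 : orderOf v = 2 := by
    have := (MulAut.conj g).orderOf_eq t
    rw [MulAut.conj_apply, ht] at this
    exact this
  have hA : ∀ x, π x ∈ Subgroup.zpowers v → ∀ y ∈ S', y * x = x * y := by
    intro x hx y hy
    rcases eq_one_or_eq_of_mem_zpowers hv2 hx with h | h
    · exact hkerC x (MonoidHom.mem_ker.mpr h) y
    · exact hII x h y (hScomm _ hy _ hvS)
  have hAQ : Subgroup.zpowers v ≤ QG := by
    rw [Subgroup.zpowers_le]
    exact hg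
  have hidx : ((Subgroup.zpowers v).subgroupOf QG).index = 2 := by
    have h1 := Subgroup.card_mul_index ((Subgroup.zpowers v).subgroupOf QG)
    rw [hcard, Nat.card_congr (Subgroup.subgroupOfEquivOfLe hAQ).toEquiv, Nat.card_zpowers,
      hv2] at h1
    omega
  have hQcomm : ∀ y1 y2, π y1 ∈ QG → π y2 ∈ QG → y1 * y2 = y2 * y1 := by
    intro y1 y2 h1 h2
    have hy1 : y1 ∈ S' := hQS h1
    have hy2 : y2 ∈ S' := hQS h2
    by_cases ha : π y1 ∈ Subgroup.zpowers v
    · exact (hA y1 ha y2 hy2).symm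
    by_cases hb : π y2 ∈ Subgroup.zpowers v
    · exact hA y2 hb y1 hy1
    have h3 : π (y1⁻¹ * y2) ∈ Subgroup.zpowers v := by
      have := Subgroup.mul_mem_iff_of_index_two hidx (a := (⟨π y1, h1⟩ : ↥QG)⁻¹)
        (b := (⟨π y2, h2⟩ : ↥QG))
      rw [Subgroup.mem_subgroupOf, Subgroup.mem_subgroupOf, Subgroup.mem_subgroupOf] at this
      rw [map_mul, map_inv]
      refine this.mpr ⟨fun h => ?_, fun h => ?_⟩
      · exfalso
        apply ha
        have h5 : (π y1)⁻¹ ∈ Subgroup.zpowers v := h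
        simpa using inv_mem h5
      · exact absurd h hb
    have h4 := hA _ h3 y1 hy1
    calc y1 * y2 = y1 * (y1 * (y1⁻¹ * y2)) := by group
      _ = y1 * ((y1⁻¹ * y2) * y1) := by rw [h4]
      _ = y2 * y1 := by group
  obtain ⟨c, hc⟩ := hπ t
  have hcC : ∀ y ∈ S', y * c = c * y := fun y hy => hI c hc y (hScomm _ hy _ htS)
  have hstep : ∀ y1 ∈ S', ∀ y2, π y2 ∈ QG → y1 * y2 = y2 * y1 := by
    intro y1 hy1 y2 h2
    rcases hall _ hy1 with h | h
    · exact hQcomm y1 y2 h h2
    · have h1 : π (c * y1) ∈ QG := by rw [map_mul, hc]; exact h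
      have h3 := hQcomm (c * y1) y2 h1 h2
      have h4 := hcC y2 (hQS h2)
      have : c * (y1 * y2) = c * (y2 * y1) := by
        calc c * (y1 * y2) = c * y1 * y2 := by group
          _ = y2 * (c * y1) := h3
          _ = (y2 * c) * y1 := by group
          _ = (c * y2) * y1 := by rw [h4]
          _ = c * (y2 * y1) := by group
      exact mul_left_cancel this
  have hS'comm : ∀ y1 ∈ S', ∀ y2 ∈ S', y1 * y2 = y2 * y1 := by
    intro y1 hy1 y2 hy2
    rcases hall _ hy2 with h | h
    · exact hstep y1 hy1 y2 h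
    · have h2 : π (c * y2) ∈ QG := by rw [map_mul, hc]; exact h
      have h3 := hstep y1 hy1 (c * y2) h2
      have h4 := hcC y1 hy1
      have : c * (y1 * y2) = c * (y2 * y1) := by
        calc c * (y1 * y2) = (c * y1) * y2 := by group
          _ = (y1 * c) * y2 := by rw [h4]
          _ = y1 * (c * y2) := by group
          _ = c * y2 * y1 := h3
          _ = c * (y2 * y1) := by group
      exact mul_left_cancel this
  haveI : IsMulCommutative ↥S' := ⟨⟨fun a b => Subtype.ext (hS'comm a a.2 b b.2)⟩⟩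
  rw [eq_bot_iff]
  intro z hz
  rw [Subgroup.mem_bot]
  have key : ∀ (k : ℕ) (g₀ : L), g₀⁻¹ * z ^ k * g₀ ∈ S' → g₀⁻¹ * z ^ k * g₀ = z ^ k := by
    intro k g₀ _
    have := Subgroup.mem_center_iff.mp (hker (pow_mem hz k)) g₀
    calc g₀⁻¹ * z ^ k * g₀ = g₀⁻¹ * (z ^ k * g₀) := by group
      _ = g₀⁻¹ * (g₀ * z ^ k) := by rw [this]
      _ = z ^ k := by group
  have hT := MonoidHom.transfer_eq_pow (MonoidHom.id ↥S') z key
  have htriv : (MonoidHom.transfer (MonoidHom.id ↥S')) z = 1 := by
    have := Abelianization.commutator_subset_ker (MonoidHom.transfer (MonoidHom.id ↥S'))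
    rw [hperf] at this
    exact MonoidHom.mem_ker.mp (this (Subgroup.mem_top z))
  rw [htriv] at hT
  have h1 : z ^ S'.index = 1 := by
    have := congrArg Subtype.val hT
    simpa using this.symm
  obtain ⟨k, hk⟩ := hker2 ⟨z, hz⟩
  have h2 : z ^ 2 ^ k = 1 := by simpa using congrArg Subtype.val hk
  have hidx' : S'.index = (S : Subgroup G).index := Subgroup.index_comap_of_surjective _ hπ
  have hcop : Nat.Coprime S'.index (2 ^ k) := by
    apply Nat.Coprime.pow_right
    rw [hidx', Nat.coprime_comm, Nat.Prime.coprime_iff_not_dvd Nat.prime_two]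
    exact S.not_dvd_index
  have h3 : orderOf z ∣ Nat.gcd S'.index (2 ^ k) :=
    Nat.dvd_gcd (orderOf_dvd_of_pow_eq_one h1) (orderOf_dvd_of_pow_eq_one h2)
  rw [hcop] at h3
  exact orderOf_eq_one_iff.mp (Nat.dvd_one.mp h3)

end Cover

end Cfsg.Agent.Lib.Helper58.JankoRee
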