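import Mathlib
import Cfsg.Agent.Lib.Helper58.PFNineDefs
import Cfsg.Agent.Lib.Helper47.PFNineN5
import Cfsg.Agent.Lib.Helper62.PFNineN7

/-!
# Peterfalvi section 9, module [DI]: the Galois / non-Galois dichotomy (helper58)

`galois_or_axis`: in the abstract setting `Ctx K H U W₁ W₂ H₀ p q` of `PFNineDefs`, if `H/H₀` is a
chief factor of `L` (hypothesis `hchief`; the structure `Ctx` does not contain it, but
`Helper59.PF9.exists_ctx_of_typeP` exports it), then either `U/C` acts semiregularly on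
`(H/H₀) \ 1` (`IsGaloisLike`), or there is a `U`-invariant axis `H₁/H₀` of order `p` whose
`W₁`-conjugates generate `H` (`IsAxis`).

Proof: pass to `L ⧸ H₀`; `P = H/H₀` is elementary abelian of order `p ^ q`.  If the image of `U` acts
reducibly on `P`, module N5 (helper47, `exists_isMinInv_card_eq`) gives the axis.  If it acts
irreducibly, module N7 (helper62, `galois_case_facts`) gives semiregularity.
-/

set_option autoImplicit false

namespace Cfsg.Agent.Lib.Helper58.PF9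

open Cfsg
open scoped Pointwise
open scoped commutatorElement

universe u

variable {L : Type u} [Group L]

/-! ### generalities on the quotient map -/

section quot

variable (N : Subgroup L) [N.Normal]

theorem mk_mem_map_iff {A : Subgroup L} (hNA : N ≤ A) {x : L} :
    (QuotientGroup.mk' N) x ∈ A.map (QuotientGroup.mk' N) ↔ x ∈ A := by
  constructor
  · intro hx
    have h1 : x ∈ (A.map (QuotientGroup.mk' N)).comap (QuotientGroup.mk' N) := hx
    rwa [Subgroup.comap_map_eq_self (by rw [QuotientGroup.ker_mk']; exact hNA)] at h1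
  · intro hx
    exact Subgroup.mem_map_of_mem _ hx

theorem mk_eq_one_iff {x : L} : (QuotientGroup.mk' N) x = 1 ↔ x ∈ N := by
  rw [QuotientGroup.mk'_apply, QuotientGroup.eq_one_iff]

theorem card_map_mk (A : Subgroup L) :
    Nat.card (A.map (QuotientGroup.mk' N)) = N.relIndex A := by
  have := Subgroup.relIndex_ker (K := A) (QuotientGroup.mk' N)
  rw [QuotientGroup.ker_mk'] at this
  exact this.symm

theorem map_le_normalizer_map {G' : Type*} [Group G'] (f : L →* G') {A B : Subgroup L}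
    (h : A ≤ Subgroup.normalizer (B : Set L)) :
    A.map f ≤ Subgroup.normalizer ((B.map f : Subgroup G') : Set G') :=
  (Subgroup.map_mono h).trans (Subgroup.le_normalizer_map f)

theorem le_normalizer_comap_of_map_le {G' : Type*} [Group G'] (f : L →* G') {A : Subgroup L}
    {Q : Subgroup G'} (h : A.map f ≤ Subgroup.normalizer (Q : Set G')) :
    A ≤ Subgroup.normalizer ((Q.comap f : Subgroup L) : Set L) := by
  intro a ha
  apply Subgroup.le_normalizer_comap f
  exact h (Subgroup.mem_map_of_mem f ha)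

end quot

/-! ### the quotient `L ⧸ H₀` in the setting `Ctx` -/

section ctx

variable {K H U W₁ W₂ H₀ : Subgroup L} {p q : ℕ}

theorem Ctx.U_le_K (c : Ctx K H U W₁ W₂ H₀ p q) : U ≤ K := by
  rw [← c.HU_sup]; exact le_sup_right

theorem Ctx.H_le_K (c : Ctx K H U W₁ W₂ H₀ p q) : H ≤ K := by
  rw [← c.HU_sup]; exact le_sup_left

/-- `W₁` centralizes `W₂`. -/
theorem Ctx.W₁_comm_W₂ (c : Ctx K H U W₁ W₂ H₀ p q) {w z : L} (hw : w ∈ W₁) (hz : z ∈ W₂) :
    w * z = z * w := by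
  by_cases hw1 : w = 1
  · subst hw1; simp
  · have h1 : z ∈ K ⊓ Subgroup.centralizer ({w} : Set L) := by
      rw [c.cent w hw hw1]; exact hz
    have h2 := (Subgroup.mem_centralizer_iff.mp h1.2) w (Set.mem_singleton w)
    exact h2

/-- `W₁` acts fixed-point-freely on `U`. -/
theorem Ctx.W₁_fpf_U (c : Ctx K H U W₁ W₂ H₀ p q) {w u : L} (hw : w ∈ W₁) (hw1 : w ≠ 1)
    (hu : u ∈ U) (hwu : w * u = u * w) : u = 1 := by
  have h1 : u ∈ K ⊓ Subgroup.centralizer ({w} : Set L) := by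
    refine ⟨c.U_le_K hu, ?_⟩
    show u ∈ Subgroup.centralizer ({w} : Set L)
    rw [Subgroup.mem_centralizer_iff]
    intro y hy
    rw [Set.mem_singleton_iff] at hy
    subst hy
    exact hwu
  rw [c.cent w hw hw1] at h1
  have h2 : u ∈ H ⊓ U := ⟨c.W₂_le h1, hu⟩
  rw [c.HU_inf] at h2
  exact Subgroup.mem_bot.mp h2

variable [hn : H₀.Normal]

/-- `H/H₀` is elementary abelian. -/
theorem Ctx.quot_elemAb (c : Ctx K H U W₁ W₂ H₀ p q) :
    IsElementaryAbelian p (H.map (QuotientGroup.mk' H₀)) := by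
  refine ⟨⟨⟨?_⟩⟩, ?_⟩
  · rintro ⟨a, ha⟩ ⟨b, hb⟩
    obtain ⟨x, hx, rfl⟩ := Subgroup.mem_map.mp ha
    obtain ⟨y, hy, rfl⟩ := Subgroup.mem_map.mp hb
    apply Subtype.ext
    show (QuotientGroup.mk' H₀) x * (QuotientGroup.mk' H₀) y =
      (QuotientGroup.mk' H₀) y * (QuotientGroup.mk' H₀) x
    have h1 : ⁅x, y⁆ ∈ H₀ := c.comm_le (Subgroup.commutator_mem_commutator hx hy)
    have h2 : (QuotientGroup.mk' H₀) ⁅x, y⁆ = 1 := (mk_eq_one_iff H₀).mpr h1
    rw [commutatorElement_def, map_mul, map_mul, map_mul, map_inv, map_inv] at h2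
    calc (QuotientGroup.mk' H₀) x * (QuotientGroup.mk' H₀) y
        = ((QuotientGroup.mk' H₀) x * (QuotientGroup.mk' H₀) y * ((QuotientGroup.mk' H₀) x)⁻¹ *
            ((QuotientGroup.mk' H₀) y)⁻¹) *
            ((QuotientGroup.mk' H₀) y * (QuotientGroup.mk' H₀) x) := by group
      _ = (QuotientGroup.mk' H₀) y * (QuotientGroup.mk' H₀) x := by rw [h2, one_mul]
  · intro a ha
    obtain ⟨x, hx, rfl⟩ := Subgroup.mem_map.mp ha
    rw [← map_pow]
    exact (mk_eq_one_iff H₀).mpr (c.pow_mem x hx)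

theorem Ctx.quot_card_P (c : Ctx K H U W₁ W₂ H₀ p q) :
    Nat.card (H.map (QuotientGroup.mk' H₀)) = p ^ q := by
  rw [card_map_mk, c.relIndex_H₀]

theorem Ctx.quot_card_W (c : Ctx K H U W₁ W₂ H₀ p q) :
    Nat.card (W₁.map (QuotientGroup.mk' H₀)) = q := by
  rw [card_map_mk, ← Subgroup.inf_relIndex_right]
  have h1 : H₀ ⊓ W₁ = ⊥ := by
    apply le_bot_iff.mp
    rw [← c.KW_inf]
    exact inf_le_inf_right _ (c.H₀_le.trans c.H_le_K)
  rw [h1, Subgroup.relIndex_bot_left, c.card_W₁]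

theorem Ctx.quot_fpf (c : Ctx K H U W₁ W₂ H₀ p q) :
    ∀ x ∈ W₁.map (QuotientGroup.mk' H₀), x ≠ 1 → ∀ y ∈ U.map (QuotientGroup.mk' H₀),
      x * y = y * x → y = 1 := by
  intro x hx hx1 y hy hxy
  obtain ⟨w, hw, rfl⟩ := Subgroup.mem_map.mp hx
  obtain ⟨u, hu, rfl⟩ := Subgroup.mem_map.mp hy
  have hw1 : w ≠ 1 := by
    rintro rfl
    exact hx1 (map_one _)
  -- `u⁻¹ * (w⁻¹ * u * w) ∈ H₀ ⊓ U = ⊥`
  have hwinv : w⁻¹ ∈ Subgroup.normalizer (U : Set L) := c.W₁_norm_U (W₁.inv_mem hw)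
  have h1 : w⁻¹ * u * w⁻¹⁻¹ ∈ U := (Subgroup.mem_normalizer_iff.mp hwinv u).mp hu
  rw [inv_inv] at h1
  have h2 : u⁻¹ * (w⁻¹ * u * w) ∈ U := U.mul_mem (U.inv_mem hu) h1
  have h3 : (QuotientGroup.mk' H₀) (u⁻¹ * (w⁻¹ * u * w)) = 1 := by
    rw [map_mul, map_mul, map_mul, map_inv, map_inv]
    calc ((QuotientGroup.mk' H₀) u)⁻¹ *
          (((QuotientGroup.mk' H₀) w)⁻¹ * (QuotientGroup.mk' H₀) u * (QuotientGroup.mk' H₀) w)
        = ((QuotientGroup.mk' H₀) u)⁻¹ * ((QuotientGroup.mk' H₀) w)⁻¹ *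
            ((QuotientGroup.mk' H₀) u * (QuotientGroup.mk' H₀) w) := by group
      _ = ((QuotientGroup.mk' H₀) u)⁻¹ * ((QuotientGroup.mk' H₀) w)⁻¹ *
            ((QuotientGroup.mk' H₀) w * (QuotientGroup.mk' H₀) u) := by rw [hxy]
      _ = 1 := by group
  have h4 : u⁻¹ * (w⁻¹ * u * w) ∈ H ⊓ U := ⟨c.H₀_le ((mk_eq_one_iff H₀).mp h3), h2⟩
  rw [c.HU_inf, Subgroup.mem_bot] at h4
  have h5 : w * u = u * w := by
    have : u * w = w * u * (u⁻¹ * (w⁻¹ * u * w)) := by group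
    rw [h4, mul_one] at this
    exact this.symm
  rw [c.W₁_fpf_U hw hw1 hu h5, map_one]

theorem Ctx.quot_nilp (c : Ctx K H U W₁ W₂ H₀ p q) :
    Group.IsNilpotent (U.map (QuotientGroup.mk' H₀)) := by
  have := c.U_nilpotent
  exact Group.nilpotent_of_surjective ((QuotientGroup.mk' H₀).subgroupMap U)
    ((QuotientGroup.mk' H₀).subgroupMap_surjective U)

theorem Ctx.quot_w₀ (c : Ctx K H U W₁ W₂ H₀ p q) :
    ∃ w₀ ∈ H.map (QuotientGroup.mk' H₀), w₀ ≠ 1 ∧
      ∀ x ∈ W₁.map (QuotientGroup.mk' H₀), x * w₀ = w₀ * x := by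
  have h1 : ∃ z ∈ W₂, z ∉ H₀ := by
    by_contra hcon
    push Not at hcon
    have h2 : H₀ ⊓ W₂ = W₂ := inf_eq_right.mpr hcon
    have h3 := c.relIndex_W₂
    rw [h2, Subgroup.relIndex_self] at h3
    exact c.p_prime.one_lt.ne h3
  obtain ⟨z, hz, hzH₀⟩ := h1
  refine ⟨(QuotientGroup.mk' H₀) z, Subgroup.mem_map_of_mem _ (c.W₂_le hz), ?_, ?_⟩
  · intro h
    exact hzH₀ ((mk_eq_one_iff H₀).mp h)
  · intro x hx
    obtain ⟨w, hw, rfl⟩ := Subgroup.mem_map.mp hx
    rw [← map_mul, ← map_mul, c.W₁_comm_W₂ hw hz]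

end ctx

/-! ### the dichotomy -/

section main

variable {K H U W₁ W₂ H₀ : Subgroup L} {p q : ℕ}

/-- irreducible case: semiregularity pulled back from the quotient -/
theorem galoisLike_of_quot [hn : H₀.Normal] [hH : H.Normal]
    (hsemi : ∀ y ∈ U.map (QuotientGroup.mk' H₀), ∀ x ∈ H.map (QuotientGroup.mk' H₀), x ≠ 1 →
      y * x = x * y →
      y ∈ Subgroup.centralizer ((H.map (QuotientGroup.mk' H₀) : Subgroup (L ⧸ H₀)) : Set (L ⧸ H₀))) :
    IsGaloisLike H U H₀ := by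
  intro x hxU hxC h hh hcomm
  by_contra hh₀
  apply hxC
  rw [mem_coreC_of_normal]
  refine ⟨hxU, ?_⟩
  have h1 : (QuotientGroup.mk' H₀) h ≠ 1 := fun h0 => hh₀ ((mk_eq_one_iff H₀).mp h0)
  have h2 : (QuotientGroup.mk' H₀) x * (QuotientGroup.mk' H₀) h =
      (QuotientGroup.mk' H₀) h * (QuotientGroup.mk' H₀) x := by
    have h3 : (QuotientGroup.mk' H₀) (x * h * x⁻¹ * h⁻¹) = 1 := (mk_eq_one_iff H₀).mpr hcomm
    rw [map_mul, map_mul, map_mul, map_inv, map_inv] at h3
    calc (QuotientGroup.mk' H₀) x * (QuotientGroup.mk' H₀) h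
        = ((QuotientGroup.mk' H₀) x * (QuotientGroup.mk' H₀) h * ((QuotientGroup.mk' H₀) x)⁻¹ *
            ((QuotientGroup.mk' H₀) h)⁻¹) *
            ((QuotientGroup.mk' H₀) h * (QuotientGroup.mk' H₀) x) := by group
      _ = (QuotientGroup.mk' H₀) h * (QuotientGroup.mk' H₀) x := by rw [h3, one_mul]
  have h4 := hsemi _ (Subgroup.mem_map_of_mem _ hxU) _ (Subgroup.mem_map_of_mem _ hh) h1 h2
  intro h' hh'
  have h5 := (Subgroup.mem_centralizer_iff.mp h4) ((QuotientGroup.mk' H₀) h')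
    (Subgroup.mem_map_of_mem _ hh')
  apply (mk_eq_one_iff H₀).mp
  rw [map_mul, map_mul, map_mul, map_inv, map_inv, ← h5]
  group

/-- reducible case: the axis pulled back from the quotient -/
theorem axis_of_quot [hn : H₀.Normal] [hH : H.Normal] (hH₀ : H₀ ≤ H)
    {P₁ : Subgroup (L ⧸ H₀)} (hP₁ : P₁ ≤ H.map (QuotientGroup.mk' H₀))
    (hUP₁ : U.map (QuotientGroup.mk' H₀) ≤ Subgroup.normalizer (P₁ : Set (L ⧸ H₀)))
    (hcard : Nat.card P₁ = p)
    (hsup : (⨆ w : ↥(W₁.map (QuotientGroup.mk' H₀)), MulAut.conj (w : L ⧸ H₀) • P₁) =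
      H.map (QuotientGroup.mk' H₀)) :
    IsAxis H U W₁ H₀ (P₁.comap (QuotientGroup.mk' H₀)) p := by
  have hsurj : Function.Surjective (QuotientGroup.mk' H₀) := QuotientGroup.mk'_surjective H₀
  have hle0 : H₀ ≤ P₁.comap (QuotientGroup.mk' H₀) := by
    intro x hx
    show (QuotientGroup.mk' H₀) x ∈ P₁
    rw [(mk_eq_one_iff H₀).mpr hx]
    exact P₁.one_mem
  have hleH : P₁.comap (QuotientGroup.mk' H₀) ≤ H := by
    intro x hx
    exact (mk_mem_map_iff H₀ hH₀).mp (hP₁ hx)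
  refine ⟨hle0, hleH, ?_, le_normalizer_comap_of_map_le _ hUP₁, ?_⟩
  · rw [← card_map_mk, Subgroup.map_comap_eq_self_of_surjective hsurj, hcard]
  · apply le_antisymm
    · refine iSup_le fun w => ?_
      rintro _ ⟨x, hx, rfl⟩
      exact hH.conj_mem x (hleH hx) (w : L)
    · set J : Subgroup L :=
        ⨆ w : W₁, (P₁.comap (QuotientGroup.mk' H₀)).map (MulAut.conj (w : L)).toMonoidHom with hJ
      have hH₀J : H₀ ≤ J := by
        refine hle0.trans ?_
        refine le_trans ?_ (le_iSup (fun w : W₁ =>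
          (P₁.comap (QuotientGroup.mk' H₀)).map (MulAut.conj (w : L)).toMonoidHom) 1)
        intro x hx
        exact ⟨x, hx, by simp⟩
      have h1 : H.map (QuotientGroup.mk' H₀) ≤ J.map (QuotientGroup.mk' H₀) := by
        rw [← hsup]
        refine iSup_le fun w => ?_
        obtain ⟨w', hw', hww'⟩ := Subgroup.mem_map.mp w.2
        intro y hy
        rw [Cfsg.Agent.Lib.Helper54.mem_conj_smul_iff] at hy
        obtain ⟨b, hb⟩ := hsurj ((w : L ⧸ H₀)⁻¹ * y * (w : L ⧸ H₀))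
        have hb' : b ∈ P₁.comap (QuotientGroup.mk' H₀) := by
          show (QuotientGroup.mk' H₀) b ∈ P₁
          rw [hb]; exact hy
        have h2 : w' * b * w'⁻¹ ∈ J := by
          apply (le_iSup (fun w : W₁ =>
            (P₁.comap (QuotientGroup.mk' H₀)).map (MulAut.conj (w : L)).toMonoidHom) ⟨w', hw'⟩)
          exact ⟨b, hb', by simp⟩
        have h3 : (QuotientGroup.mk' H₀) (w' * b * w'⁻¹) = y := by
          rw [map_mul, map_mul, map_inv, hb, hww']
          group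
        rw [← h3]
        exact Subgroup.mem_map_of_mem _ h2
      intro h hh
      have h4 := h1 (Subgroup.mem_map_of_mem _ hh)
      exact (mk_mem_map_iff H₀ hH₀J).mp h4

omit [Group L] in
theorem le_normalizer_of_comm {G : Type*} [Group G] {P Q : Subgroup G}
    (hc : ∀ a ∈ P, ∀ b ∈ P, a * b = b * a) (hQ : Q ≤ P) :
    P ≤ Subgroup.normalizer (Q : Set G) := by
  intro a ha
  rw [Subgroup.mem_normalizer_iff]
  intro b
  constructor
  · intro hb
    have h1 : a * b * a⁻¹ = b := by rw [hc a ha b (hQ hb)]; group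
    rwa [h1]
  · intro hb
    have hb' : b ∈ P := by
      have h2 : b = a⁻¹ * (a * b * a⁻¹) * a := by group
      rw [h2]
      exact P.mul_mem (P.mul_mem (P.inv_mem ha) (hQ hb)) ha
    have h1 : a * b * a⁻¹ = b := by rw [hc a ha b hb']; group
    rwa [h1] at hb

/-- **Module [DI]** (Peterfalvi (9.6)/(9.7), dichotomy): if `H/H₀` is a chief factor of `L` then we
are in the Galois case or in the non-Galois case. -/
theorem galois_or_axis [Fintype L] (c : Ctx K H U W₁ W₂ H₀ p q)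
    (hchief : ∀ N : Subgroup L, H₀ ≤ N → N ≤ H → N.Normal → N = H₀ ∨ N = H) :
    IsGaloisLike H U H₀ ∨ ∃ H₁ : Subgroup L, IsAxis H U W₁ H₀ H₁ p := by
  classical
  have hn : H₀.Normal := c.H₀_normal
  have hH : H.Normal := c.H_normal
  have hpF : Fact p.Prime := ⟨c.p_prime⟩
  have hsurj : Function.Surjective (QuotientGroup.mk' H₀) := QuotientGroup.mk'_surjective H₀
  have hP := c.quot_elemAb
  have hcard := c.quot_card_P
  have hHtop : Subgroup.normalizer (H : Set L) = ⊤ := Subgroup.normalizer_eq_top_iff.mpr hH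
  have hUP : U.map (QuotientGroup.mk' H₀) ≤
      Subgroup.normalizer ((H.map (QuotientGroup.mk' H₀) : Subgroup (L ⧸ H₀)) : Set (L ⧸ H₀)) :=
    map_le_normalizer_map _ (by rw [hHtop]; exact le_top)
  have hWP : W₁.map (QuotientGroup.mk' H₀) ≤
      Subgroup.normalizer ((H.map (QuotientGroup.mk' H₀) : Subgroup (L ⧸ H₀)) : Set (L ⧸ H₀)) :=
    map_le_normalizer_map _ (by rw [hHtop]; exact le_top)
  have hWU : W₁.map (QuotientGroup.mk' H₀) ≤
      Subgroup.normalizer ((U.map (QuotientGroup.mk' H₀) : Subgroup (L ⧸ H₀)) : Set (L ⧸ H₀)) :=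
    map_le_normalizer_map _ c.W₁_norm_U
  have hcomm : ∀ a ∈ H.map (QuotientGroup.mk' H₀), ∀ b ∈ H.map (QuotientGroup.mk' H₀),
      a * b = b * a := by
    intro a ha b hb
    have := hP.1.is_comm.comm ⟨a, ha⟩ ⟨b, hb⟩
    exact congrArg Subtype.val this
  by_cases hred : ∃ Q : Subgroup (L ⧸ H₀), Q ≤ H.map (QuotientGroup.mk' H₀) ∧
      U.map (QuotientGroup.mk' H₀) ≤ Subgroup.normalizer (Q : Set (L ⧸ H₀)) ∧ Q ≠ ⊥ ∧
      Q ≠ H.map (QuotientGroup.mk' H₀)
  · right
    have hchief' : ∀ Q : Subgroup (L ⧸ H₀), Q ≤ H.map (QuotientGroup.mk' H₀) →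
        U.map (QuotientGroup.mk' H₀) ⊔ W₁.map (QuotientGroup.mk' H₀) ≤
          Subgroup.normalizer (Q : Set (L ⧸ H₀)) →
        Q = ⊥ ∨ Q = H.map (QuotientGroup.mk' H₀) := by
      intro Q hQP hQN
      have h0 : H₀ ≤ Q.comap (QuotientGroup.mk' H₀) := by
        intro x hx
        show (QuotientGroup.mk' H₀) x ∈ Q
        rw [(mk_eq_one_iff H₀).mpr hx]
        exact Q.one_mem
      have h1 : Q.comap (QuotientGroup.mk' H₀) ≤ H := by
        intro x hx
        exact (mk_mem_map_iff H₀ c.H₀_le).mp (hQP hx)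
      have h2 : (Q.comap (QuotientGroup.mk' H₀)).Normal := by
        rw [← Subgroup.normalizer_eq_top_iff, eq_top_iff, ← c.KW_sup, ← c.HU_sup]
        refine sup_le (sup_le ?_ ?_) ?_
        · exact le_normalizer_comap_of_map_le _ (le_normalizer_of_comm hcomm hQP)
        · exact le_normalizer_comap_of_map_le _ (le_sup_left.trans hQN)
        · exact le_normalizer_comap_of_map_le _ (le_sup_right.trans hQN)
      rcases hchief _ h0 h1 h2 with h3 | h3
      · left
        rw [← Subgroup.map_comap_eq_self_of_surjective hsurj Q, h3, QuotientGroup.map_mk'_self]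
      · right
        rw [← Subgroup.map_comap_eq_self_of_surjective hsurj Q, h3]
    obtain ⟨P₁, hP₁, hmin, hc, hsup⟩ :=
      Cfsg.Agent.Lib.Helper47.PF9N5.exists_isMinInv_card_eq p q c.q_prime
        (H.map (QuotientGroup.mk' H₀)) (U.map (QuotientGroup.mk' H₀))
        (W₁.map (QuotientGroup.mk' H₀)) hP hcard hWP hWU hchief' hred
    exact ⟨_, axis_of_quot c.H₀_le hP₁ hmin.2.1 hc hsup⟩
  · left
    have hirr : ∀ Q : Subgroup (L ⧸ H₀), Q ≤ H.map (QuotientGroup.mk' H₀) →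
        U.map (QuotientGroup.mk' H₀) ≤ Subgroup.normalizer (Q : Set (L ⧸ H₀)) →
        Q = ⊥ ∨ Q = H.map (QuotientGroup.mk' H₀) := by
      intro Q h1 h2
      by_contra h3
      push Not at h3
      exact hred ⟨Q, h1, h2, h3.1, h3.2⟩
    obtain ⟨w₀, hw₀, hw₀1, hw₀W⟩ := c.quot_w₀
    have h := (Cfsg.Agent.Lib.Helper62.PF9.galois_case_facts p q c.q_prime
      (H.map (QuotientGroup.mk' H₀)) (U.map (QuotientGroup.mk' H₀))
      (W₁.map (QuotientGroup.mk' H₀)) hP hcard c.quot_card_W hUP hWP hWU c.quot_fpf c.quot_nilp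
      hirr w₀ hw₀ hw₀1 hw₀W).2.1
    exact galoisLike_of_quot h

/-- Bridge for the final assembly: chief-ness in the `G`-form exported by
`Helper59.PF9.exists_ctx_of_typeP` gives the hypothesis `hchief` of `galois_or_axis` for `L = ↥M`. -/
theorem chief_subgroupOf {G : Type*} [Group G] {M A B : Subgroup G} (hAB : A ≤ B) (hB : B ≤ M)
    (h : ∀ N : Subgroup G, A ≤ N → N ≤ B → M ≤ Subgroup.normalizer (N : Set G) →
      N = A ∨ N = B) :
    ∀ N' : Subgroup ↥M, A.subgroupOf M ≤ N' → N' ≤ B.subgroupOf M → N'.Normal →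
      N' = A.subgroupOf M ∨ N' = B.subgroupOf M := by
  intro N' h1 h2 h3
  have hN' : N' = (N'.map M.subtype).subgroupOf M :=
    (Subgroup.comap_map_eq_self_of_injective (Subgroup.subtype_injective M) N').symm
  have hA : A ≤ N'.map M.subtype := by
    intro a ha
    have haM : a ∈ M := hB (hAB ha)
    have : (⟨a, haM⟩ : ↥M) ∈ N' := h1 (Subgroup.mem_subgroupOf.mpr ha)
    exact ⟨⟨a, haM⟩, this, rfl⟩
  have hB' : N'.map M.subtype ≤ B := by
    rintro _ ⟨n, hn, rfl⟩
    exact Subgroup.mem_subgroupOf.mp (h2 hn)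
  have hM : M ≤ Subgroup.normalizer ((N'.map M.subtype : Subgroup G) : Set G) := by
    intro m hm
    rw [Subgroup.mem_normalizer_iff]
    intro x
    constructor
    · rintro ⟨n, hn, rfl⟩
      exact ⟨⟨m, hm⟩ * n * ⟨m, hm⟩⁻¹, h3.conj_mem n hn ⟨m, hm⟩, rfl⟩
    · rintro ⟨n, hn, hnx⟩
      refine ⟨⟨m, hm⟩⁻¹ * n * ⟨m, hm⟩, ?_, ?_⟩
      · have := h3.conj_mem n hn (⟨m, hm⟩⁻¹)
        rwa [inv_inv] at this
      · show m⁻¹ * (M.subtype n) * m = x
        rw [hnx]; group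
  rcases h _ hA hB' hM with h4 | h4
  · left; rw [hN', h4]
  · right; rw [hN', h4]

end main

end Cfsg.Agent.Lib.Helper58.PF9
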