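import Mathlib
import Cfsg.Agent.Lib.Helper58.ConjModule

set_option autoImplicit false

namespace Cfsg.Agent.Lib.Helper58

open MulAction

section
variable {H : Type*} [Group H]

/-- in a faithful action, an element fixing every point is trivial -/
theorem eq_one_of_forall_smul_eq {Δ : Type*} [MulAction H Δ] [FaithfulSMul H Δ] (h : H) (hfix : ∀ δ : Δ, h • δ = δ) : h = 1 :=
  FaithfulSMul.eq_of_smul_eq_smul (α := Δ) (fun δ => by rw [hfix, one_smul])

/-- a nontrivial group acting faithfully acts on a nonempty set -/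
theorem nonempty_of_ne_bot (Δ : Type*) [MulAction H Δ] [FaithfulSMul H Δ] (X : Subgroup H) (hX : X ≠ ⊥) : Nonempty Δ := by
  by_contra hemp
  rw [not_nonempty_iff] at hemp
  apply hX
  rw [Subgroup.eq_bot_iff_forall]
  intro x _
  exact eq_one_of_forall_smul_eq (Δ := Δ) x (fun δ => isEmptyElim δ)


/-- a nontrivial normal subgroup of a faithful primitive group is transitive -/
theorem normal_transitive {Δ : Type*} [MulAction H Δ] [FaithfulSMul H Δ] [IsPreprimitive H Δ] (X : Subgroup H) [X.Normal] (hX : X ≠ ⊥) (δ δ' : Δ) :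
    ∃ x ∈ X, x • δ = δ' := by
  have hfp : fixedPoints X Δ ≠ Set.univ := by
    intro hfp
    apply hX
    rw [Subgroup.eq_bot_iff_forall]
    intro x hx
    apply eq_one_of_forall_smul_eq (Δ := Δ)
    intro δ
    have hmem : δ ∈ fixedPoints X Δ := by rw [hfp]; trivial
    exact hmem ⟨x, hx⟩
  have htr : IsPretransitive X Δ := IsQuasiPreprimitive.isPretransitive_of_normal hfp
  obtain ⟨x, hx⟩ := htr.exists_smul_eq δ δ'
  exact ⟨x, x.2, hx⟩

/-- a nontrivial abelian normal subgroup of a faithful primitive group acts freely -/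
theorem abelian_normal_free {Δ : Type*} [MulAction H Δ] [FaithfulSMul H Δ] [IsPreprimitive H Δ] (X : Subgroup H) [X.Normal] (hX : X ≠ ⊥)
    (hXc : ∀ a ∈ X, ∀ b ∈ X, a * b = b * a) (δ : Δ) (x : H) (hx : x ∈ X) (hfix : x • δ = δ) :
    x = 1 := by
  apply eq_one_of_forall_smul_eq (Δ := Δ)
  intro δ'
  obtain ⟨y, hy, rfl⟩ := normal_transitive X hX δ δ'
  rw [← mul_smul, hXc x hx y hy, mul_smul, hfix]

/-- a nontrivial abelian normal subgroup of a faithful primitive group is self-centralizing -/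
theorem abelian_normal_self_centralizing (Δ : Type*) [MulAction H Δ] [FaithfulSMul H Δ] [IsPreprimitive H Δ] 
    (X : Subgroup H) [X.Normal] (hX : X ≠ ⊥)
    (hXc : ∀ a ∈ X, ∀ b ∈ X, a * b = b * a) (h : H) (hh : ∀ x ∈ X, h * x = x * h) : h ∈ X := by
  obtain ⟨δ⟩ := nonempty_of_ne_bot Δ X hX
  obtain ⟨x, hx, hxδ⟩ := normal_transitive X hX δ (h • δ)
  have hk : x⁻¹ * h = 1 := by
    apply eq_one_of_forall_smul_eq (Δ := Δ)
    intro δ'
    obtain ⟨y, hy, rfl⟩ := normal_transitive X hX δ δ'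
    have hcomm : (x⁻¹ * h) * y = y * (x⁻¹ * h) := by
      have h1 : x⁻¹ * y = y * x⁻¹ := by
        have h2 := hXc x hx y hy
        rw [inv_mul_eq_iff_eq_mul, ← mul_assoc, h2, mul_inv_cancel_right]
      rw [mul_assoc, hh y hy, ← mul_assoc, h1, mul_assoc]
    rw [← mul_smul, hcomm, mul_smul, mul_smul x⁻¹ h δ, ← hxδ, inv_smul_smul]
  have hhx : h = x := by
    have h3 := congrArg (fun z => x * z) hk
    simpa using h3
  rw [hhx]
  exact hx

/-- comparing two abelian normal subgroups of a faithful primitive group -/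
theorem normal_abelian_le (Δ : Type*) [MulAction H Δ] [FaithfulSMul H Δ] [IsPreprimitive H Δ] 
    (X Y : Subgroup H) [hXn : X.Normal] [hYn : Y.Normal]
    (hXc : ∀ a ∈ X, ∀ b ∈ X, a * b = b * a) (hYc : ∀ a ∈ Y, ∀ b ∈ Y, a * b = b * a)
    (hY : Y ≠ ⊥) : X ≤ Y := by
  by_cases hXY : X ⊓ Y = ⊥
  · intro x hx
    apply abelian_normal_self_centralizing Δ Y hY hYc
    intro y hy
    have hmem : x * y * x⁻¹ * y⁻¹ ∈ X ⊓ Y := by
      refine ⟨?_, ?_⟩
      · have h1 : y * x⁻¹ * y⁻¹ ∈ X := hXn.conj_mem _ (X.inv_mem hx) y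
        have h2 := X.mul_mem hx h1
        simpa [mul_assoc] using h2
      · have h1 : x * y * x⁻¹ ∈ Y := hYn.conj_mem _ hy x
        exact Y.mul_mem h1 (Y.inv_mem hy)
    rw [hXY, Subgroup.mem_bot] at hmem
    have h3 := mul_inv_eq_one.mp hmem
    rw [mul_inv_eq_iff_eq_mul] at h3
    exact h3
  · have hXne : X ≠ ⊥ := by
      rintro rfl
      exact hXY (bot_inf_eq Y)
    have hIc : ∀ a ∈ X ⊓ Y, ∀ b ∈ X ⊓ Y, a * b = b * a := fun a ha b hb => hXc a ha.1 b hb.1
    intro x hx
    obtain ⟨δ⟩ := nonempty_of_ne_bot Δ X hXne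
    obtain ⟨z, hz, hzδ⟩ := normal_transitive (Δ := Δ) (X ⊓ Y) hXY δ (x • δ)
    have h1 : z⁻¹ * x = 1 :=
      abelian_normal_free (Δ := Δ) X hXne hXc δ (z⁻¹ * x) (X.mul_mem (X.inv_mem hz.1) hx)
        (by rw [mul_smul, ← hzδ, inv_smul_smul])
    have hxz : x = z := by
      have h3 := congrArg (fun w => z * w) h1
      simpa using h3
    rw [hxz]
    exact hz.2

/-- a normal nilpotent subgroup of a faithful primitive group is abelian -/
theorem normal_nilpotent_abelian (Δ : Type*) [MulAction H Δ] [FaithfulSMul H Δ] [IsPreprimitive H Δ] 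
    (X : Subgroup H) [X.Normal] (hnil : Group.IsNilpotent X) :
    ∀ a ∈ X, ∀ b ∈ X, a * b = b * a := by
  by_cases hX : X = ⊥
  · intro a ha b hb
    rw [hX, Subgroup.mem_bot] at ha hb
    rw [ha, hb]
  haveI : Nontrivial X := (Subgroup.nontrivial_iff_ne_bot X).mpr hX
  have hZ := Group.IsNilpotent.center_ne_bot (G := X)
  set Z : Subgroup H := (Subgroup.center X).map X.subtype with hZdef
  haveI : Z.Normal := ConjAct.normal_of_characteristic_of_normal
  have hZne : Z ≠ ⊥ := by
    intro h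
    apply hZ
    exact (Subgroup.map_eq_bot_iff_of_injective _ X.subtype_injective).mp h
  have hZc : ∀ a ∈ Z, ∀ b ∈ Z, a * b = b * a := by
    rintro _ ⟨a, ha, rfl⟩ _ ⟨b, hb, rfl⟩
    have h1 := Subgroup.mem_center_iff.mp ha b
    exact (congrArg Subtype.val h1).symm
  intro a ha b hb
  have haZ : a ∈ Z := abelian_normal_self_centralizing Δ Z hZne hZc a (by
    rintro _ ⟨z, hz, rfl⟩
    have h1 := Subgroup.mem_center_iff.mp hz ⟨a, ha⟩
    exact congrArg Subtype.val h1)
  obtain ⟨z, hz, rfl⟩ := haZ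
  have h1 := Subgroup.mem_center_iff.mp hz ⟨b, hb⟩
  exact (congrArg Subtype.val h1).symm

/-- comparing two nilpotent normal subgroups of a faithful primitive group -/
theorem normal_nilpotent_le (Δ : Type*) [MulAction H Δ] [FaithfulSMul H Δ] [IsPreprimitive H Δ] 
    (X Y : Subgroup H) [X.Normal] [Y.Normal]
    (hXn : Group.IsNilpotent X) (hYn : Group.IsNilpotent Y) (hY : Y ≠ ⊥) : X ≤ Y :=
  normal_abelian_le Δ X Y (normal_nilpotent_abelian Δ X hXn)
    (normal_nilpotent_abelian Δ Y hYn) hY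

/-- the join of all normal nilpotent subgroups of a faithful primitive group is itself a normal
nilpotent subgroup -/
theorem sSup_normal_nilpotent_mem (Δ : Type*) [MulAction H Δ] [FaithfulSMul H Δ] [IsPreprimitive H Δ] :
    sSup {N : Subgroup H | N.Normal ∧ Group.IsNilpotent N} ∈
      {N : Subgroup H | N.Normal ∧ Group.IsNilpotent N} := by
  by_cases hex : ∃ N ∈ {N : Subgroup H | N.Normal ∧ Group.IsNilpotent N}, N ≠ ⊥
  · obtain ⟨N0, hN0, hN0ne⟩ := hex
    have heq : sSup {N : Subgroup H | N.Normal ∧ Group.IsNilpotent N} = N0 := by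
      apply le_antisymm
      · apply sSup_le
        intro N hN
        haveI := hN.1
        haveI := hN0.1
        exact normal_nilpotent_le Δ N N0 hN.2 hN0.2 hN0ne
      · exact le_sSup hN0
    rw [heq]
    exact hN0
  · push Not at hex
    have heq : sSup {N : Subgroup H | N.Normal ∧ Group.IsNilpotent N} = ⊥ := by
      rw [sSup_eq_bot]
      exact hex
    rw [heq]
    refine ⟨inferInstance, ?_⟩
    infer_instance

/-- a nontrivial abelian normal subgroup of a finite faithful primitive group is elementary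
abelian -/
theorem normal_abelian_exponent (Δ : Type*) [MulAction H Δ] [FaithfulSMul H Δ]
    [IsPreprimitive H Δ] [Finite H] (A : Subgroup H) [hAn : A.Normal] (hA : A ≠ ⊥)
    (hAc : ∀ a ∈ A, ∀ b ∈ A, a * b = b * a) :
    ∃ p e : ℕ, p.Prime ∧ Nat.card A = p ^ e ∧ ∀ a ∈ A, a ^ p = 1 := by
  haveI : Nontrivial A := (Subgroup.nontrivial_iff_ne_bot A).mpr hA
  have hcard : 1 < Nat.card A := Finite.one_lt_card
  obtain ⟨p, hp, hpdvd⟩ := Nat.exists_prime_and_dvd (ne_of_gt hcard)
  haveI : Fact p.Prime := ⟨hp⟩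
  obtain ⟨x, hx⟩ := exists_prime_orderOf_dvd_card' p hpdvd
  let K : Subgroup H :=
    { carrier := {a | a ∈ A ∧ a ^ p = 1}
      mul_mem' := by
        rintro a b ⟨ha, hap⟩ ⟨hb, hbp⟩
        refine ⟨A.mul_mem ha hb, ?_⟩
        rw [(show Commute a b from hAc a ha b hb).mul_pow, hap, hbp, one_mul]
      one_mem' := ⟨A.one_mem, one_pow p⟩
      inv_mem' := by
        rintro a ⟨ha, hap⟩
        exact ⟨A.inv_mem ha, by rw [inv_pow, hap, inv_one]⟩ }
  have hKmem : ∀ a, a ∈ K ↔ a ∈ A ∧ a ^ p = 1 := fun a => Iff.rfl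
  haveI : K.Normal := ⟨fun a ha g => by
    rw [hKmem] at ha ⊢
    refine ⟨hAn.conj_mem a ha.1 g, ?_⟩
    rw [conj_pow, ha.2, mul_one, mul_inv_cancel]⟩
  have hKne : K ≠ ⊥ := by
    intro hK
    have hxK : (x : H) ∈ K := by
      rw [hKmem]
      refine ⟨x.2, ?_⟩
      have h1 : x ^ p = 1 := by rw [← hx]; exact pow_orderOf_eq_one x
      exact congrArg Subtype.val h1
    rw [hK, Subgroup.mem_bot] at hxK
    have hx1 : x = 1 := Subtype.ext hxK
    rw [hx1, orderOf_one] at hx
    exact hp.one_lt.ne' hx.symm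
  have hKc : ∀ a ∈ K, ∀ b ∈ K, a * b = b * a := fun a ha b hb => hAc a ha.1 b hb.1
  have hle : A ≤ K := normal_abelian_le Δ A K hAc hKc hKne
  have hexp : ∀ a ∈ A, a ^ p = 1 := fun a ha => (hle ha).2
  have hpg : IsPGroup p A := by
    intro a
    refine ⟨1, ?_⟩
    rw [pow_one]
    exact Subtype.ext (hexp a a.2)
  obtain ⟨e, he⟩ := IsPGroup.iff_card.mp hpg
  exact ⟨p, e, hp, he, hexp⟩

/-- a finite faithful primitive group whose order is not a prime has trivial center -/
theorem center_eq_bot_of_not_prime (Δ : Type*) [MulAction H Δ] [FaithfulSMul H Δ]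
    [IsPreprimitive H Δ] [Finite H] (hHp : ¬ (Nat.card H).Prime) : Subgroup.center H = ⊥ := by
  by_contra hZ
  have hZc : ∀ a ∈ Subgroup.center H, ∀ b ∈ Subgroup.center H, a * b = b * a :=
    fun a ha b _ => (Subgroup.mem_center_iff.mp ha b).symm
  have htop : ∀ h : H, h ∈ Subgroup.center H := fun h =>
    abelian_normal_self_centralizing Δ _ hZ hZc h (fun x hx => Subgroup.mem_center_iff.mp hx h)
  have hcomm : ∀ a b : H, a * b = b * a := fun a b => Subgroup.mem_center_iff.mp (htop b) a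
  haveI : Nontrivial H := by
    obtain ⟨z, hz1⟩ := (Subgroup.ne_bot_iff_exists_ne_one).mp hZ
    exact ⟨⟨(z : H), 1, fun h => hz1 (Subtype.ext h)⟩⟩
  have hcard : 1 < Nat.card H := Finite.one_lt_card
  obtain ⟨p, hp, hpdvd⟩ := Nat.exists_prime_and_dvd (ne_of_gt hcard)
  haveI : Fact p.Prime := ⟨hp⟩
  obtain ⟨x, hx⟩ := exists_prime_orderOf_dvd_card' p hpdvd
  haveI : (Subgroup.zpowers x).Normal := ⟨fun a ha g => by
    rw [hcomm g a, mul_inv_cancel_right]
    exact ha⟩
  have hK : Subgroup.zpowers x ≠ ⊥ := by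
    rw [Ne, Subgroup.zpowers_eq_bot]
    rintro rfl
    rw [orderOf_one] at hx
    exact hp.one_lt.ne' hx.symm
  have hle : (⊤ : Subgroup H) ≤ Subgroup.zpowers x :=
    normal_abelian_le Δ ⊤ (Subgroup.zpowers x) (fun a _ b _ => hcomm a b)
      (fun a _ b _ => hcomm a b) hK
  apply hHp
  have htop' : Subgroup.zpowers x = ⊤ := top_le_iff.mp hle
  rw [← Subgroup.card_top (G := H), ← htop', Nat.card_zpowers, hx]
  exact hp

/-- for an elementary abelian normal subgroup `A` of order `p ^ e` of a finite faithful primitive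
group `H`, conjugation gives a homomorphism `H → GL_e(p)` with kernel exactly `A` -/
theorem exists_hom_GL_ker_eq {H : Type*} [Group H] (Δ : Type*) [MulAction H Δ] [FaithfulSMul H Δ]
    [IsPreprimitive H Δ] [Finite H] (A : Subgroup H) [hAn : A.Normal] (hA : A ≠ ⊥)
    (hAc : ∀ a ∈ A, ∀ b ∈ A, a * b = b * a) (p e : ℕ) (hp : p.Prime)
    (hcard : Nat.card A = p ^ e) (hexp : ∀ a ∈ A, a ^ p = 1) :
    ∃ φ : H →* GL (Fin e) (ZMod p), φ.ker = A := by
  haveI : Fact p.Prime := ⟨hp⟩
  obtain ⟨M, iA, iM, ε, Φ, hadd, h0, hconj⟩ :=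
    exists_conj_module A p (fun a b => Subtype.ext (hAc a a.2 b b.2)) hexp
  haveI : Finite M := Finite.of_equiv A ε
  haveI hfinM : Module.Finite (ZMod p) M := Module.Finite.of_finite
  have hfin : Module.finrank (ZMod p) M = e := by
    have h1 := Module.natCard_eq_pow_finrank (K := ZMod p) (V := M)
    rw [Nat.card_zmod, ← Nat.card_congr ε, hcard] at h1
    exact (Nat.pow_right_injective hp.two_le h1).symm
  let b : Module.Basis (Fin e) (ZMod p) M := Module.finBasisOfFinrankEq _ _ hfin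
  let ψ : Module.End (ZMod p) M →* Matrix (Fin e) (Fin e) (ZMod p) :=
    ((LinearMap.toMatrixAlgEquiv b : Module.End (ZMod p) M ≃ₐ[ZMod p]
      Matrix (Fin e) (Fin e) (ZMod p)) : Module.End (ZMod p) M →* Matrix (Fin e) (Fin e) (ZMod p))
  have hψinj : Function.Injective ψ := (LinearMap.toMatrixAlgEquiv b).injective
  refine ⟨(ψ.comp Φ).toHomUnits, ?_⟩
  -- characterisation of Φ h = 1
  have hΦ1 : ∀ h : H, Φ h = 1 ↔ ∀ x ∈ A, h * x = x * h := by
    intro h
    constructor
    · intro h2 x hx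
      have h3 := hconj h ⟨x, hx⟩
      rw [h2, Module.End.one_apply] at h3
      have h4 := congrArg Subtype.val (ε.injective h3)
      simp only at h4
      calc h * x = (h * x * h⁻¹) * h := by group
        _ = x * h := by rw [← h4]
    · intro h2
      apply LinearMap.ext
      intro a
      obtain ⟨n, rfl⟩ := ε.surjective a
      rw [hconj, Module.End.one_apply]
      apply congrArg ε
      apply Subtype.ext
      change h * n * h⁻¹ = n
      rw [h2 n n.2, mul_inv_cancel_right]
  ext h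
  rw [MonoidHom.mem_ker]
  have hunit : (ψ.comp Φ).toHomUnits h = 1 ↔ Φ h = 1 := by
    constructor
    · intro hh
      have h1 : ψ (Φ h) = 1 := by
        have h2 := congrArg Units.val hh
        simpa using h2
      apply hψinj
      rw [h1, map_one]
    · intro hh
      apply Units.ext
      simp [hh]
  rw [hunit, hΦ1]
  constructor
  · intro hh
    exact abelian_normal_self_centralizing Δ A hA hAc h hh
  · intro hh x hx
    exact hAc h hh x hx

end

end Cfsg.Agent.Lib.Helper58
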