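import Mathlib
import Cfsg.Agent.Lib.Helper58.SemiOrder

set_option autoImplicit false

namespace Cfsg.Agent.Lib.Helper58

open Equiv Equiv.Perm

/-- the states (number of moved points, order, sign) reachable by permutations of 10 points -/
def reach : Finset (ℕ × ℕ × ℤ) :=
  {(0, 1, 1), (2, 2, -1), (3, 3, 1), (4, 2, 1), (4, 4, -1), (5, 5, 1), (5, 6, -1), (6, 2, -1), (6, 3, 1), (6, 4, 1), (6, 6, -1), (7, 6, 1), (7, 7, 1), (7, 10, -1), (7, 12, -1), (8, 2, 1), (8, 4, -1), (8, 4, 1), (8, 6, -1), (8, 6, 1), (8, 8, -1), (8, 15, 1), (9, 3, 1), (9, 6, -1), (9, 9, 1), (9, 10, 1), (9, 12, 1), (9, 14, -1), (9, 20, -1), (10, 2, -1), (10, 4, -1), (10, 4, 1), (10, 5, 1), (10, 6, -1), (10, 6, 1), (10, 8, 1), (10, 10, -1), (10, 12, -1), (10, 12, 1), (10, 21, 1), (10, 30, -1)}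

/-- adjoining a cycle of length `a` to a state -/
def nxt (a : ℕ) (t : ℕ × ℕ × ℤ) : ℕ × ℕ × ℤ := (a + t.1, Nat.lcm a t.2.1, -(-1) ^ a * t.2.2)

set_option maxRecDepth 100000 in
theorem reach_closed : ∀ t ∈ reach, ∀ a ∈ Finset.Icc 2 10, a + t.1 ≤ 10 → nxt a t ∈ reach := by
  decide +kernel

set_option maxRecDepth 100000 in
theorem reach_spec : ∀ t ∈ reach, t.2.2 = 1 → t.2.1 ∈ specA10 := by
  decide +kernel

theorem state_mem (m : Multiset ℕ) (h2 : ∀ a ∈ m, 2 ≤ a) (hs : m.sum ≤ 10) :
    (m.sum, m.lcm, (m.map (fun n => -(-1 : ℤ) ^ n)).prod) ∈ reach := by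
  induction m using Multiset.induction_on with
  | empty =>
    simp only [Multiset.sum_zero, Multiset.lcm_zero, Multiset.map_zero, Multiset.prod_zero]
    decide
  | cons a m ih =>
    have ha : 2 ≤ a := h2 a (Multiset.mem_cons_self a m)
    rw [Multiset.sum_cons] at hs
    have h := ih (fun b hb => h2 b (Multiset.mem_cons_of_mem hb)) (by omega)
    have h' := reach_closed _ h a (by rw [Finset.mem_Icc]; omega) hs
    simp only [Multiset.sum_cons, Multiset.lcm_cons, Multiset.map_cons, Multiset.prod_cons]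
    exact h'

theorem prod_neg_pow (m : Multiset ℕ) :
    (m.map (fun n => -(-1 : ℤ) ^ n)).prod = (-1) ^ (m.sum + m.card) := by
  induction m using Multiset.induction_on with
  | empty => simp
  | cons a m ih =>
    rw [Multiset.map_cons, Multiset.prod_cons, ih, Multiset.sum_cons, Multiset.card_cons]
    rw [show a + m.sum + (m.card + 1) = a + (m.sum + m.card) + 1 by ring, pow_succ, pow_add]
    ring

theorem orderOf_mem_specA10 (σ : Perm (Fin 10)) (hσ : sign σ = 1) : orderOf σ ∈ specA10 := by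
  have h1 := state_mem σ.cycleType (fun a ha => two_le_of_mem_cycleType ha) (by
    rw [sum_cycleType]
    exact (Finset.card_le_univ _).trans (by simp))
  have h2 : (σ.cycleType.map (fun n => -(-1 : ℤ) ^ n)).prod = 1 := by
    rw [prod_neg_pow]
    have h3 := congrArg (fun u : ℤˣ => (u : ℤ)) (sign_of_cycleType σ)
    simp only [hσ, Units.val_one, Units.val_pow_eq_pow_val, Units.val_neg] at h3
    exact h3.symm
  have h5 := reach_spec _ h1 h2
  rw [lcm_cycleType] at h5
  exact h5

/-- an element of order 8 -/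
def p8 : Perm (Fin 10) := c[0, 1, 2, 3, 4, 5, 6, 7] * c[8, 9]
/-- an element of order 9 -/
def p9 : Perm (Fin 10) := c[0, 1, 2, 3, 4, 5, 6, 7, 8]
/-- an element of order 10 -/
def p10 : Perm (Fin 10) := c[0, 1, 2, 3, 4] * c[5, 6] * c[7, 8]
/-- an element of order 12 -/
def p12 : Perm (Fin 10) := c[0, 1, 2, 3] * c[4, 5, 6] * c[7, 8]
/-- an element of order 15 -/
def p15 : Perm (Fin 10) := c[0, 1, 2, 3, 4] * c[5, 6, 7]
/-- an element of order 21 -/
def p21 : Perm (Fin 10) := c[0, 1, 2, 3, 4, 5, 6] * c[7, 8, 9]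

theorem orderOf_of_check {G : Type*} [Group G] (x : G) (n : ℕ) (hn : 0 < n) (h1 : x ^ n = 1)
    (h2 : ∀ p ∈ Finset.range (n + 1), p.Prime → p ∣ n → x ^ (n / p) ≠ 1) : orderOf x = n := by
  apply orderOf_eq_of_pow_and_pow_div_prime hn h1
  intro p hp hpd
  exact h2 p (Finset.mem_range.mpr (Nat.lt_succ_of_le (Nat.le_of_dvd hn hpd))) hp hpd

set_option maxRecDepth 100000 in
theorem witnesses : ∀ m ∈ ({8, 9, 10, 12, 15, 21} : Finset ℕ),
    ∃ a : alternatingGroup (Fin 10), orderOf a = m := by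
  intro m hm
  simp only [Finset.mem_insert, Finset.mem_singleton] at hm
  rcases hm with rfl | rfl | rfl | rfl | rfl | rfl
  · refine ⟨⟨p8, mem_alternatingGroup.mpr (by decide +kernel)⟩, ?_⟩
    rw [Subgroup.orderOf_mk]
    exact orderOf_of_check p8 8 (by norm_num) (by decide +kernel) (by decide +kernel)
  · refine ⟨⟨p9, mem_alternatingGroup.mpr (by decide +kernel)⟩, ?_⟩
    rw [Subgroup.orderOf_mk]
    exact orderOf_of_check p9 9 (by norm_num) (by decide +kernel) (by decide +kernel)
  · refine ⟨⟨p10, mem_alternatingGroup.mpr (by decide +kernel)⟩, ?_⟩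
    rw [Subgroup.orderOf_mk]
    exact orderOf_of_check p10 10 (by norm_num) (by decide +kernel) (by decide +kernel)
  · refine ⟨⟨p12, mem_alternatingGroup.mpr (by decide +kernel)⟩, ?_⟩
    rw [Subgroup.orderOf_mk]
    exact orderOf_of_check p12 12 (by norm_num) (by decide +kernel) (by decide +kernel)
  · refine ⟨⟨p15, mem_alternatingGroup.mpr (by decide +kernel)⟩, ?_⟩
    rw [Subgroup.orderOf_mk]
    exact orderOf_of_check p15 15 (by norm_num) (by decide +kernel) (by decide +kernel)
  · refine ⟨⟨p21, mem_alternatingGroup.mpr (by decide +kernel)⟩, ?_⟩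
    rw [Subgroup.orderOf_mk]
    exact orderOf_of_check p21 21 (by norm_num) (by decide +kernel) (by decide +kernel)

/-- the set of element orders of the alternating group of degree 10 -/
theorem range_orderOf_A10 :
    Set.range (orderOf : alternatingGroup (Fin 10) → ℕ) = ↑specA10 := by
  ext n
  constructor
  · rintro ⟨a, rfl⟩
    rw [← Subgroup.orderOf_coe]
    exact orderOf_mem_specA10 (a : Perm (Fin 10)) (mem_alternatingGroup.mp a.2)
  · intro hn
    have hn' : n ∈ specA10 := hn
    obtain ⟨m, hm, hdvd⟩ := specA10_cover n hn'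
    obtain ⟨a, ha⟩ := witnesses m hm
    have hm0 : m ≠ 0 := by
      rintro rfl
      revert hm
      decide
    obtain ⟨e, he⟩ := hdvd
    have he0 : e ≠ 0 := by
      rintro rfl
      exact hm0 (by rw [he, mul_zero])
    refine ⟨a ^ e, ?_⟩
    rw [orderOf_pow_of_dvd he0 (by rw [ha, he]; exact dvd_mul_left e n), ha, he]
    exact Nat.mul_div_cancel n (Nat.pos_of_ne_zero he0)

end Cfsg.Agent.Lib.Helper58
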