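import Cfsg.Agent.Lib.Helper58.TwoS5Data

set_option autoImplicit false

namespace Cfsg.Agent.Lib.Helper58.TwoS5

open M4

/-- `4 × 4` matrices over the field with 7 elements -/
abbrev Mat := Matrix (Fin 4) (Fin 4) (ZMod 7)

theorem pow3_eq {M : Type*} [Monoid M] (x : M) : x ^ 3 = x * x * x := by
  simp only [pow_succ, pow_zero, one_mul]

theorem pow4_eq {M : Type*} [Monoid M] (x : M) : x ^ 4 = (x * x) * (x * x) := by
  simp only [pow_succ, pow_zero, one_mul, mul_assoc]

theorem pow5_eq {M : Type*} [Monoid M] (x : M) : x ^ 5 = (x * x) * (x * x) * x := by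
  simp only [pow_succ, pow_zero, one_mul, mul_assoc]

theorem pow6_eq {M : Type*} [Monoid M] (x : M) : x ^ 6 = (x * x * x) * (x * x * x) := by
  simp only [pow_succ, pow_zero, one_mul, mul_assoc]

theorem mem_of_memE {m : M4} (h : memE m = true) : m ∈ elts := by
  rw [memE, force_eq, List.any_eq_true] at h
  obtain ⟨e, he, hb⟩ := h
  rw [← eq_of_beq hb]
  exact he

theorem closed (m : M4) (hm : m ∈ elts) :
    mul g8 m ∈ elts ∧ mul g10 m ∈ elts ∧ mul g12 m ∈ elts ∧
      mul g8i m ∈ elts ∧ mul g10i m ∈ elts ∧ mul g12i m ∈ elts := by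
  have h := closedCheck_eq
  rw [closedCheck, List.all_eq_true] at h
  have h1 := h m hm
  simp only [Bool.and_eq_true] at h1
  obtain ⟨⟨⟨⟨⟨a, b⟩, c⟩, d⟩, e⟩, f⟩ := h1
  exact ⟨mem_of_memE a, mem_of_memE b, mem_of_memE c, mem_of_memE d, mem_of_memE e,
    mem_of_memE f⟩

/-- the certificate, in terms of matrices -/
theorem cert_mat (m : M4) (hm : m ∈ elts) :
    m.toMat = 1 ∨ (∃ k : ℕ, 1 ≤ k ∧ k ≤ 6 ∧ m.toMat ^ k = -1) ∨
      (1 + m.toMat + m.toMat ^ 2 = 0) ∨
      (1 + m.toMat + m.toMat ^ 2 + m.toMat ^ 3 + m.toMat ^ 4 = 0) := by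
  have h := certAll
  rw [List.all_eq_true] at h
  have h1 := h m hm
  simp only [certCheck, force_eq, Bool.or_eq_true] at h1
  have e2 : m.toMat ^ 2 = m.toMat * m.toMat := pow_two _
  have e3 := pow3_eq m.toMat
  have e4 := pow4_eq m.toMat
  have e5 := pow5_eq m.toMat
  have e6 := pow6_eq m.toMat
  rcases h1 with (((((((h1 | h1) | h1) | h1) | h1) | h1) | h1) | h1) | h1
  · left
    rw [eq_of_beq h1, toMat_one]
  · right; left
    refine ⟨1, le_refl _, by norm_num, ?_⟩
    rw [pow_one, eq_of_beq h1, toMat_negOne]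
  · right; left
    refine ⟨2, by norm_num, by norm_num, ?_⟩
    have h2 := congrArg toMat (eq_of_beq h1)
    rw [toMat_mul, toMat_negOne] at h2
    rw [e2, h2]
  · right; left
    refine ⟨3, by norm_num, by norm_num, ?_⟩
    have h2 := congrArg toMat (eq_of_beq h1)
    rw [toMat_mul, toMat_mul, toMat_negOne] at h2
    rw [e3, h2]
  · right; left
    refine ⟨4, by norm_num, by norm_num, ?_⟩
    have h2 := congrArg toMat (eq_of_beq h1)
    rw [toMat_mul, toMat_mul, toMat_negOne] at h2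
    rw [e4, h2]
  · right; left
    refine ⟨5, by norm_num, by norm_num, ?_⟩
    have h2 := congrArg toMat (eq_of_beq h1)
    rw [toMat_mul, toMat_mul, toMat_mul, toMat_negOne] at h2
    rw [e5, h2]
  · right; left
    refine ⟨6, by norm_num, by norm_num, ?_⟩
    have h2 := congrArg toMat (eq_of_beq h1)
    rw [toMat_mul, toMat_mul, toMat_mul, toMat_negOne] at h2
    rw [e6, h2]
  · right; right; left
    have h2 := congrArg toMat (eq_of_beq h1)
    rw [toMat_add, toMat_add, toMat_mul, toMat_one, toMat_zero] at h2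
    rw [e2, ← h2, add_assoc]
  · right; right; right
    have h2 := congrArg toMat (eq_of_beq h1)
    rw [toMat_add, toMat_add, toMat_add, toMat_add, toMat_mul, toMat_mul, toMat_mul, toMat_mul,
      toMat_mul, toMat_one, toMat_zero] at h2
    rw [e2, e3, e4, ← h2]
    abel

/-- the unit with code `m` and inverse code `mi` -/
def unitOf (m mi : M4) (h : mul m mi = one ∧ mul mi m = one) : Matˣ :=
  ⟨m.toMat, mi.toMat, by rw [← toMat_mul, h.1, toMat_one], by rw [← toMat_mul, h.2, toMat_one]⟩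

/-- an element of order 8 -/
def X8 : Matˣ := unitOf g8 g8i g8_inv
/-- an element of order 10 -/
def X10 : Matˣ := unitOf g10 g10i g10_inv
/-- an element of order 12 -/
def X12 : Matˣ := unitOf g12 g12i g12_inv

/-- the group `2.S₅⁻` as a group of matrices over the field with 7 elements -/
def K : Subgroup Matˣ := Subgroup.closure {X8, X10, X12}

theorem exists_code (x : Matˣ) (hx : x ∈ K) : ∃ m ∈ elts, (x : Mat) = m.toMat := by
  unfold K at hx
  induction hx using Subgroup.closure_induction_left with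
  | one => exact ⟨one, one_mem_elts, by rw [toMat_one]; rfl⟩
  | mul_left g hg y hy ih =>
    obtain ⟨m, hm, hy'⟩ := ih
    have hc := closed m hm
    rcases hg with rfl | rfl | rfl
    · exact ⟨mul g8 m, hc.1, by rw [Units.val_mul, hy', toMat_mul]; rfl⟩
    · exact ⟨mul g10 m, hc.2.1, by rw [Units.val_mul, hy', toMat_mul]; rfl⟩
    · exact ⟨mul g12 m, hc.2.2.1, by rw [Units.val_mul, hy', toMat_mul]; rfl⟩
  | inv_mul_cancel g hg y hy ih =>
    obtain ⟨m, hm, hy'⟩ := ih
    have hc := closed m hm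
    rcases hg with rfl | rfl | rfl
    · exact ⟨mul g8i m, hc.2.2.2.1, by rw [Units.val_mul, hy', toMat_mul]; rfl⟩
    · exact ⟨mul g10i m, hc.2.2.2.2.1, by rw [Units.val_mul, hy', toMat_mul]; rfl⟩
    · exact ⟨mul g12i m, hc.2.2.2.2.2, by rw [Units.val_mul, hy', toMat_mul]; rfl⟩

/-- the certificate for the elements of `K` -/
theorem cert_K (x : Matˣ) (hx : x ∈ K) :
    (x : Mat) = 1 ∨ (∃ k : ℕ, 1 ≤ k ∧ k ≤ 6 ∧ (x : Mat) ^ k = -1) ∨
      (1 + (x : Mat) + (x : Mat) ^ 2 = 0) ∨
      (1 + (x : Mat) + (x : Mat) ^ 2 + (x : Mat) ^ 3 + (x : Mat) ^ 4 = 0) := by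
  obtain ⟨m, hm, hxm⟩ := exists_code x hx
  rw [hxm]
  exact cert_mat m hm

theorem X8_mem : X8 ∈ K := Subgroup.subset_closure (by simp)
theorem X10_mem : X10 ∈ K := Subgroup.subset_closure (by simp)
theorem X12_mem : X12 ∈ K := Subgroup.subset_closure (by simp)

theorem X8_pow : (X8 : Mat) ^ 4 = -1 := by
  have h2 := congrArg toMat g8_pow
  rw [toMat_mul, toMat_mul, toMat_negOne] at h2
  rw [pow4_eq]
  exact h2

theorem X10_pow : (X10 : Mat) ^ 5 = -1 := by
  have h2 := congrArg toMat g10_pow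
  rw [toMat_mul, toMat_mul, toMat_mul, toMat_negOne] at h2
  rw [pow5_eq]
  exact h2

theorem X12_pow : (X12 : Mat) ^ 6 = -1 := by
  have h2 := congrArg toMat g12_pow
  rw [toMat_mul, toMat_mul, toMat_mul, toMat_negOne] at h2
  rw [pow6_eq]
  exact h2

end Cfsg.Agent.Lib.Helper58.TwoS5
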