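import Mathlib

set_option autoImplicit false

namespace Cfsg.Agent.Lib.Helper58.TwoS5

/-- evaluate a natural number before passing it on (sharing of kernel computations) -/
def forceNat {α : Type} (n : ℕ) (k : ℕ → α) : α :=
  match n with
  | 0 => k 0
  | m + 1 => k (m + 1)

theorem forceNat_eq {α : Type} (n : ℕ) (k : ℕ → α) : forceNat n k = k n := by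
  cases n <;> rfl

/-- `4 × 4` matrices over `ZMod 7`, coded by 16 natural numbers (for fast kernel evaluation) -/
structure M4 where
  a00 : ℕ
  a01 : ℕ
  a02 : ℕ
  a03 : ℕ
  a10 : ℕ
  a11 : ℕ
  a12 : ℕ
  a13 : ℕ
  a20 : ℕ
  a21 : ℕ
  a22 : ℕ
  a23 : ℕ
  a30 : ℕ
  a31 : ℕ
  a32 : ℕ
  a33 : ℕ

namespace M4

/-- evaluate all entries of a code before passing it on -/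
def force {α : Type} (x : M4) (k : M4 → α) : α :=
  forceNat x.a00 fun b00 =>
  forceNat x.a01 fun b01 =>
  forceNat x.a02 fun b02 =>
  forceNat x.a03 fun b03 =>
  forceNat x.a10 fun b10 =>
  forceNat x.a11 fun b11 =>
  forceNat x.a12 fun b12 =>
  forceNat x.a13 fun b13 =>
  forceNat x.a20 fun b20 =>
  forceNat x.a21 fun b21 =>
  forceNat x.a22 fun b22 =>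
  forceNat x.a23 fun b23 =>
  forceNat x.a30 fun b30 =>
  forceNat x.a31 fun b31 =>
  forceNat x.a32 fun b32 =>
  forceNat x.a33 fun b33 =>
  k ⟨b00, b01, b02, b03, b10, b11, b12, b13, b20, b21, b22, b23, b30, b31, b32, b33⟩

theorem force_eq {α : Type} (x : M4) (k : M4 → α) : force x k = k x := by
  cases x
  simp only [force, forceNat_eq]

/-- coded matrix product, without evaluation of the arguments -/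
def mul0 (x y : M4) : M4 :=
  ⟨(x.a00 * y.a00 + x.a01 * y.a10 + x.a02 * y.a20 + x.a03 * y.a30) % 7,
   (x.a00 * y.a01 + x.a01 * y.a11 + x.a02 * y.a21 + x.a03 * y.a31) % 7,
   (x.a00 * y.a02 + x.a01 * y.a12 + x.a02 * y.a22 + x.a03 * y.a32) % 7,
   (x.a00 * y.a03 + x.a01 * y.a13 + x.a02 * y.a23 + x.a03 * y.a33) % 7,
   (x.a10 * y.a00 + x.a11 * y.a10 + x.a12 * y.a20 + x.a13 * y.a30) % 7,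
   (x.a10 * y.a01 + x.a11 * y.a11 + x.a12 * y.a21 + x.a13 * y.a31) % 7,
   (x.a10 * y.a02 + x.a11 * y.a12 + x.a12 * y.a22 + x.a13 * y.a32) % 7,
   (x.a10 * y.a03 + x.a11 * y.a13 + x.a12 * y.a23 + x.a13 * y.a33) % 7,
   (x.a20 * y.a00 + x.a21 * y.a10 + x.a22 * y.a20 + x.a23 * y.a30) % 7,
   (x.a20 * y.a01 + x.a21 * y.a11 + x.a22 * y.a21 + x.a23 * y.a31) % 7,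
   (x.a20 * y.a02 + x.a21 * y.a12 + x.a22 * y.a22 + x.a23 * y.a32) % 7,
   (x.a20 * y.a03 + x.a21 * y.a13 + x.a22 * y.a23 + x.a23 * y.a33) % 7,
   (x.a30 * y.a00 + x.a31 * y.a10 + x.a32 * y.a20 + x.a33 * y.a30) % 7,
   (x.a30 * y.a01 + x.a31 * y.a11 + x.a32 * y.a21 + x.a33 * y.a31) % 7,
   (x.a30 * y.a02 + x.a31 * y.a12 + x.a32 * y.a22 + x.a33 * y.a32) % 7,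
   (x.a30 * y.a03 + x.a31 * y.a13 + x.a32 * y.a23 + x.a33 * y.a33) % 7⟩

/-- coded matrix product -/
def mul (x y : M4) : M4 := force x fun x' => force y fun y' => mul0 x' y'

theorem mul_eq (x y : M4) : mul x y = mul0 x y := by
  simp only [mul, force_eq]

/-- coded matrix sum, without evaluation of the arguments -/
def add0 (x y : M4) : M4 :=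
  ⟨(x.a00 + y.a00) % 7,
   (x.a01 + y.a01) % 7,
   (x.a02 + y.a02) % 7,
   (x.a03 + y.a03) % 7,
   (x.a10 + y.a10) % 7,
   (x.a11 + y.a11) % 7,
   (x.a12 + y.a12) % 7,
   (x.a13 + y.a13) % 7,
   (x.a20 + y.a20) % 7,
   (x.a21 + y.a21) % 7,
   (x.a22 + y.a22) % 7,
   (x.a23 + y.a23) % 7,
   (x.a30 + y.a30) % 7,
   (x.a31 + y.a31) % 7,
   (x.a32 + y.a32) % 7,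
   (x.a33 + y.a33) % 7⟩

/-- coded matrix sum -/
def add (x y : M4) : M4 := force x fun x' => force y fun y' => add0 x' y'

theorem add_eq (x y : M4) : add x y = add0 x y := by
  simp only [add, force_eq]

/-- code of the identity -/
def one : M4 := ⟨1,0,0,0,0,1,0,0,0,0,1,0,0,0,0,1⟩
/-- code of minus the identity -/
def negOne : M4 := ⟨6,0,0,0,0,6,0,0,0,0,6,0,0,0,0,6⟩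
/-- code of zero -/
def zero : M4 := ⟨0,0,0,0,0,0,0,0,0,0,0,0,0,0,0,0⟩

/-- boolean equality of codes -/
def beq (x y : M4) : Bool :=
  Nat.beq x.a00 y.a00 &&
  Nat.beq x.a01 y.a01 &&
  Nat.beq x.a02 y.a02 &&
  Nat.beq x.a03 y.a03 &&
  Nat.beq x.a10 y.a10 &&
  Nat.beq x.a11 y.a11 &&
  Nat.beq x.a12 y.a12 &&
  Nat.beq x.a13 y.a13 &&
  Nat.beq x.a20 y.a20 &&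
  Nat.beq x.a21 y.a21 &&
  Nat.beq x.a22 y.a22 &&
  Nat.beq x.a23 y.a23 &&
  Nat.beq x.a30 y.a30 &&
  Nat.beq x.a31 y.a31 &&
  Nat.beq x.a32 y.a32 &&
  Nat.beq x.a33 y.a33

theorem eq_of_beq {x y : M4} (h : beq x y = true) : x = y := by
  cases x; cases y
  simp only [beq, Bool.and_eq_true] at h
  obtain ⟨⟨⟨⟨⟨⟨⟨⟨⟨⟨⟨⟨⟨⟨⟨h0, h1⟩, h2⟩, h3⟩, h4⟩, h5⟩, h6⟩, h7⟩, h8⟩, h9⟩, h10⟩, h11⟩, h12⟩, h13⟩, h14⟩, h15⟩ := h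
  have e0 := Nat.eq_of_beq_eq_true h0
  have e1 := Nat.eq_of_beq_eq_true h1
  have e2 := Nat.eq_of_beq_eq_true h2
  have e3 := Nat.eq_of_beq_eq_true h3
  have e4 := Nat.eq_of_beq_eq_true h4
  have e5 := Nat.eq_of_beq_eq_true h5
  have e6 := Nat.eq_of_beq_eq_true h6
  have e7 := Nat.eq_of_beq_eq_true h7
  have e8 := Nat.eq_of_beq_eq_true h8
  have e9 := Nat.eq_of_beq_eq_true h9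
  have e10 := Nat.eq_of_beq_eq_true h10
  have e11 := Nat.eq_of_beq_eq_true h11
  have e12 := Nat.eq_of_beq_eq_true h12
  have e13 := Nat.eq_of_beq_eq_true h13
  have e14 := Nat.eq_of_beq_eq_true h14
  have e15 := Nat.eq_of_beq_eq_true h15
  subst e0 e1 e2 e3 e4 e5 e6 e7 e8 e9 e10 e11 e12 e13 e14 e15
  rfl

/-- the matrix coded by `x` -/
def toMat (x : M4) : Matrix (Fin 4) (Fin 4) (ZMod 7) :=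
  !![(x.a00 : ZMod 7), (x.a01 : ZMod 7), (x.a02 : ZMod 7), (x.a03 : ZMod 7);
     (x.a10 : ZMod 7), (x.a11 : ZMod 7), (x.a12 : ZMod 7), (x.a13 : ZMod 7);
     (x.a20 : ZMod 7), (x.a21 : ZMod 7), (x.a22 : ZMod 7), (x.a23 : ZMod 7);
     (x.a30 : ZMod 7), (x.a31 : ZMod 7), (x.a32 : ZMod 7), (x.a33 : ZMod 7)]

theorem toMat_mul (x y : M4) : (x.mul y).toMat = x.toMat * y.toMat := by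
  rw [mul_eq]
  ext i j
  fin_cases i <;> fin_cases j <;>
    simp [toMat, mul0, Matrix.mul_apply, Fin.sum_univ_four, ZMod.natCast_mod]

theorem toMat_add (x y : M4) : (x.add y).toMat = x.toMat + y.toMat := by
  rw [add_eq]
  ext i j
  fin_cases i <;> fin_cases j <;>
    simp [toMat, add0, ZMod.natCast_mod]

theorem toMat_one : one.toMat = 1 := by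
  ext i j
  fin_cases i <;> fin_cases j <;> simp [toMat, one]

theorem toMat_zero : zero.toMat = 0 := by
  ext i j
  fin_cases i <;> fin_cases j <;> simp [toMat, zero]

theorem toMat_negOne : negOne.toMat = -1 := by
  ext i j
  fin_cases i <;> fin_cases j <;> simp [toMat, negOne] <;> decide

end M4

open M4

/-- code of an element of order 8 -/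
def g8 : M4 := ⟨0,3,1,0,3,0,0,6,3,0,3,2,0,4,2,4⟩
/-- code of an element of order 10 -/
def g10 : M4 := ⟨4,0,1,2,0,4,5,1,3,2,0,2,5,3,5,0⟩
/-- code of an element of order 12 -/
def g12 : M4 := ⟨0,1,5,0,1,0,0,2,2,1,0,6,1,5,6,0⟩
/-- code of the inverse of `g8` -/
def g8i : M4 := ⟨5,3,2,5,3,2,5,5,6,1,6,6,1,1,6,1⟩
/-- code of the inverse of `g10` -/
def g10i : M4 := ⟨0,2,6,5,5,0,2,6,4,5,4,0,2,4,0,4⟩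
/-- code of the inverse of `g12` -/
def g12i : M4 := ⟨5,5,3,4,5,2,4,4,2,1,2,2,1,5,2,5⟩

/-- the 240 codes of the elements of the group `2.S₅⁻` generated by `g8`, `g10`, `g12` -/
def elts : List M4 :=
  [⟨0,1,0,1,6,0,6,0,0,0,0,6,0,0,1,0⟩,
   ⟨0,1,3,6,6,0,1,3,1,6,3,4,1,1,3,3⟩,
   ⟨0,1,4,3,1,0,3,3,6,3,4,1,3,1,1,3⟩,
   ⟨0,1,4,6,6,0,1,4,6,6,4,4,1,6,3,4⟩,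
   ⟨0,1,5,0,1,0,0,2,2,1,0,6,1,5,6,0⟩,
   ⟨0,2,0,2,5,0,5,0,0,2,0,5,5,0,2,0⟩,
   ⟨0,2,1,5,5,0,2,1,3,5,3,0,2,3,0,3⟩,
   ⟨0,2,1,6,2,0,6,6,3,0,3,3,0,4,3,4⟩,
   ⟨0,2,3,0,2,0,0,4,1,6,3,3,6,6,3,4⟩,
   ⟨0,2,6,5,5,0,2,6,4,5,4,0,2,4,0,4⟩,
   ⟨0,3,0,3,4,0,4,0,0,2,0,4,5,0,3,0⟩,
   ⟨0,3,1,0,3,0,0,6,3,0,3,2,0,4,2,4⟩,
   ⟨0,3,2,4,4,0,3,2,5,4,0,4,3,5,3,0⟩,
   ⟨0,3,5,2,3,0,2,2,2,3,0,4,3,5,4,0⟩,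
   ⟨0,3,5,4,4,0,3,5,2,4,0,4,3,2,3,0⟩,
   ⟨0,4,0,4,3,0,3,0,0,5,0,3,2,0,4,0⟩,
   ⟨0,4,2,3,3,0,4,2,5,3,0,3,4,5,4,0⟩,
   ⟨0,4,2,5,4,0,5,5,5,4,0,3,4,2,3,0⟩,
   ⟨0,4,5,3,3,0,4,5,2,3,0,3,4,2,4,0⟩,
   ⟨0,4,6,0,4,0,0,1,4,0,4,5,0,3,5,3⟩,
   ⟨0,5,0,5,2,0,2,0,0,5,0,2,2,0,5,0⟩,
   ⟨0,5,1,2,2,0,5,1,3,2,3,0,5,3,0,3⟩,
   ⟨0,5,4,0,5,0,0,3,6,1,4,4,1,1,4,3⟩,
   ⟨0,5,6,1,5,0,1,1,4,0,4,4,0,3,4,3⟩,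
   ⟨0,5,6,2,2,0,5,6,4,2,4,0,5,4,0,4⟩,
   ⟨0,6,0,6,1,0,1,0,0,0,0,1,0,0,6,0⟩,
   ⟨0,6,2,0,6,0,0,5,5,6,0,1,6,2,1,0⟩,
   ⟨0,6,3,1,1,0,6,3,1,1,3,3,6,1,4,3⟩,
   ⟨0,6,3,4,6,0,4,4,1,4,3,6,4,6,6,4⟩,
   ⟨0,6,4,1,1,0,6,4,6,1,4,3,6,6,4,4⟩,
   ⟨1,0,0,0,0,1,0,0,0,0,1,0,0,0,0,1⟩,
   ⟨1,0,1,5,0,6,5,6,1,5,2,5,5,6,5,5⟩,
   ⟨1,0,2,3,0,1,4,2,6,6,2,2,1,6,5,2⟩,
   ⟨1,0,2,4,0,1,3,2,6,1,2,5,6,6,2,2⟩,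
   ⟨1,0,5,4,0,6,4,2,3,1,2,5,1,4,5,5⟩,
   ⟨1,1,0,3,6,1,4,0,1,0,2,1,0,1,6,2⟩,
   ⟨1,1,2,5,1,6,5,5,6,1,2,4,1,1,4,5⟩,
   ⟨1,1,5,1,6,1,6,5,0,1,6,6,6,0,1,6⟩,
   ⟨1,1,6,0,1,6,0,1,5,4,6,6,4,2,6,1⟩,
   ⟨1,1,6,2,6,1,5,6,5,5,6,6,2,5,1,6⟩,
   ⟨1,2,0,3,2,6,3,0,5,3,6,5,3,2,5,1⟩,
   ⟨1,2,1,5,2,6,5,6,3,5,4,0,5,4,0,3⟩,
   ⟨1,2,3,2,5,1,5,3,2,6,5,5,1,2,2,5⟩,
   ⟨1,2,4,2,5,1,5,4,0,6,6,5,1,0,2,6⟩,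
   ⟨1,2,6,1,2,6,1,1,5,4,6,5,4,2,5,1⟩,
   ⟨1,3,0,1,4,1,6,0,1,5,2,2,2,1,5,2⟩,
   ⟨1,3,0,5,4,1,2,0,1,2,2,6,5,1,1,2⟩,
   ⟨1,3,2,0,3,6,0,5,6,3,2,2,3,1,2,5⟩,
   ⟨1,3,3,3,3,6,3,4,2,6,5,4,6,5,4,2⟩,
   ⟨1,3,4,6,3,6,6,3,4,6,3,6,6,3,6,4⟩,
   ⟨1,4,0,0,4,6,0,0,1,4,2,1,4,6,1,5⟩,
   ⟨1,4,0,2,3,1,5,0,1,5,2,1,2,1,6,2⟩,
   ⟨1,4,0,5,4,6,5,0,5,5,6,3,5,2,3,1⟩,
   ⟨1,4,0,6,3,1,1,0,1,2,2,5,5,1,2,2⟩,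
   ⟨1,4,4,4,4,6,4,3,0,1,6,3,1,0,3,1⟩,
   ⟨1,5,0,6,5,6,6,0,5,5,6,2,5,2,2,1⟩,
   ⟨1,5,1,5,5,6,5,6,3,1,6,2,1,4,2,1⟩,
   ⟨1,5,3,5,2,1,2,3,2,1,5,2,6,2,5,5⟩,
   ⟨1,5,4,5,2,1,2,4,0,1,6,2,6,0,5,6⟩,
   ⟨1,5,5,5,5,6,5,2,0,6,6,2,6,0,2,1⟩,
   ⟨1,6,0,4,1,1,3,0,1,0,2,6,0,1,1,2⟩,
   ⟨1,6,1,5,6,6,5,6,4,2,5,1,2,3,1,2⟩,
   ⟨1,6,3,1,6,6,1,4,1,1,4,3,1,6,3,3⟩,
   ⟨1,6,5,6,1,1,1,5,0,6,6,1,1,0,6,6⟩,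
   ⟨1,6,6,5,1,1,2,6,5,2,6,1,5,5,6,6⟩,
   ⟨2,0,0,0,0,2,0,0,2,0,4,0,0,2,0,4⟩,
   ⟨2,0,2,3,0,5,3,5,6,6,3,2,6,1,2,4⟩,
   ⟨2,0,3,1,0,5,1,4,0,4,4,0,4,0,0,3⟩,
   ⟨2,0,4,1,0,2,6,4,5,4,5,0,3,5,0,5⟩,
   ⟨2,0,4,6,0,2,1,4,5,3,5,0,4,5,0,5⟩,
   ⟨2,1,0,0,1,5,0,0,6,3,1,4,3,1,4,6⟩,
   ⟨2,1,0,3,1,5,3,0,1,0,3,1,0,6,1,4⟩,
   ⟨2,1,0,4,6,2,3,0,6,0,1,1,0,6,6,1⟩,
   ⟨2,1,0,5,6,2,2,0,6,2,1,4,5,6,3,1⟩,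
   ⟨2,1,1,1,1,5,1,6,2,5,4,6,5,5,6,3⟩,
   ⟨2,2,0,6,5,2,1,0,6,2,1,3,5,6,4,1⟩,
   ⟨2,2,3,2,5,2,5,3,2,6,6,5,1,2,2,6⟩,
   ⟨2,2,4,3,2,5,3,3,5,6,5,5,6,2,5,2⟩,
   ⟨2,2,5,0,2,5,0,2,1,4,1,3,4,6,3,6⟩,
   ⟨2,2,5,4,5,2,3,5,1,1,1,0,6,1,0,1⟩,
   ⟨2,3,0,5,3,5,5,0,1,2,3,6,2,6,6,4⟩,
   ⟨2,3,1,3,4,2,4,1,2,0,4,4,0,2,3,4⟩,
   ⟨2,3,2,3,3,5,3,5,0,0,5,4,0,0,4,2⟩,
   ⟨2,3,3,3,3,5,3,4,2,6,6,4,6,5,4,1⟩,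
   ⟨2,3,6,3,4,2,4,6,3,0,5,4,0,3,3,5⟩,
   ⟨2,4,0,6,4,5,6,0,1,2,3,5,2,6,5,4⟩,
   ⟨2,4,1,4,3,2,3,1,2,0,4,3,0,2,4,4⟩,
   ⟨2,4,2,3,4,5,3,5,0,3,4,3,3,0,3,3⟩,
   ⟨2,4,5,2,4,5,2,2,1,6,1,1,6,6,1,6⟩,
   ⟨2,4,6,4,3,2,3,6,3,0,5,3,0,3,4,5⟩,
   ⟨2,5,0,1,2,2,6,0,6,5,1,4,2,6,3,1⟩,
   ⟨2,5,2,3,5,5,3,5,4,6,1,0,6,3,0,6⟩,
   ⟨2,5,3,5,2,2,2,3,2,1,6,2,6,2,5,6⟩,
   ⟨2,5,5,3,2,2,4,5,1,6,1,0,1,1,0,1⟩,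
   ⟨2,5,6,2,5,5,2,1,6,2,1,0,2,1,0,6⟩,
   ⟨2,6,0,2,1,2,5,0,6,5,1,3,2,6,4,1⟩,
   ⟨2,6,0,3,1,2,4,0,6,0,1,6,0,6,1,1⟩,
   ⟨2,6,1,5,6,5,5,6,4,2,6,1,2,3,1,1⟩,
   ⟨2,6,4,0,6,5,0,3,5,4,5,1,4,2,1,2⟩,
   ⟨2,6,6,6,6,5,6,1,3,2,5,1,2,4,1,2⟩,
   ⟨3,0,0,0,0,3,0,0,2,0,5,0,0,2,0,5⟩,
   ⟨3,0,1,5,0,4,5,6,3,5,6,5,5,4,5,1⟩,
   ⟨3,0,3,1,0,4,1,4,0,4,5,0,4,0,0,2⟩,
   ⟨3,0,6,2,0,3,5,6,4,2,0,2,5,4,5,0⟩,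
   ⟨3,0,6,5,0,3,2,6,4,5,0,5,2,4,2,0⟩,
   ⟨3,1,0,4,1,4,4,0,6,0,2,1,0,1,1,5⟩,
   ⟨3,1,1,1,1,4,1,6,2,5,5,6,5,5,6,2⟩,
   ⟨3,1,2,1,6,3,6,2,5,1,3,6,6,5,1,3⟩,
   ⟨3,1,3,1,1,4,1,4,3,1,4,6,1,4,6,3⟩,
   ⟨3,1,5,1,6,3,6,5,2,1,3,6,6,2,1,3⟩,
   ⟨3,2,0,1,5,3,6,0,0,2,3,5,5,0,2,3⟩,
   ⟨3,2,0,3,5,3,4,0,0,3,3,5,4,0,2,3⟩,
   ⟨3,2,2,2,2,4,2,5,5,1,3,5,1,2,5,4⟩,
   ⟨3,2,5,4,2,4,4,2,1,1,2,0,1,6,0,5⟩,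
   ⟨3,2,6,0,2,4,0,1,4,0,0,3,0,3,3,0⟩,
   ⟨3,3,0,2,4,3,5,0,0,2,3,4,5,0,3,3⟩,
   ⟨3,3,1,3,4,3,4,1,2,0,5,4,0,2,3,5⟩,
   ⟨3,3,4,0,3,4,0,3,6,1,0,2,1,1,2,0⟩,
   ⟨3,3,4,6,4,3,1,4,6,6,0,6,1,6,1,0⟩,
   ⟨3,3,6,1,3,4,1,1,4,0,0,2,0,3,2,0⟩,
   ⟨3,4,0,5,3,3,2,0,0,5,3,3,2,0,4,3⟩,
   ⟨3,4,1,4,3,3,3,1,2,0,5,3,0,2,4,5⟩,
   ⟨3,4,2,3,4,4,3,5,0,3,5,3,3,0,3,2⟩,
   ⟨3,4,3,1,4,4,1,4,1,1,6,1,1,6,1,1⟩,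
   ⟨3,4,4,1,3,3,6,4,6,1,0,1,6,6,6,0⟩,
   ⟨3,5,0,0,5,4,0,0,0,0,3,5,0,0,5,4⟩,
   ⟨3,5,0,1,5,4,1,0,6,5,2,4,5,1,4,5⟩,
   ⟨3,5,0,4,2,3,3,0,0,4,3,2,3,0,5,3⟩,
   ⟨3,5,0,6,2,3,1,0,0,5,3,2,2,0,5,3⟩,
   ⟨3,5,5,5,5,4,5,2,2,6,3,2,6,5,2,4⟩,
   ⟨3,6,0,2,6,4,2,0,6,5,2,3,5,1,3,5⟩,
   ⟨3,6,2,6,1,3,1,2,5,6,3,1,1,5,6,3⟩,
   ⟨3,6,3,1,6,4,1,4,3,1,1,3,1,4,3,6⟩,
   ⟨3,6,4,3,6,4,3,3,6,3,0,6,3,1,6,0⟩,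
   ⟨3,6,5,6,1,3,1,5,2,6,3,1,1,2,6,3⟩,
   ⟨4,0,0,0,0,4,0,0,5,0,2,0,0,5,0,2⟩,
   ⟨4,0,1,2,0,4,5,1,3,2,0,2,5,3,5,0⟩,
   ⟨4,0,1,5,0,4,2,1,3,5,0,5,2,3,2,0⟩,
   ⟨4,0,4,6,0,3,6,3,0,3,2,0,3,0,0,5⟩,
   ⟨4,0,6,2,0,3,2,1,4,2,1,2,2,3,2,6⟩,
   ⟨4,1,0,5,1,3,5,0,1,2,5,4,2,6,4,2⟩,
   ⟨4,1,2,1,6,4,6,2,5,1,4,6,6,5,1,4⟩,
   ⟨4,1,3,4,1,3,4,4,1,4,0,1,4,6,1,0⟩,
   ⟨4,1,4,6,1,3,6,3,4,6,6,4,6,3,4,1⟩,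
   ⟨4,1,5,1,6,4,6,5,2,1,4,6,6,2,1,4⟩,
   ⟨4,2,0,0,2,3,0,0,0,0,4,2,0,0,2,3⟩,
   ⟨4,2,0,1,5,4,6,0,0,2,4,5,5,0,2,4⟩,
   ⟨4,2,0,3,5,4,4,0,0,3,4,5,4,0,2,4⟩,
   ⟨4,2,0,6,2,3,6,0,1,2,5,3,2,6,3,2⟩,
   ⟨4,2,2,2,2,3,2,5,5,1,4,5,1,2,5,3⟩,
   ⟨4,3,0,2,4,4,5,0,0,2,4,4,5,0,3,4⟩,
   ⟨4,3,3,6,4,4,1,3,1,6,0,6,1,1,1,0⟩,
   ⟨4,3,4,6,3,3,6,3,6,6,1,6,6,1,6,6⟩,
   ⟨4,3,5,4,3,3,4,2,0,4,2,4,4,0,4,5⟩,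
   ⟨4,3,6,3,4,4,4,6,5,0,2,4,0,5,3,2⟩,
   ⟨4,4,0,5,3,4,2,0,0,5,4,3,2,0,4,4⟩,
   ⟨4,4,1,6,4,3,6,6,3,0,0,5,0,4,5,0⟩,
   ⟨4,4,3,0,4,3,0,4,1,6,0,5,6,6,5,0⟩,
   ⟨4,4,3,1,3,4,6,3,1,1,0,1,6,1,6,0⟩,
   ⟨4,4,6,4,3,4,3,6,5,0,2,3,0,5,4,2⟩,
   ⟨4,5,0,4,2,4,3,0,0,4,4,2,3,0,5,4⟩,
   ⟨4,5,0,6,2,4,1,0,0,5,4,2,2,0,5,4⟩,
   ⟨4,5,1,0,5,3,0,6,3,0,0,4,0,4,4,0⟩,
   ⟨4,5,2,3,5,3,3,5,6,6,5,0,6,1,0,2⟩,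
   ⟨4,5,5,5,5,3,5,2,2,6,4,2,6,5,2,3⟩,
   ⟨4,6,0,3,6,3,3,0,1,0,5,6,0,6,6,2⟩,
   ⟨4,6,2,6,1,4,1,2,5,6,4,1,1,5,6,4⟩,
   ⟨4,6,4,6,6,3,6,3,4,6,3,1,6,3,1,4⟩,
   ⟨4,6,5,6,1,4,1,5,2,6,4,1,1,2,6,4⟩,
   ⟨4,6,6,6,6,3,6,1,5,2,2,1,2,2,1,5⟩,
   ⟨5,0,0,0,0,5,0,0,5,0,3,0,0,5,0,3⟩,
   ⟨5,0,3,1,0,5,6,3,2,4,2,0,3,2,0,2⟩,
   ⟨5,0,3,6,0,5,1,3,2,3,2,0,4,2,0,2⟩,
   ⟨5,0,4,6,0,2,6,3,0,3,3,0,3,0,0,4⟩,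
   ⟨5,0,5,4,0,2,4,2,1,1,4,5,1,6,5,3⟩,
   ⟨5,1,0,4,6,5,3,0,1,0,6,1,0,1,6,6⟩,
   ⟨5,1,0,5,6,5,2,0,1,2,6,4,5,1,3,6⟩,
   ⟨5,1,1,1,1,2,1,6,4,5,2,6,5,3,6,5⟩,
   ⟨5,1,3,0,1,2,0,4,2,3,2,6,3,5,6,5⟩,
   ⟨5,1,6,2,1,2,2,1,3,5,1,6,5,4,6,6⟩,
   ⟨5,2,0,6,5,5,1,0,1,2,6,3,5,1,4,6⟩,
   ⟨5,2,1,5,2,2,5,6,1,5,6,0,5,6,0,1⟩,
   ⟨5,2,2,4,5,5,3,2,6,1,6,0,6,6,0,6⟩,
   ⟨5,2,4,2,5,5,5,4,5,6,1,5,1,5,2,1⟩,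
   ⟨5,2,5,4,2,2,4,2,3,1,6,0,1,4,0,1⟩,
   ⟨5,3,0,1,3,2,1,0,6,5,4,2,5,1,2,3⟩,
   ⟨5,3,1,3,4,5,4,1,4,0,2,4,0,4,3,2⟩,
   ⟨5,3,2,5,3,2,5,5,6,1,6,6,1,1,6,1⟩,
   ⟨5,3,5,4,3,2,4,2,0,4,3,4,4,0,4,4⟩,
   ⟨5,3,6,3,4,5,4,6,5,0,3,4,0,5,3,3⟩,
   ⟨5,4,0,2,4,2,2,0,6,5,4,1,5,1,1,3⟩,
   ⟨5,4,1,4,3,5,3,1,4,0,2,3,0,4,4,2⟩,
   ⟨5,4,4,4,4,2,4,3,5,1,1,3,1,2,3,6⟩,
   ⟨5,4,5,4,4,2,4,2,0,0,2,3,0,0,3,5⟩,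
   ⟨5,4,6,4,3,5,3,6,5,0,3,3,0,5,4,3⟩,
   ⟨5,5,0,1,2,5,6,0,1,5,6,4,2,1,3,6⟩,
   ⟨5,5,2,0,5,2,0,5,6,3,6,4,3,1,4,1⟩,
   ⟨5,5,2,3,2,5,4,2,6,6,6,0,1,6,0,6⟩,
   ⟨5,5,3,4,5,2,4,4,2,1,2,2,1,5,2,5⟩,
   ⟨5,5,4,5,2,5,2,4,5,1,1,2,6,5,5,1⟩,
   ⟨5,6,0,0,6,2,0,0,1,4,6,3,4,6,3,1⟩,
   ⟨5,6,0,2,1,5,5,0,1,5,6,3,2,1,4,6⟩,
   ⟨5,6,0,3,1,5,4,0,1,0,6,6,0,1,1,6⟩,
   ⟨5,6,0,4,6,2,4,0,6,0,4,6,0,1,6,3⟩,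
   ⟨5,6,6,6,6,2,6,1,5,2,3,1,2,2,1,4⟩,
   ⟨6,0,0,0,0,6,0,0,0,0,6,0,0,0,0,6⟩,
   ⟨6,0,2,3,0,1,3,5,4,6,5,2,6,3,2,2⟩,
   ⟨6,0,5,3,0,6,4,5,1,6,5,2,1,1,5,5⟩,
   ⟨6,0,5,4,0,6,3,5,1,1,5,5,6,1,2,5⟩,
   ⟨6,0,6,2,0,1,2,1,6,2,5,2,2,1,2,2⟩,
   ⟨6,1,0,3,6,6,4,0,6,0,5,1,0,6,6,5⟩,
   ⟨6,1,1,2,6,6,5,1,2,5,1,6,2,2,1,1⟩,
   ⟨6,1,2,1,6,6,6,2,0,1,1,6,6,0,1,1⟩,
   ⟨6,1,4,6,1,1,6,3,6,6,3,4,6,1,4,4⟩,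
   ⟨6,1,6,2,1,1,2,1,3,5,2,6,5,4,6,5⟩,
   ⟨6,2,0,1,2,1,1,0,2,2,1,5,2,5,5,6⟩,
   ⟨6,2,2,2,2,1,2,5,0,1,1,5,1,0,5,6⟩,
   ⟨6,2,3,2,5,6,5,3,0,6,1,5,1,0,2,1⟩,
   ⟨6,2,4,2,5,6,5,4,5,6,2,5,1,5,2,2⟩,
   ⟨6,2,6,2,2,1,2,1,4,6,1,5,6,3,5,6⟩,
   ⟨6,3,0,0,3,1,0,0,6,3,5,6,3,1,6,2⟩,
   ⟨6,3,0,1,4,6,6,0,6,5,5,2,2,6,5,5⟩,
   ⟨6,3,0,2,3,1,2,0,2,2,1,4,2,5,4,6⟩,
   ⟨6,3,0,5,4,6,2,0,6,2,5,6,5,6,1,5⟩,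
   ⟨6,3,3,3,3,1,3,4,0,6,1,4,6,0,4,6⟩,
   ⟨6,4,0,2,3,6,5,0,6,5,5,1,2,6,6,5⟩,
   ⟨6,4,0,6,3,6,1,0,6,2,5,5,5,6,2,5⟩,
   ⟨6,4,3,1,4,1,1,4,3,1,4,1,1,4,1,3⟩,
   ⟨6,4,4,4,4,1,4,3,5,1,2,3,1,2,3,5⟩,
   ⟨6,4,5,0,4,1,0,2,1,4,5,5,4,6,5,2⟩,
   ⟨6,5,0,4,5,1,4,0,2,4,1,2,4,5,2,6⟩,
   ⟨6,5,1,6,5,1,6,6,2,3,1,2,3,5,2,6⟩,
   ⟨6,5,3,5,2,6,2,3,0,1,1,2,6,0,5,1⟩,
   ⟨6,5,4,5,2,6,2,4,5,1,2,2,6,5,5,2⟩,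
   ⟨6,5,6,2,5,1,2,1,4,2,3,0,2,3,0,4⟩,
   ⟨6,6,0,4,1,6,3,0,6,0,5,6,0,6,1,5⟩,
   ⟨6,6,1,0,6,1,0,6,2,3,1,1,3,5,1,6⟩,
   ⟨6,6,1,5,1,6,2,1,2,2,1,1,5,2,6,1⟩,
   ⟨6,6,2,6,1,6,1,2,0,6,1,1,1,0,6,1⟩,
   ⟨6,6,5,2,6,1,2,2,1,6,5,3,6,6,3,2⟩]

/-- boolean membership in `elts` -/
def memE (m : M4) : Bool := force m fun m' => elts.any (fun e => beq e m')

/-- `elts` is closed under left multiplication by the generators and their inverses -/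
def closedCheck : Bool :=
  elts.all (fun m => memE (mul g8 m) && memE (mul g10 m) && memE (mul g12 m) &&
    memE (mul g8i m) && memE (mul g10i m) && memE (mul g12i m))

/-- the order certificate of a code -/
def certCheck (m : M4) : Bool :=
  force (mul m m) fun m2 => force (mul m2 m) fun m3 => force (mul m2 m2) fun m4 =>
  force (mul m4 m) fun m5 => force (mul m3 m3) fun m6 =>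
  beq m one || beq m negOne || beq m2 negOne || beq m3 negOne ||
  beq m4 negOne || beq m5 negOne || beq m6 negOne ||
  beq (add one (add m m2)) zero ||
  beq (add (add one (add m m2)) (add m3 m4)) zero

set_option maxRecDepth 100000 in
theorem closedCheck_eq : closedCheck = true := by decide +kernel

set_option maxRecDepth 100000 in
theorem certAll : elts.all certCheck = true := by decide +kernel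

theorem g8_inv : mul g8 g8i = one ∧ mul g8i g8 = one := ⟨eq_of_beq (by decide +kernel), eq_of_beq (by decide +kernel)⟩
theorem g10_inv : mul g10 g10i = one ∧ mul g10i g10 = one := ⟨eq_of_beq (by decide +kernel), eq_of_beq (by decide +kernel)⟩
theorem g12_inv : mul g12 g12i = one ∧ mul g12i g12 = one := ⟨eq_of_beq (by decide +kernel), eq_of_beq (by decide +kernel)⟩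
theorem g8_pow : mul (mul g8 g8) (mul g8 g8) = negOne := eq_of_beq (by decide +kernel)
theorem g10_pow : mul (mul (mul g10 g10) (mul g10 g10)) g10 = negOne := eq_of_beq (by decide +kernel)
theorem g12_pow : mul (mul (mul g12 g12) g12) (mul (mul g12 g12) g12) = negOne := eq_of_beq (by decide +kernel)
theorem g12_sq : mul g12 g12 = ⟨4,5,0,4,2,4,3,0,0,4,4,2,3,0,5,4⟩ := eq_of_beq (by decide +kernel)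
theorem one_mem_elts : one ∈ elts := by
  have h : memE one = true := by decide +kernel
  rw [memE, force_eq, List.any_eq_true] at h
  obtain ⟨e, he, hb⟩ := h
  rw [← eq_of_beq hb]
  exact he

end Cfsg.Agent.Lib.Helper58.TwoS5
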