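import Mathlib

set_option autoImplicit false

namespace Cfsg.Agent.Lib.Helper58

open Polynomial Module

section poly
variable (p : ℕ) [Fact p.Prime]

/-- `(X - 1)^(p^k) = X^(p^k) - 1` over `ZMod p`. -/
theorem X_sub_one_pow_char_pow (k : ℕ) :
    ((X : (ZMod p)[X]) - 1) ^ (p ^ k) = X ^ (p ^ k) - 1 := by
  rw [sub_pow_char_pow, one_pow]

/-- geometric sum in characteristic `p`: `∑_{i < p^k} X^i = (X - 1)^(p^k - 1)`. -/
theorem geom_sum_X_char_pow (k : ℕ) :
    (∑ i ∈ Finset.range (p ^ k), (X : (ZMod p)[X]) ^ i) = (X - 1) ^ (p ^ k - 1) := by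
  have h1 : (∑ i ∈ Finset.range (p ^ k), (X : (ZMod p)[X]) ^ i) * (X - 1) = X ^ (p ^ k) - 1 :=
    geom_sum_mul X (p ^ k)
  have hpos : 0 < p ^ k := pow_pos (Fact.out : p.Prime).pos k
  have h2 : ((X : (ZMod p)[X]) - 1) ^ (p ^ k - 1) * (X - 1) = X ^ (p ^ k) - 1 := by
    rw [← pow_succ, Nat.sub_add_cancel hpos, X_sub_one_pow_char_pow]
  have hne : (X : (ZMod p)[X]) - 1 ≠ 0 := X_sub_C_ne_zero (1 : ZMod p)
  exact mul_right_cancel₀ hne (h1.trans h2.symm)

end poly

section module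
variable (p : ℕ) [Fact p.Prime] {A : Type*} [AddCommGroup A] [Module (ZMod p) A]

/-- If `c^(p^r) = 1` on a `ZMod p`-module with `p^m` elements, then `(c - 1)^m = 0`. -/
theorem sub_one_pow_eq_zero [Finite A] (c : Module.End (ZMod p) A) (r : ℕ) (hc : c ^ (p ^ r) = 1)
    (m : ℕ) (hcard : Nat.card A = p ^ m) : (c - 1) ^ m = 0 := by
  have hnil : IsNilpotent (c - 1) := by
    refine ⟨p ^ r, ?_⟩
    have h := congrArg (aeval c) (X_sub_one_pow_char_pow p r)
    simpa [hc] using h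
  have hfin : Module.Finite (ZMod p) A := Module.Finite.of_finite
  have hcharpoly := hnil.charpoly_eq_X_pow_finrank
  have hCH := LinearMap.aeval_self_charpoly (c - 1)
  rw [hcharpoly] at hCH
  simp only [map_pow, aeval_X] at hCH
  have hm : finrank (ZMod p) A = m := by
    have h1 := Module.natCard_eq_pow_finrank (K := ZMod p) (V := A)
    rw [Nat.card_zmod, hcard] at h1
    exact (Nat.pow_right_injective (Fact.out : p.Prime).two_le h1).symm
  rw [hm] at hCH
  exact hCH

/-- If `c^(p^r) = 1` on a `ZMod p`-module with `p^m` elements and `m < p^k`, then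
`∑_{i < p^k} c^i = 0`. -/
theorem geom_sum_eq_zero [Finite A] (c : Module.End (ZMod p) A) (r : ℕ) (hc : c ^ (p ^ r) = 1)
    (m : ℕ) (hcard : Nat.card A = p ^ m) (k : ℕ) (hk : m < p ^ k) :
    ∑ i ∈ Finset.range (p ^ k), c ^ i = 0 := by
  have h := congrArg (aeval c) (geom_sum_X_char_pow p k)
  simp only [map_sum, map_pow, aeval_X, map_sub, map_one] at h
  rw [h]
  have hle : m ≤ p ^ k - 1 := by omega
  obtain ⟨d, hd⟩ := Nat.exists_eq_add_of_le hle
  rw [hd, pow_add, sub_one_pow_eq_zero p c r hc m hcard, zero_mul]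

end module

end Cfsg.Agent.Lib.Helper58
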