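import Mathlib
import Cfsg.Prelude.Def_Solvable
import Cfsg.Agent.Lib.Helper50.ChermakDelgado

/-!
# Consequences of Glauberman's Z*-theorem for involutions with prime-power products

Helper library of seat helper58 (statements S5560, S5561, S1618).  Everything here is proved
from an explicit hypothesis `ZStarHyp G`, the exact statement of Glauberman's Z*-theorem for
the group `G`.
-/

set_option autoImplicit false
set_option linter.style.haveILetI false
open scoped Pointwise commutatorElement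

namespace Cfsg.Agent.Lib.Helper58.ZStarProd

/-- The exact statement of Glauberman's Z*-theorem for a fixed group `G`. -/
def ZStarHyp (G : Type*) [Group G] [Finite G] : Prop :=
  ∀ (P : Sylow 2 G) (u : G), orderOf u = 2 → u ∈ P →
    (∀ g : G, g * u * g⁻¹ ∈ P → g * u * g⁻¹ = u) →
    ∃ N : Subgroup G, N.Normal ∧ Odd (Nat.card N) ∧ ∀ g : G, (u * g * u⁻¹ * g⁻¹) ∈ N

theorem mem_conjOf {G : Type*} [Group G] {a b : G} : b ∈ conjugatesOf a ↔ IsConj a b := Iff.rfl

/-- An involutory automorphism of a group of odd order fixes a Sylow `r`-subgroup. -/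
theorem exists_invariant_sylow {K : Type*} [Group K] [Finite K] (hodd : Odd (Nat.card K))
    (σ : MulAut K) (hσ : σ * σ = 1) (r : ℕ) [Fact r.Prime] :
    ∃ Q : Sylow r K, ∀ y ∈ Q, σ y ∈ Q := by
  classical
  let A : Subgroup (MulAut K) := Subgroup.zpowers σ
  have hA : IsPGroup 2 A := by
    rintro ⟨a, ha⟩
    obtain ⟨n, rfl⟩ := Subgroup.mem_zpowers_iff.mp ha
    refine ⟨1, ?_⟩
    apply Subtype.ext
    have h2 : σ ^ 2 = 1 := by rw [pow_two, hσ]
    show (σ ^ n) ^ 2 ^ 1 = 1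
    rw [pow_one, ← zpow_natCast, ← zpow_mul, mul_comm, zpow_mul, zpow_natCast, h2, one_zpow]
  have hcard : ¬ 2 ∣ Nat.card (Sylow r K) := by
    intro h
    obtain ⟨Q⟩ : Nonempty (Sylow r K) := inferInstance
    have h1 : Nat.card (Sylow r K) ∣ Nat.card K :=
      (Q.card_dvd_index).trans (Subgroup.index_dvd_card _)
    exact (Nat.not_even_iff_odd.mpr hodd) (even_iff_two_dvd.mpr (h.trans h1))
  obtain ⟨Q, hQ⟩ := IsPGroup.nonempty_fixed_point_of_prime_not_dvd_card (p := 2) (G := A) hA (Sylow r K) hcard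
  refine ⟨Q, fun y hy => ?_⟩
  have h2 : (⟨σ, Subgroup.mem_zpowers σ⟩ : A) • Q = Q := hQ _
  have h3 : σ • (Q : Subgroup K) = Q := by
    have := congrArg (fun S : Sylow r K => (S : Subgroup K)) h2
    exact this
  have h4 : σ • y ∈ σ • (Q : Subgroup K) := Subgroup.smul_mem_pointwise_smul y σ _ hy
  rw [h3] at h4
  exact h4


/-- If `σ` is an involutory automorphism of the odd-order group `K` and every `k⁻¹ σ(k)` is a
`p`-element, then all the `k⁻¹ σ(k)` lie in one Sylow `p`-subgroup. -/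
theorem exists_sylow_commutators {K : Type*} [Group K] [Finite K] (hodd : Odd (Nat.card K))
    {p : ℕ} [hp : Fact p.Prime] (σ : MulAut K) (hσ : σ * σ = 1)
    (hpow : ∀ k : K, ∃ j : ℕ, orderOf (k⁻¹ * σ k) = p ^ j) :
    ∃ P : Sylow p K, ∀ k : K, k⁻¹ * σ k ∈ P := by
  classical
  let C : Subgroup K := (σ.toMonoidHom).eqLocus (MonoidHom.id K)
  have hC : ∀ y : K, y ∈ C ↔ σ y = y := fun y => Iff.rfl
  -- for `r ≠ p` an invariant Sylow `r`-subgroup is centralized
  have hidx : ∀ r : ℕ, r.Prime → r ∣ C.index → r = p := by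
    intro r hr hdvd
    by_contra hne
    haveI : Fact r.Prime := ⟨hr⟩
    obtain ⟨Q, hQ⟩ := exists_invariant_sylow hodd σ hσ r
    have hQC : (Q : Subgroup K) ≤ C := by
      intro y hy
      rw [hC]
      have h1 : y⁻¹ * σ y ∈ (Q : Subgroup K) := mul_mem (inv_mem hy) (hQ y hy)
      obtain ⟨m, hm⟩ := (IsPGroup.iff_orderOf.mp Q.isPGroup') ⟨y⁻¹ * σ y, h1⟩
      rw [← Subgroup.orderOf_coe] at hm
      obtain ⟨j, hj⟩ := hpow y
      have hm' : orderOf (y⁻¹ * σ y) = r ^ m := hm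
      have hm0 : m = 0 := by
        by_contra hm0
        have h2 : r ∣ p ^ j := by
          rw [← hj, hm']
          exact dvd_pow_self r hm0
        exact hne ((Nat.prime_dvd_prime_iff_eq hr hp.out).mp (hr.dvd_of_dvd_pow h2))
      rw [hm0, pow_zero, orderOf_eq_one_iff] at hm'
      exact (inv_mul_eq_one.mp hm').symm
    have h3 : C.index ∣ (Q : Subgroup K).index := Subgroup.index_dvd_of_le hQC
    exact Q.not_dvd_index (hdvd.trans h3)
  have hidx0 : C.index ≠ 0 := Subgroup.index_ne_zero_of_finite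
  obtain ⟨j, hj⟩ : ∃ j : ℕ, C.index = p ^ j :=
    ⟨_, Nat.eq_prime_pow_of_unique_prime_dvd hidx0 (fun {d} hd hdvd => hidx d hd hdvd)⟩
  obtain ⟨P, hP⟩ := exists_invariant_sylow hodd σ hσ p
  refine ⟨P, ?_⟩
  -- counting: `K = C * P`
  have hprod := Cfsg.Agent.Lib.Helper50.card_mul_card_eq_card_inf_mul_card_mul C (P : Subgroup K)
  obtain ⟨m, hm⟩ := IsPGroup.iff_card.mp (P.isPGroup'.to_le (inf_le_right : C ⊓ (P : Subgroup K) ≤ P))
  obtain ⟨v, hv⟩ := IsPGroup.iff_card.mp P.isPGroup'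
  have hdvdC : p ^ m ∣ Nat.card C := by
    rw [← hm]
    exact Subgroup.card_dvd_of_le inf_le_left
  have hK1 : Nat.card C * p ^ j = Nat.card K := by rw [← hj]; exact C.card_mul_index
  have hK2 : p ^ v * (P : Subgroup K).index = Nat.card K := by
    rw [← hv]; exact (P : Subgroup K).card_mul_index
  have hcop : Nat.Coprime (p ^ (m + j)) (P : Subgroup K).index :=
    Nat.Coprime.pow_left _ ((Nat.Prime.coprime_iff_not_dvd hp.out).mpr P.not_dvd_index)
  have hle : p ^ (m + j) ∣ p ^ v := by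
    apply hcop.dvd_of_dvd_mul_right
    rw [hK2, ← hK1, pow_add]
    exact Nat.mul_dvd_mul hdvdC dvd_rfl
  have hle' : p ^ (m + j) ≤ p ^ v := Nat.le_of_dvd (pos_of_ne_zero (pow_ne_zero _ hp.out.ne_zero)) hle
  have hcardle : Nat.card K ≤ Nat.card ((C : Set K) * ((P : Subgroup K) : Set K) : Set K) := by
    have h5 : p ^ m * Nat.card K ≤ p ^ m * Nat.card ((C : Set K) * ((P : Subgroup K) : Set K) : Set K) := by
      rw [← hm, ← hprod, hm, hv, ← hK1]
      calc p ^ m * (Nat.card C * p ^ j) = Nat.card C * p ^ (m + j) := by rw [pow_add]; ring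
        _ ≤ Nat.card C * p ^ v := Nat.mul_le_mul_left _ hle'
    exact Nat.le_of_mul_le_mul_left h5 (pos_of_ne_zero (pow_ne_zero _ hp.out.ne_zero))
  have huniv : ((C : Set K) * ((P : Subgroup K) : Set K) : Set K) = Set.univ := by
    apply Set.eq_of_subset_of_ncard_le (Set.subset_univ _) _ (Set.toFinite _)
    rw [Set.ncard_univ, ← Nat.card_coe_set_eq]
    exact hcardle
  intro k
  have hk : k ∈ ((C : Set K) * ((P : Subgroup K) : Set K) : Set K) := by rw [huniv]; trivial
  obtain ⟨c, hc, x, hx, rfl⟩ := hk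
  have hc' : σ c = c := (hC c).mp hc
  have : (c * x)⁻¹ * σ (c * x) = x⁻¹ * σ x := by
    rw [map_mul, hc']; group
  rw [this]
  exact mul_mem (inv_mem hx) (hP x hx)


/-- **Main theorem** (from the Z*-theorem).  If `d` is an involution such that the product of any
two conjugates of `d` has `p`-power order (`p` odd), then these products all lie in one normal
`p`-subgroup. -/
theorem exists_normal_pGroup {G : Type*} [Group G] [Finite G] (hZ : ZStarHyp G) {p : ℕ}
    (hp : p.Prime) (hp2 : p ≠ 2) (d : G) (hd : orderOf d = 2)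
    (hprod : ∀ a ∈ conjugatesOf d, ∀ b ∈ conjugatesOf d, ∃ k : ℕ, orderOf (a * b) = p ^ k) :
    ∃ R : Subgroup G, R.Normal ∧ IsPGroup p R ∧
      ∀ a ∈ conjugatesOf d, ∀ b ∈ conjugatesOf d, a * b ∈ R := by
  classical
  haveI : Fact p.Prime := ⟨hp⟩
  have hdd : d * d = 1 := by rw [← pow_two, ← hd, pow_orderOf_eq_one]
  have hdinv : d⁻¹ = d := inv_eq_of_mul_eq_one_right hdd
  have hinvol : ∀ a ∈ conjugatesOf d, a⁻¹ = a := by
    intro a ha
    rw [mem_conjOf, isConj_iff] at ha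
    obtain ⟨c, rfl⟩ := ha
    rw [mul_inv_rev, mul_inv_rev, inv_inv, hdinv, mul_assoc]
  have hconjmem : ∀ c : G, c * d * c⁻¹ ∈ conjugatesOf d := by
    intro c
    rw [mem_conjOf, isConj_iff]; exact ⟨c, rfl⟩
  -- a Sylow 2-subgroup containing `d`
  have h2grp : IsPGroup 2 (Subgroup.zpowers d) :=
    IsPGroup.of_card (n := 1) (by rw [Nat.card_zpowers, hd, pow_one])
  obtain ⟨P, hP⟩ := h2grp.exists_le_sylow
  have hdP : d ∈ P := hP (Subgroup.mem_zpowers d)
  -- `d` is isolated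
  have hiso : ∀ g : G, g * d * g⁻¹ ∈ P → g * d * g⁻¹ = d := by
    intro g hg
    obtain ⟨k, hk⟩ := hprod _ (hconjmem g) d mem_conjugatesOf_self
    have hmem : g * d * g⁻¹ * d ∈ (P : Subgroup G) := mul_mem hg hdP
    obtain ⟨m, hm⟩ := (IsPGroup.iff_orderOf.mp P.isPGroup') ⟨_, hmem⟩
    rw [← Subgroup.orderOf_coe] at hm
    have hm' : orderOf (g * d * g⁻¹ * d) = 2 ^ m := hm
    have hk0 : k = 0 := by
      by_contra hk0
      have h2 : p ∣ 2 ^ m := by rw [← hm', hk]; exact dvd_pow_self p hk0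
      exact hp2 ((Nat.prime_dvd_prime_iff_eq hp Nat.prime_two).mp (hp.dvd_of_dvd_pow h2))
    rw [hk0, pow_zero, orderOf_eq_one_iff, mul_eq_one_iff_eq_inv, hdinv] at hk
    exact hk
  obtain ⟨N, hNn, hNodd, hN⟩ := hZ P d hd hdP hiso
  haveI := hNn
  let σ : MulAut N := MulAut.conjNormal d
  have hσ : σ * σ = 1 := by
    show MulAut.conjNormal d * MulAut.conjNormal d = 1
    rw [← map_mul, hdd, map_one]
  have hσapp : ∀ k : N, ((σ k : N) : G) = d * k * d⁻¹ := fun k => MulAut.conjNormal_apply d k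
  have hpow : ∀ k : N, ∃ j : ℕ, orderOf (k⁻¹ * σ k) = p ^ j := by
    intro k
    have hc : (k : G)⁻¹ * d * ((k : G)⁻¹)⁻¹ ∈ conjugatesOf d := hconjmem _
    obtain ⟨j, hj⟩ := hprod _ hc d mem_conjugatesOf_self
    refine ⟨j, ?_⟩
    rw [← Subgroup.orderOf_coe, ← hj]
    congr 1
    rw [Subgroup.coe_mul, Subgroup.coe_inv, hσapp, hdinv]; group
  obtain ⟨Pσ, hPσ⟩ := exists_sylow_commutators hNodd σ hσ hpow
  set P' : Subgroup G := (Pσ : Subgroup N).map N.subtype with hP'
  have hP'p : IsPGroup p P' := Pσ.isPGroup'.map N.subtype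
  -- every conjugate `a` of `d` satisfies `a * d ∈ P'`
  have had : ∀ a ∈ conjugatesOf d, a * d ∈ P' := by
    intro a ha
    have hainv := hinvol a ha
    rw [mem_conjOf, isConj_iff] at ha
    obtain ⟨g, rfl⟩ := ha
    -- `n = d g d⁻¹ g⁻¹ ∈ N`
    let n : N := ⟨d * g * d⁻¹ * g⁻¹, hN g⟩
    have hgn : g * d * g⁻¹ = d * (n : G) := by
      show g * d * g⁻¹ = d * (d * g * d⁻¹ * g⁻¹)
      rw [hdinv]
      calc g * d * g⁻¹ = (d * d) * (g * d * g⁻¹) := by rw [hdd, one_mul]
        _ = d * (d * g * d * g⁻¹) := by group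
    -- `σ n = n⁻¹`
    have hσn : σ n = n⁻¹ := by
      apply Subtype.ext
      rw [hσapp, Subgroup.coe_inv]
      have h1 : (d * (n : G)) * (d * (n : G)) = 1 := by
        rw [← hgn]
        calc g * d * g⁻¹ * (g * d * g⁻¹) = g * (d * d) * g⁻¹ := by group
          _ = 1 := by rw [hdd]; group
      rw [hdinv]
      have h2 : d * (n : G) * d * (n : G) = 1 := by rw [← h1]; group
      exact eq_inv_of_mul_eq_one_left h2
    -- a square root `y` of `n`
    have hnodd : Odd (orderOf n) := Odd.of_dvd_nat hNodd (orderOf_dvd_natCard n)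
    obtain ⟨t, ht⟩ := hnodd
    let y : N := n ^ (t + 1)
    have hyy : y * y = n := by
      show n ^ (t + 1) * n ^ (t + 1) = n
      rw [← pow_add]
      have : t + 1 + (t + 1) = orderOf n + 1 := by omega
      rw [this, pow_succ, pow_orderOf_eq_one, one_mul]
    have hσy : σ y = y⁻¹ := by
      show σ (n ^ (t + 1)) = (n ^ (t + 1))⁻¹
      rw [map_pow, hσn, inv_pow]
    have hmem : y⁻¹ * σ y ∈ Pσ := hPσ y
    have heq : g * d * g⁻¹ * d = ((y⁻¹ * σ y : N) : G) := by
      rw [hσy, ← mul_inv_rev, hyy, Subgroup.coe_inv]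
      have h3 : ((σ n : N) : G) = d * n * d⁻¹ := hσapp n
      rw [hσn, Subgroup.coe_inv, hdinv] at h3
      rw [h3, hgn]
    rw [heq]
    exact Subgroup.mem_map.mpr ⟨_, hmem, rfl⟩
  -- the set of products
  let S : Set G := {x | ∃ a ∈ conjugatesOf d, ∃ b ∈ conjugatesOf d, x = a * b}
  have hS : S ⊆ P' := by
    rintro x ⟨a, ha, b, hb, rfl⟩
    have h1 : a * b = (a * d) * (b * d)⁻¹ := by
      rw [mul_inv_rev, hdinv, hinvol b hb]
      calc a * b = a * (d * d) * b := by rw [hdd, mul_one]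
        _ = a * d * (d * b) := by group
    rw [h1]
    exact mul_mem (had a ha) (inv_mem (had b hb))
  have hSconj : Group.conjugatesOfSet S ⊆ S := by
    intro x hx
    rw [Group.mem_conjugatesOfSet_iff] at hx
    obtain ⟨x₀, ⟨a, ha, b, hb, rfl⟩, hconj⟩ := hx
    rw [isConj_iff] at hconj
    obtain ⟨c, rfl⟩ := hconj
    refine ⟨c * a * c⁻¹, ?_, c * b * c⁻¹, ?_, by group⟩
    · rw [mem_conjOf] at ha ⊢
      exact ha.trans (isConj_iff.mpr ⟨c, rfl⟩)
    · rw [mem_conjOf] at hb ⊢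
      exact hb.trans (isConj_iff.mpr ⟨c, rfl⟩)
  refine ⟨Subgroup.normalClosure S, Subgroup.normalClosure_normal, ?_, ?_⟩
  · have hle : Subgroup.normalClosure S ≤ P' := by
      show Subgroup.closure (Group.conjugatesOfSet S) ≤ P'
      rw [Subgroup.closure_le]
      exact hSconj.trans hS
    exact hP'p.to_le hle
  · intro a ha b hb
    exact Subgroup.subset_normalClosure ⟨a, ha, b, hb, rfl⟩


/-- Shape of S5560/S5561, from the Z*-theorem. -/
theorem prod_mem_pCore {G : Type*} [Group G] [Finite G] (hZ : ZStarHyp G) {p : ℕ}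
    (hp : p.Prime) (hp2 : p ≠ 2) (d : G) (hd : orderOf d = 2)
    (hprod : ∀ a ∈ conjugatesOf d, ∀ b ∈ conjugatesOf d, ∃ k : ℕ, orderOf (a * b) = p ^ k) :
    ∀ a ∈ conjugatesOf d, ∀ b ∈ conjugatesOf d, a * b ∈ Cfsg.pCore p G := by
  obtain ⟨R, hRn, hRp, hR⟩ := exists_normal_pGroup hZ hp hp2 d hd hprod
  intro a ha b hb
  have hle : R ≤ Cfsg.pCore p G := le_sSup ⟨hRn, hRp⟩
  exact hle (hR a ha b hb)

/-- Shape of S1618, from the Z*-theorem. -/
theorem commutator_nilpotent {G : Type*} [Group G] [Finite G] (hZ : ZStarHyp G) (p : ℕ)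
    (hp : p.Prime) (hodd : p ≠ 2) {D : Set G} (hinv : ∀ d ∈ D, orderOf d = 2)
    (hconj : ∃ d ∈ D, D = conjugatesOf d) (hgen : Subgroup.closure D = ⊤)
    (hprod : ∀ x ∈ D, ∀ y ∈ D, x ≠ y → ∃ k : ℕ, orderOf (x * y) = p ^ k) :
    Group.IsNilpotent ↥(commutator G) := by
  classical
  haveI : Fact p.Prime := ⟨hp⟩
  obtain ⟨d, hdD, hDd⟩ := hconj
  have hd : orderOf d = 2 := hinv d hdD
  have hprod' : ∀ a ∈ conjugatesOf d, ∀ b ∈ conjugatesOf d, ∃ k : ℕ, orderOf (a * b) = p ^ k := by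
    intro a ha b hb
    by_cases hab : a = b
    · refine ⟨0, ?_⟩
      subst hab
      have ha2 : orderOf a = 2 := hinv a (hDd ▸ ha)
      rw [pow_zero, orderOf_eq_one_iff, ← pow_two, ← ha2, pow_orderOf_eq_one]
    · exact hprod a (hDd ▸ ha) b (hDd ▸ hb) hab
  obtain ⟨R, hRn, hRp, hR⟩ := exists_normal_pGroup hZ hp hodd d hd hprod'
  haveI := hRn
  -- every element of `G` is congruent to a power of `d` modulo `R`
  have hpowd : ∀ g : G, ∃ n : ℤ, (QuotientGroup.mk g : G ⧸ R) = (QuotientGroup.mk d : G ⧸ R) ^ n := by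
    intro g
    have hg : g ∈ Subgroup.closure D := by rw [hgen]; trivial
    induction hg using Subgroup.closure_induction with
    | mem x hx =>
      refine ⟨1, ?_⟩
      rw [zpow_one, QuotientGroup.eq]
      -- `x⁻¹ * d ∈ R`
      have hx' : x ∈ conjugatesOf d := hDd ▸ hx
      have hxinv : x⁻¹ = x := by
        have hx2 : orderOf x = 2 := hinv x hx
        have : x * x = 1 := by rw [← pow_two, ← hx2, pow_orderOf_eq_one]
        exact inv_eq_of_mul_eq_one_right this
      rw [hxinv]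
      exact hR x hx' d mem_conjugatesOf_self
    | one => exact ⟨0, by rw [zpow_zero]; rfl⟩
    | mul x y _ _ hx hy =>
      obtain ⟨n, hn⟩ := hx
      obtain ⟨m, hm⟩ := hy
      exact ⟨n + m, by rw [QuotientGroup.mk_mul, hn, hm, zpow_add]⟩
    | inv x _ hx =>
      obtain ⟨n, hn⟩ := hx
      exact ⟨-n, by rw [QuotientGroup.mk_inv, hn, zpow_neg]⟩
  have hle : commutator G ≤ R := by
    rw [commutator_eq_closure, Subgroup.closure_le]
    rintro x ⟨g, h, rfl⟩
    show ⁅g, h⁆ ∈ R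
    rw [← QuotientGroup.eq_one_iff, commutatorElement_def]
    obtain ⟨n, hn⟩ := hpowd g
    obtain ⟨m, hm⟩ := hpowd h
    rw [QuotientGroup.mk_mul, QuotientGroup.mk_mul, QuotientGroup.mk_mul, QuotientGroup.mk_inv,
      QuotientGroup.mk_inv, hn, hm, ← zpow_add, ← zpow_neg, ← zpow_neg, ← zpow_add, ← zpow_add]
    have : n + m + -n + -m = 0 := by ring
    rw [this, zpow_zero]
  have hpg : IsPGroup p ↥(commutator G) := hRp.to_le hle
  exact hpg.isNilpotent

end Cfsg.Agent.Lib.Helper58.ZStarProd
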